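import Groth.Agent.Lib.DeltaEuler.Main
import Groth.Agent.Lib.DescLocus6.Frames
import Groth.Agent.Lib.Euler.GenericCompare
import Groth.Agent.Lib.Euler.Rank
import Groth.Agent.Lib.QCoh.SupportExact
import Groth.Agent.Lib.RedSmooth.Basic
import Groth.Prelude.Def_CurvBase

/-!
# Maps out of a pullback factor through locally free quotients of the same generic rank
-/

set_option autoImplicit false
set_option linter.all false
set_option backward.isDefEq.respectTransparency false

universe u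

open CategoryTheory CategoryTheory.Limits Opposite AlgebraicGeometry TopologicalSpace
open GrothLib.QCoh (stalkLin)

noncomputable section

namespace GrothLib.NodeFactor11

variable {X Y : Scheme.{u}}

theorem section_eq_zero_of_dense [AlgebraicGeometry.IsReduced Y] {E : Y.Modules} (hE : FlatMod.IsFinLocFree E)
    {O : Y.Opens} (hO : Dense (O : Set Y)) {T : Y.Opens} (s : Γ(E, T))
    (h : ∀ (y : Y) (hy : y ∈ T), y ∈ O → E.presheaf.germ T y hy s = 0) : s = 0 := by
  refine QCoh.section_eq_zero_of_germ E _ fun z hz => ?_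
  obtain ⟨U, n, e, hzU, he⟩ := FinCov.exists_frame_nhd hE z
  obtain ⟨c, hc⟩ := (he (T ⊓ U) inf_le_right).2 (E.presheaf.map (homOfLE (inf_le_left : T ⊓ U ≤ T)).op s)
  dsimp only at hc
  have hc0 : ∀ i, c i = 0 := fun i => by
    refine DeltaEuler.eq_zero_of_res_dense hO (inf_le_left : (T ⊓ U) ⊓ O ≤ T ⊓ U) le_rfl ?_
    refine TopCat.Presheaf.section_ext Y.sheaf _ _ _ fun y hy => ?_
    show Y.presheaf.germ _ y hy _ = Y.presheaf.germ _ y hy 0
    rw [TopCat.Presheaf.germ_res_apply, map_zero]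
    have h1 := congrArg (E.presheaf.germ (T ⊓ U) y hy.1) hc
    rw [TopCat.Presheaf.germ_res_apply, h y hy.1.1 hy.2, Euler.germ_sum_smul] at h1
    simp only [TopCat.Presheaf.germ_res_apply] at h1
    exact congrFun ((Euler.bijective_germ_comb he hy.1.2).1
      (a₁ := fun i => Y.presheaf.germ (T ⊓ U) y hy.1 (c i)) (a₂ := 0) (by simpa using h1)) i
  rw [← TopCat.Presheaf.germ_res_apply E.presheaf (homOfLE (inf_le_left : T ⊓ U ≤ T)) z ⟨hz, hzU⟩ s, ← hc]
  simp [hc0]

theorem exists_lift [AlgebraicGeometry.IsReduced Y] [IsLocallyNoetherian X] (π : Y ⟶ X) {r : ℕ} {F : X.Modules}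
    (hF : Coh.IsCoh F) (U : X.Opens) (hUd : Dense ((π ⁻¹ᵁ U : Y.Opens) : Set Y))
    (hfree : ∀ x : X, x ∈ U → Nonempty (F.presheaf.stalk x ≃ₗ[X.presheaf.stalk x] (Fin r → X.presheaf.stalk x)))
    {E₀ E : Y.Modules} (hE₀ : FlatMod.IsFinLocFreeOfRank r E₀) (hE : FlatMod.IsFinLocFree E)
    (p : (Scheme.Modules.pullback π).obj F ⟶ E₀) [Epi p] (φ : (Scheme.Modules.pullback π).obj F ⟶ E) :
    ∃ lam : E₀ ⟶ E, p ≫ lam = φ := by
  haveI := hF.1
  have hker : kernel.ι p ≫ φ = 0 := by
    refine Scheme.Modules.hom_ext _ _ fun T => AddCommGrpCat.ext fun s => ?_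
    refine section_eq_zero_of_dense hE hUd _ fun y hy hyU => ?_
    show E.presheaf.germ T y hy (φ.app T ((kernel.ι p).app T s)) = 0
    obtain ⟨ψ⟩ := hfree (π y) hyU
    obtain ⟨D, e, hxD, he⟩ := Euler.exists_frame_of_stalk_basis hF (Module.Basis.ofEquivFun ψ)
    have hp : y ∈ π ⁻¹ᵁ D := hxD
    obtain ⟨bs⟩ := Euler.stalk_basis_of_frame (DescLocus6.isFrame_pullRes π F he (le_refl (π ⁻¹ᵁ D))) hp
    obtain ⟨D', e', hyD', he'⟩ := FinCov.exists_frame_nhd_of_rank hE₀ y
    obtain ⟨b'⟩ := Euler.stalk_basis_of_frame he' hyD'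
    have hsurj := QCoh.stalkLin_surjective p y
    have hbij : Function.Bijective (stalkLin p y) := by
      let L := (b'.equivFun.trans bs.equivFun.symm).toLinearMap ∘ₗ stalkLin p y
      haveI : Module.Finite (Y.presheaf.stalk y) (((Scheme.Modules.pullback π).obj F).presheaf.stalk y) :=
        Module.Finite.of_basis bs
      have hL : Function.Bijective L := OrzechProperty.bijective_of_surjective_endomorphism _
        ((b'.equivFun.trans bs.equivFun.symm).surjective.comp hsurj)
      exact ⟨fun a b h => hL.1 (show L a = L b from congrArg (b'.equivFun.trans bs.equivFun.symm) h), hsurj⟩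
    rw [← QCoh.stalkLin_germ φ hy]
    have h0 : stalkLin p y (((Scheme.Modules.pullback π).obj F).presheaf.germ T y hy ((kernel.ι p).app T s)) = 0 := by
      rw [QCoh.stalkLin_germ, show p.app T ((kernel.ι p).app T s) = (kernel.ι p ≫ p).app T s from rfl, kernel.condition]
      exact map_zero _
    rw [hbij.1 (h0.trans (map_zero (stalkLin p y)).symm), map_zero]
  exact ⟨Abelian.epiDesc p φ hker, Abelian.comp_epiDesc p φ hker⟩

theorem existsUnique_lift [AlgebraicGeometry.IsReduced Y] [IsLocallyNoetherian X] (π : Y ⟶ X) {r : ℕ} {F : X.Modules}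
    (hF : Coh.IsCoh F) (U : X.Opens) (hUd : Dense ((π ⁻¹ᵁ U : Y.Opens) : Set Y))
    (hfree : ∀ x : X, x ∈ U → Nonempty (F.presheaf.stalk x ≃ₗ[X.presheaf.stalk x] (Fin r → X.presheaf.stalk x)))
    {E₀ E : Y.Modules} (hE₀ : FlatMod.IsFinLocFreeOfRank r E₀) (hE : FlatMod.IsFinLocFree E)
    (p : (Scheme.Modules.pullback π).obj F ⟶ E₀) [Epi p] (f : F ⟶ (Scheme.Modules.pushforward π).obj E) :
    ∃! lam : E₀ ⟶ E, (Scheme.Modules.pullbackPushforwardAdjunction π).unit.app F ≫
      (Scheme.Modules.pushforward π).map p ≫ (Scheme.Modules.pushforward π).map lam = f := by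
  let adj := Scheme.Modules.pullbackPushforwardAdjunction π
  obtain ⟨lam, hlam⟩ := exists_lift π hF U hUd hfree hE₀ hE p ((adj.homEquiv F E).symm f)
  refine ⟨lam, ?_, fun l hl => ?_⟩
  · show adj.unit.app F ≫ _ ≫ _ = f
    rw [← Functor.map_comp, hlam]
    exact ((adj.homEquiv_unit F E _).symm).trans (Equiv.apply_symm_apply _ _)
  · rw [← cancel_epi p, hlam]
    apply (adj.homEquiv F E).injective
    rw [Equiv.apply_symm_apply, Adjunction.homEquiv_unit, Functor.map_comp]
    exact hl

end GrothLib.NodeFactor11
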