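import Groth.Agent.Lib.TFCurv11.SubGerm
import Groth.Agent.Lib.Euler.GenericCompare
import Groth.Agent.Lib.Euler.Rank
import Groth.Agent.Lib.Euler.Vanish
import Groth.Agent.Lib.OmegaFree.Basic
import Groth.Agent.Lib.QCoh.SupportExact
import Groth.Agent.Lib.TFCurve11.Basic
import Groth.Agent.Lib.NormFlat11.Nodal
import Groth.Agent.Lib.NodeEt.Geom
import Groth.Agent.Lib.NodeAlg11.Basic
import Groth.Agent.Lib.CycDiv.Stalk
import Groth.Agent.Lib.CurvePoints.Basic

/-!
# Locally free modules around modules of node type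
-/

set_option autoImplicit false
set_option linter.all false
set_option backward.isDefEq.respectTransparency false

universe u

open CategoryTheory CategoryTheory.Limits Opposite AlgebraicGeometry TopologicalSpace
open GrothLib.QCoh (stalkLin rr)
open GrothLib.SubGerm11
open GrothLib.FinCov (IsFrame)

noncomputable section

namespace GrothLib.NodeLattice11

variable {X : Scheme.{u}}

theorem isField_of_generalizes [AlgebraicGeometry.IsReduced X] (hd : topologicalKrullDim X ≤ 1) {x c : X}
    (hc : c ⤳ x) (hne : c ≠ x) : IsField (X.presheaf.stalk c) := by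
  refine TFCurve11.isField_stalk_of_maximal c fun z hz => ?_
  by_contra hzc
  have h1 : x < c := lt_iff_le_not_ge.2 ⟨hc, fun h => hne (Specializes.antisymm hc h).eq⟩
  have h2 : c < z := lt_iff_le_not_ge.2 ⟨hz, fun h => hzc (Specializes.antisymm hz h).eq⟩
  let s : LTSeries X := ((RelSeries.singleton _ x).snoc c h1).snoc z (by simpa using h2)
  have h := (Order.LTSeries.length_le_krullDim s).trans ((Order.krullDim_eq_of_orderIso
    (irreducibleSetEquivPoints (α := ↥X))).symm.le.trans hd)
  simp [s] at h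

theorem finite_of_closed_points [NoetherianSpace X] {Z : Set X} (hZ : IsClosed Z)
    (h : ∀ z ∈ Z, IsClosed ({z} : Set X)) : Z.Finite := by
  obtain ⟨S, hS, hSirr, hcl, hcov⟩ := NoetherianSpace.exists_finite_set_isClosed_irreducible hZ
  rw [hcov]
  refine hS.sUnion fun C hC => ?_
  obtain ⟨c, hc⟩ := QuasiSober.sober (hcl C hC) (hSirr C hC)
  rw [← hc.def, (h c (hcov ▸ Set.subset_sUnion_of_mem hC hc.mem)).closure_eq]
  exact Set.finite_singleton c

/-- Near a closed point with a nonzerodivisor `f` in its maximal ideal, `f` only vanishes at the point. -/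
theorem exists_nhd_vanishing_only [AlgebraicGeometry.IsReduced X] [NoetherianSpace X]
    (hd : topologicalKrullDim X ≤ 1) {x : X} (hx : IsClosed ({x} : Set X)) {V : X.Opens} (hxV : x ∈ V)
    (f : Γ(X, V)) (hf : X.presheaf.germ V x hxV f ∈ nonZeroDivisors (X.presheaf.stalk x)) :
    ∃ W : X.Opens, W ≤ V ∧ x ∈ W ∧ ∀ y ∈ W, y ≠ x → y ∈ X.basicOpen f := by
  have hZ : IsClosed ((X.basicOpen f : Set X)ᶜ) := (X.basicOpen f).2.isClosed_compl
  obtain ⟨S, hS, hSirr, hcl, hcov⟩ := NoetherianSpace.exists_finite_set_isClosed_irreducible hZ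
  let B : Set X := ⋃₀ {C ∈ S | x ∉ C}
  have hB : IsClosed B := by
    rw [show B = ⋃ C ∈ {C ∈ S | x ∉ C}, C from Set.sUnion_eq_biUnion]
    exact (hS.subset fun C hC => hC.1).isClosed_biUnion fun C hC => hSirr C hC.1
  refine ⟨V ⊓ ⟨Bᶜ, hB.isOpen_compl⟩, inf_le_left, ⟨hxV, fun ⟨C, hC, hxC⟩ => hC.2 hxC⟩, fun y hy hne => ?_⟩
  by_contra hyf
  obtain ⟨C, hC, hyC⟩ := (show y ∈ ⋃₀ S from hcov ▸ hyf)
  have hxC : x ∈ C := by_contra fun h => hy.2 ⟨C, ⟨hC, h⟩, hyC⟩
  obtain ⟨c, hc⟩ := QuasiSober.sober (hcl C hC) (hSirr C hC)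
  have hcx : c ⤳ x := hc.specializes hxC
  by_cases hce : c = x
  · subst hce
    exact hne (by
      have : y ∈ closure ({c} : Set X) := hc.def.symm ▸ hyC
      rwa [hx.closure_eq] at this)
  have hcf : c ∉ X.basicOpen f := by
    have h : c ∈ ⋃₀ S := Set.subset_sUnion_of_mem hC hc.mem
    rw [← hcov] at h
    exact h
  have hcV : c ∈ V := hcx.mem_open V.2 hxV
  have h0 : X.presheaf.germ V c hcV f = 0 := by
    by_contra h
    exact hcf ((Scheme.mem_basicOpen _ f c hcV).mpr
      (let := (isField_of_generalizes hd hcx hce).toField; isUnit_iff_ne_zero.2 h))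
  letI := (X.presheaf.stalkSpecializes hcx).hom.toAlgebra
  haveI := GrothLib.CycDiv.isLocalization_stalkSpecializes hcx
  have h1 : algebraMap (X.presheaf.stalk x) (X.presheaf.stalk c) (X.presheaf.germ V x hxV f) = 0 :=
    (TopCat.Presheaf.germ_stalkSpecializes_apply X.presheaf hxV hcx f).trans h0
  obtain ⟨d, hd0⟩ := (IsLocalization.map_eq_zero_iff (GrothLib.CycDiv.primeOf hcx).primeCompl _ _).1 h1
  have hd1 : (d : X.presheaf.stalk x) = 0 := mul_right_mem_nonZeroDivisors_eq_zero_iff hf |>.1 hd0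
  exact d.2 (hd1 ▸ zero_mem _)

variable (k : Type u) [Field k] [X.Over (Spec (CommRingCat.of k))] [IsProper (X ↘ Spec (CommRingCat.of k))]

include k in
theorem exists_nzd_node {x : X} (hx : Curv2.IsNode k X x) [AlgebraicGeometry.IsReduced X] :
    ∃ s : X.presheaf.stalk x, s ∈ IsLocalRing.maximalIdeal (X.presheaf.stalk x) ∧
      s ∈ nonZeroDivisors (X.presheaf.stalk x) := by
  haveI : IsLocallyNoetherian X := LocallyOfFiniteType.isLocallyNoetherian (X ↘ Spec (CommRingCat.of k))
  obtain ⟨-, -, hnf⟩ := (NodeEt.isNode_iff_nodeForm (X ↘ Spec (CommRingCat.of k)) x).1 hx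
  refine NodeAlg11.exists_nonZeroDivisor fun hbot => ?_
  have h2 := hnf.1 2
  have h1 : GrothLib.NodeEt.lev (X.presheaf.stalk x) 2 = GrothLib.NodeEt.lev (X.presheaf.stalk x) 1 := by
    rw [GrothLib.NodeEt.lev, GrothLib.NodeEt.lev, hbot, Ideal.bot_pow (by norm_num), pow_one]
  rw [h1, NodeEt.lev_one] at h2
  exact absurd (Nat.cast_inj.1 (h2.trans rfl : ((1 : ℕ) : ℕ∞) = ((2 * 2 - 1 : ℕ) : ℕ∞))) (by norm_num)

variable {r : ℕ} {F : X.Modules} (a : X → ℕ)

/-- Stalk data at one node. -/
theorem exists_node_data (hd : topologicalKrullDim X ≤ 1) [AlgebraicGeometry.IsReduced X] (hF : Coh.IsCoh F)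
    (U : X.Opens) (hU : ∀ x : X, x ∈ U ↔ ¬ Curv2.IsNode k X x) {x : X} (hx : Curv2.IsNode k X x)
    (e : F.presheaf.stalk x ≃ₗ[X.presheaf.stalk x]
      ((Fin (a x) → X.presheaf.stalk x) × (Fin (r - a x) → IsLocalRing.maximalIdeal (X.presheaf.stalk x)))) :
    ∃ (W : X.Opens) (hxW : x ∈ W) (f : Γ(X, W)) (z : Fin (a x) ⊕ Fin (r - a x) → Γ(F, W))
      (hfm : X.presheaf.germ W x hxW f ∈ IsLocalRing.maximalIdeal (X.presheaf.stalk x)),
      X.presheaf.germ W x hxW f ∈ nonZeroDivisors (X.presheaf.stalk x) ∧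
      (∀ y : X, y ∈ W → y ≠ x → y ∈ U) ∧ (∀ (y : X) (hy : y ∈ W), y ≠ x → IsUnit (X.presheaf.germ W y hy f)) ∧
      (∀ (y : X) (hy : y ∈ W), y ≠ x → germSpan (Set.range z) y hy = ⊤) ∧
      (∀ i, e (F.presheaf.germ W x hxW (z (Sum.inl i))) = (Pi.single i 1, 0)) ∧
      (∀ j, e (F.presheaf.germ W x hxW (z (Sum.inr j))) =
        (0, Pi.single j (⟨X.presheaf.germ W x hxW f, hfm⟩ : IsLocalRing.maximalIdeal (X.presheaf.stalk x)))) := by
  classical
  haveI := hF.1
  haveI : IsLocallyNoetherian X := LocallyOfFiniteType.isLocallyNoetherian (X ↘ Spec (CommRingCat.of k))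
  haveI := Euler.isNoetherian_of_proper (X := X) k
  obtain ⟨s, hsm, hs⟩ := exists_nzd_node k hx
  obtain ⟨V₀, hxV₀, f₀, rfl⟩ := TopCat.Presheaf.exists_germ_eq X.presheaf s
  -- the other nodes
  have hBcl : IsClosed ((U : Set X)ᶜ \ {x}) := by
    have hfin : ((U : Set X)ᶜ).Finite := finite_of_closed_points U.2.isClosed_compl fun z hz =>
      (not_not.1 (mt (hU z).2 hz)).1
    rw [← Set.biUnion_of_singleton ((U : Set X)ᶜ \ {x})]
    exact hfin.sdiff.isClosed_biUnion fun y hy => (not_not.1 (mt (hU y).2 hy.1)).1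
  let g : Fin (a x) ⊕ Fin (r - a x) → F.presheaf.stalk x := Sum.elim (fun i => e.symm (Pi.single i 1, 0))
    fun j => e.symm (0, Pi.single j ⟨X.presheaf.germ V₀ x hxV₀ f₀, hsm⟩)
  choose T hxT z₀ hz₀ using fun i => TopCat.Presheaf.exists_germ_eq F.presheaf (g i)
  let V₁ : X.Opens := ⟨⋂ i, (T i : Set X), isOpen_iInter_of_finite fun i => (T i).isOpen⟩
  obtain ⟨V, hV, hxV, hVle⟩ := exists_isAffineOpen_mem_and_subset (x := x)
    (U := V₀ ⊓ V₁ ⊓ ⟨((U : Set X)ᶜ \ {x})ᶜ, hBcl.isOpen_compl⟩) ⟨⟨hxV₀, Set.mem_iInter.2 hxT⟩, fun h => h.2 rfl⟩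
  have hVV₀ : V ≤ V₀ := fun y hy => (hVle hy).1.1
  have hVT : ∀ i, V ≤ T i := fun i y hy => Set.mem_iInter.1 (hVle hy).1.2 i
  let f := X.presheaf.map (homOfLE hVV₀).op f₀
  let z : Fin (a x) ⊕ Fin (r - a x) → Γ(F, V) := fun i => rr (hVT i) (z₀ i)
  have hgz : ∀ i, F.presheaf.germ V x hxV (z i) = g i := fun i => (germ_rr _ _ _ _).trans (hz₀ i)
  have hf : X.presheaf.germ V x hxV f = X.presheaf.germ V₀ x hxV₀ f₀ := TopCat.Presheaf.germ_res_apply _ _ _ _ _
  have hkill : ∀ v : F.presheaf.stalk x, X.presheaf.germ V x hxV f • v ∈ germSpan (Set.range z) x hxV := by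
    intro v
    have hmem : ∀ i, g i ∈ germSpan (Set.range z) x hxV := fun i =>
      Submodule.subset_span ⟨_, ⟨i, rfl⟩, hgz i⟩
    have hdec : X.presheaf.germ V x hxV f • v =
        (∑ i, (X.presheaf.germ V x hxV f * (e v).1 i) • g (Sum.inl i)) +
          ∑ j, ((e v).2 j : X.presheaf.stalk x) • g (Sum.inr j) := by
      apply e.injective
      rw [map_smul, map_add, map_sum, map_sum]
      simp only [g, Sum.elim_inl, Sum.elim_inr, map_smul, e.apply_symm_apply]
      refine Prod.ext ?_ ?_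
      · funext i
        simp [Prod.fst_sum, Finset.sum_apply, Pi.single_apply]
      · funext j
        refine Subtype.ext ?_
        simp [Prod.snd_sum, Finset.sum_apply, Pi.single_apply, hf, mul_comm]
    rw [hdec]
    exact add_mem (Submodule.sum_mem _ fun i _ => Submodule.smul_mem _ _ (hmem _))
      (Submodule.sum_mem _ fun j _ => Submodule.smul_mem _ _ (hmem _))
  -- spread the denominators
  obtain ⟨S, hS⟩ := (QCoh.moduleFinite_of_isFiniteType F hF.2 hV).fg_top
  choose T' hT' hT'' hxT' hm using fun w : S => exists_nhd_mem_span (S := Set.range z) hxV hxV (s := f • w.1)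
    (by rw [WeakAss.germ_smul]; exact hkill _)
  obtain ⟨W₀, hW₀V, hxW₀, hW₀⟩ := exists_nhd_vanishing_only hd hx.1 hxV f (by rw [hf]; exact hs)
  let W : X.Opens := W₀ ⊓ ⟨⋂ w, (T' w : Set X), isOpen_iInter_of_finite fun w => (T' w).isOpen⟩
  have hxW : x ∈ W := ⟨hxW₀, Set.mem_iInter.2 hxT'⟩
  have hWV : W ≤ V := inf_le_left.trans hW₀V
  have hgerm : ∀ (y : X) (hy : y ∈ W), X.presheaf.germ W y hy (X.presheaf.map (homOfLE hWV).op f) =
      X.presheaf.germ V y (hWV hy) f := fun y hy => TopCat.Presheaf.germ_res_apply _ _ _ _ _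
  refine ⟨W, hxW, X.presheaf.map (homOfLE hWV).op f, fun i => rr hWV (z i), by rw [hgerm, hf]; exact hsm,
    by rw [hgerm, hf]; exact hs, fun y hy hne => by_contra fun h => (hVle (hWV hy)).2 ⟨h, hne⟩,
    fun y hy hne => by rw [hgerm]; exact (Scheme.mem_basicOpen _ f y (hWV hy)).mp (hW₀ y hy.1 hne),
    fun y hy hne => ?_, fun i => ?_, fun j => ?_⟩
  · have hrange : germSpan (Set.range fun i => rr hWV (z i)) y hy = germSpan (Set.range z) y (hWV hy) := by
      rw [germSpan, germSpan, ← Set.range_comp, ← Set.range_comp]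
      simp only [Function.comp_def, germ_rr]
    rw [hrange]
    have hu : IsUnit (X.presheaf.germ V y (hWV hy) f) := (Scheme.mem_basicOpen _ f y (hWV hy)).mp (hW₀ y hy.1 hne)
    refine eq_top_iff.2 fun v _ => ?_
    obtain ⟨q, w, hq, hw⟩ := WeakAss.exists_smul_eq_germ hV (hWV hy) v
    have huq : IsUnit (X.presheaf.germ V y (hWV hy) q) :=
      (Scheme.mem_basicOpen _ q y (hWV hy)).mp (WeakAss.notMem_primeAt_iff.mp hq)
    rw [← Submodule.smul_mem_iff_of_isUnit _ huq, hw, ← Submodule.smul_mem_iff_of_isUnit _ hu, ← WeakAss.germ_smul]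
    have hw' : w ∈ Submodule.span Γ(X, V) (S : Set Γ(F, V)) := hS.symm ▸ Submodule.mem_top
    clear hw
    induction hw' using Submodule.span_induction with
    | mem w hw =>
      have := germ_mem_germSpan (hT'' ⟨w, hw⟩) (hm ⟨w, hw⟩) y (Set.mem_iInter.1 hy.2 ⟨w, hw⟩)
      rwa [germ_rr] at this
    | zero => rw [smul_zero, map_zero]; exact zero_mem _
    | add p q _ _ hp hq => rw [smul_add, map_add]; exact add_mem hp hq
    | smul c p _ hp => rw [smul_comm, WeakAss.germ_smul]; exact Submodule.smul_mem _ _ hp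
  · rw [germ_rr, hgz]; exact e.apply_symm_apply _
  · rw [germ_rr, hgz]
    refine (e.apply_symm_apply _).trans ?_
    simp only [hgerm, hf]

theorem exists_mono_locFree (hd : topologicalKrullDim X ≤ 1) [AlgebraicGeometry.IsReduced X]
    (hF : Coh.IsCoh F) (U : X.Opens) (hU : ∀ x : X, x ∈ U ↔ ¬ Curv2.IsNode k X x)
    (hfree : ∀ x : X, ¬ Curv2.IsNode k X x →
      Nonempty (F.presheaf.stalk x ≃ₗ[X.presheaf.stalk x] (Fin r → X.presheaf.stalk x)))
    (htype : ∀ x : X, Curv2.IsNode k X x → a x ≤ r ∧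
      Nonempty (F.presheaf.stalk x ≃ₗ[X.presheaf.stalk x]
        ((Fin (a x) → X.presheaf.stalk x) × (Fin (r - a x) → IsLocalRing.maximalIdeal (X.presheaf.stalk x))))) :
    ∃ (G : X.Modules) (j : F ⟶ G), FlatMod.IsFinLocFreeOfRank r G ∧ Mono j ∧
      (∀ x : X, ¬ Curv2.IsNode k X x → Subsingleton ((cokernel j).presheaf.stalk x)) ∧
      (∀ x : X, Curv2.IsNode k X x →
        IsLocalRing.maximalIdeal (X.presheaf.stalk x) • (⊤ : Submodule (X.presheaf.stalk x) ((cokernel j).presheaf.stalk x)) = ⊥ ∧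
        Module.length (X.presheaf.stalk x) ((cokernel j).presheaf.stalk x) = ((r - a x : ℕ) : ℕ∞)) := by
  classical
  haveI := hF.1
  haveI := Euler.isNoetherian_of_proper (X := X) k
  let M : X.Modules := (Scheme.Modules.pushforward U.ι).obj (F.restrict U.ι)
  haveI : (F.restrict U.ι).IsQuasicoherent := (Cohom.isCoh_restrict F hF U.ι).1
  haveI : M.IsQuasicoherent := QCoh.isQuasicoherent_pushforward U.ι (F.restrict U.ι)
  let b : F ⟶ M := (Scheme.Modules.restrictAdjunction U.ι).unit.app F
  have hres : ∀ T : X.Opens, Function.Bijective (rr (F := M) (inf_le_left : T ⊓ U ≤ T)) := fun T => by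
    have key : ∀ (A B : X.Opens) (h : A ≤ B), A = B → Function.Bijective (F.presheaf.map (homOfLE h).op) := by
      rintro A _ h rfl
      exact ⟨fun a b hab => by simpa [Cohom.map_self_apply] using hab, fun a => ⟨a, Cohom.map_self_apply ..⟩⟩
    exact key _ _ (U.ι.image_mono ((Opens.map U.ι.base).monotone inf_le_left)) (by
      rw [Scheme.Hom.image_preimage_eq_opensRange_inf, Scheme.Hom.image_preimage_eq_opensRange_inf,
        Scheme.Opens.opensRange_ι, inf_comm U (T ⊓ U), inf_assoc, inf_idem, inf_comm T U])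
  have hbU : ∀ y ∈ U, Function.Bijective (stalkLin b y) := fun y hy =>
    Euler.stalkLin_bijective_of_app_bijective b hy fun T hT => Euler.unit_app_bijective F U hT
  -- data at the nodes
  let N := {x : X // Curv2.IsNode k X x}
  have e := fun x : N => (htype x.1 x.2).2.some
  choose W hxW f z hfm hf hWU hunit hspan hzl hzr using fun x : N =>
    exists_node_data k a hd hF U hU x.2 (e x)
  have hfU : ∀ x : N, IsUnit (X.presheaf.map (homOfLE (inf_le_left : W x ⊓ U ≤ W x)).op (f x)) := fun x =>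
    RingedSpace.isUnit_of_isUnit_germ X.toRingedSpace _ _ fun y hy => by
      show IsUnit (X.presheaf.germ (W x ⊓ U) y hy _)
      rw [TopCat.Presheaf.germ_res_apply]
      exact hunit x y hy.1 fun h => (hU y).1 hy.2 (h ▸ x.2)
  let d : ∀ x : N, Fin (a x.1) ⊕ Fin (r - a x.1) → Γ(X, W x) := fun x => Sum.elim (fun _ => f x) fun _ => 1
  have hdiv : ∀ x i, ∃ t : Γ(M, W x), f x • t = d x i • b.app (W x) (z x i) := fun x i => by
    obtain ⟨u, hu⟩ := hfU x
    obtain ⟨t, ht⟩ := (hres (W x)).2 (((u⁻¹ : _ˣ) : Γ(X, W x ⊓ U)) • rr inf_le_left (d x i • b.app (W x) (z x i)))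
    refine ⟨t, (hres (W x)).1 ?_⟩
    rw [QCoh.rr_smul, ht, smul_smul, ← hu, Units.mul_inv, one_smul]
  choose t ht using hdiv
  -- germs at the node
  have hct : ∀ (x : N) (y : X) (hy : y ∈ W x) i,
      X.presheaf.germ (W x) y hy (f x) • M.presheaf.germ (W x) y hy (t x i) =
        X.presheaf.germ (W x) y hy (d x i) • stalkLin b y (F.presheaf.germ (W x) y hy (z x i)) := fun x y hy i => by
    rw [QCoh.stalkLin_germ, ← WeakAss.germ_smul, ht, WeakAss.germ_smul]
  have hcancel : ∀ (x : N) (m : M.presheaf.stalk x.1),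
      X.presheaf.germ (W x) x.1 (hxW x) (f x) • m = 0 → m = 0 := fun x m hm => by
    obtain ⟨T, hyT, s, rfl⟩ := TopCat.Presheaf.exists_germ_eq M.presheaf m
    have h0 : M.presheaf.germ (W x ⊓ T) x.1 ⟨hxW x, hyT⟩
        (X.presheaf.map (homOfLE (inf_le_left : W x ⊓ T ≤ W x)).op (f x) • rr inf_le_right s) = 0 := by
      rw [WeakAss.germ_smul, germ_rr, TopCat.Presheaf.germ_res_apply, hm]
    obtain ⟨A, hA, i₁, i₂, e0⟩ := TopCat.Presheaf.germ_eq M.presheaf (U := W x ⊓ T) (V := W x ⊓ T) x.1
      ⟨hxW x, hyT⟩ ⟨hxW x, hyT⟩ _ 0 (h0.trans (map_zero _).symm)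
    rw [map_zero] at e0
    have e1 : X.presheaf.map (homOfLE (i₁.le.trans inf_le_left : A ≤ W x)).op (f x) •
        rr (i₁.le.trans inf_le_right : A ≤ T) s = 0 := by
      rw [← QCoh.rr_rr inf_le_right i₁.le s, ← e0]
      show _ = rr i₁.le (_ • rr inf_le_right s)
      rw [QCoh.rr_smul, ← ConcreteCategory.comp_apply, ← Functor.map_comp]
      rfl
    have e2 := congrArg (rr (inf_le_left : A ⊓ U ≤ A)) e1
    rw [QCoh.rr_smul, map_zero, ← ConcreteCategory.comp_apply, ← Functor.map_comp] at e2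
    have hu : IsUnit (X.presheaf.map ((homOfLE (i₁.le.trans inf_le_left : A ≤ W x)).op ≫
        (homOfLE (inf_le_left : A ⊓ U ≤ A)).op) (f x)) := by
      have := (hfU x).map (X.presheaf.map (homOfLE (inf_le_inf_right U (i₁.le.trans inf_le_left) : A ⊓ U ≤ W x ⊓ U)).op).hom
      rw [← ConcreteCategory.comp_apply, ← Functor.map_comp] at this
      exact this
    rw [hu.smul_eq_zero] at e2
    rw [← germ_rr (i₁.le.trans inf_le_right) x.1 hA s, (hres A).1 (e2.trans (map_zero _).symm), map_zero]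
  -- the map `ι` and the inclusion of the stalk
  have hcoord : ∀ (x : N) (v : F.presheaf.stalk x.1),
      stalkLin b x.1 v = ∑ i, Sum.elim ((e x v).1) (fun j => ((e x v).2 j : X.presheaf.stalk x.1)) i •
        M.presheaf.germ (W x) x.1 (hxW x) (t x i) := fun x v => by
    refine sub_eq_zero.1 (hcancel x _ ?_)
    rw [smul_sub, Finset.smul_sum, sub_eq_zero, ← map_smul]
    simp only [smul_comm (X.presheaf.germ (W x) x.1 (hxW x) (f x)), hct]
    rw [Fintype.sum_sum_type]
    simp only [d, Sum.elim_inl, Sum.elim_inr, map_one, one_smul, smul_smul]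
    simp only [← map_smul, ← map_sum, ← map_add]
    refine congrArg _ ((e x).injective ?_)
    rw [map_smul, map_add, map_sum, map_sum]
    simp only [map_smul, hzl, hzr]
    refine Prod.ext ?_ ?_
    · funext i
      simp [Prod.fst_sum, Finset.sum_apply, Pi.single_apply, mul_comm]
    · funext j
      refine Subtype.ext ?_
      simp [Prod.snd_sum, Finset.sum_apply, Pi.single_apply, mul_comm]
  have hli : ∀ x : N, LinearIndependent (X.presheaf.stalk x.1)
      fun i => M.presheaf.germ (W x) x.1 (hxW x) (t x i) := fun x => by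
    rw [Fintype.linearIndependent_iff]
    intro c hc
    have h1 := congrArg (fun m => X.presheaf.germ (W x) x.1 (hxW x) (f x) • m) hc
    simp only [smul_zero, Finset.smul_sum, smul_comm (X.presheaf.germ (W x) x.1 (hxW x) (f x)), hct, smul_smul] at h1
    simp only [← map_smul, ← map_sum] at h1
    have hbinj : Function.Injective (stalkLin b x.1) := (injective_iff_map_eq_zero _).2 fun v hv => by
      obtain ⟨T, hxT, s, rfl⟩ := TopCat.Presheaf.exists_germ_eq F.presheaf v
      rw [QCoh.stalkLin_germ] at hv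
      obtain ⟨A, hA, i₁, i₂, he⟩ := TopCat.Presheaf.germ_eq M.presheaf (U := T) (V := T) x.1 hxT hxT _ 0
        (hv.trans (map_zero _).symm)
      rw [map_zero, QCoh.map_app] at he
      obtain ⟨V, hV, hxV, hVA⟩ := exists_isAffineOpen_mem_and_subset (show x.1 ∈ A ⊓ W x from ⟨hA, hxW x⟩)
      have hVA : V ≤ A ⊓ W x := hVA
      let s' := rr ((hVA.trans inf_le_left).trans i₁.le) s
      let f' := X.presheaf.map (homOfLE (hVA.trans inf_le_right)).op (f x)
      have hle : X.basicOpen f' ≤ U := fun y hy => by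
        by_contra h
        have hyV : y ∈ V := X.basicOpen_le f' hy
        have hyx : y = x.1 := by_contra fun hne => h (hWU x y (hVA hyV).2 hne)
        subst hyx
        have hy1 := (Scheme.mem_basicOpen _ f' _ hyV).mp hy
        rw [TopCat.Presheaf.germ_res_apply] at hy1
        exact (IsLocalRing.mem_maximalIdeal _).1 (hfm x) hy1
      have h0 : rr (X.basicOpen_le f') s' = 0 := by
        apply (Euler.unit_app_bijective F U hle).1
        show b.app _ (rr (X.basicOpen_le f') s') = b.app _ 0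
        have h3 : b.app V s' = 0 := by
          show b.app V (F.presheaf.map (homOfLE ((hVA.trans inf_le_left).trans i₁.le)).op s) = 0
          rw [show (homOfLE ((hVA.trans inf_le_left).trans i₁.le)).op = i₁.op ≫ (homOfLE (hVA.trans inf_le_left)).op
            from rfl, Functor.map_comp, ConcreteCategory.comp_apply, ← QCoh.map_app b, he, map_zero]
        rw [map_zero, show rr (X.basicOpen_le f') s' = F.presheaf.map (homOfLE (X.basicOpen_le f')).op s' from rfl,
          ← QCoh.map_app b, h3, map_zero]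
      obtain ⟨n, hn⟩ := (QCoh.smulLift_and_smulSep_of_isAffineOpen hV F f').2 s' h0
      have h2 := congrArg (F.presheaf.germ V x.1 hxV) hn
      rw [WeakAss.germ_smul, map_zero, map_pow, TopCat.Presheaf.germ_res_apply, germ_rr] at h2
      have h4 := congrArg (e x) h2
      rw [map_smul, map_zero] at h4
      have hn' := pow_mem (hf x) n
      apply (e x).injective
      rw [map_zero]
      refine Prod.ext (funext fun i => ?_) (funext fun j => Subtype.ext ?_)
      · exact (mul_right_mem_nonZeroDivisors_eq_zero_iff hn').1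
          ((mul_comm _ _).trans (congrFun (congrArg Prod.fst h4) i))
      · exact (mul_right_mem_nonZeroDivisors_eq_zero_iff hn').1
          ((mul_comm _ _).trans (congrArg Subtype.val (congrFun (congrArg Prod.snd h4) j)))
    have h2 := congrArg (e x) (hbinj (h1.trans (map_zero _).symm))
    rw [map_sum, map_zero, Fintype.sum_sum_type] at h2
    simp only [d, Sum.elim_inl, Sum.elim_inr, map_one, mul_one, map_smul, hzl, hzr] at h2
    rintro (i | j)
    · have h3 := congrFun (congrArg Prod.fst h2) i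
      simp [Prod.fst_sum, Finset.sum_apply, Pi.single_apply] at h3
      exact (mul_right_mem_nonZeroDivisors_eq_zero_iff (hf x)).1 h3
    · have h3 := congrArg Subtype.val (congrFun (congrArg Prod.snd h2) j)
      simp [Prod.snd_sum, Finset.sum_apply, Pi.single_apply] at h3
      exact (mul_right_mem_nonZeroDivisors_eq_zero_iff (hf x)).1 h3
  -- frames off the nodes
  have hfr : ∀ y : U, ∃ (D : X.Opens) (s : Fin r → Γ(F, D)), (y : X) ∈ D ∧ D ≤ U ∧ IsFrame F D s := fun y => by
    obtain ⟨ψ⟩ := hfree y.1 ((hU y.1).1 y.2)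
    obtain ⟨D, s, hyD, hs⟩ := Euler.exists_frame_of_stalk_basis hF (Module.Basis.ofEquivFun ψ)
    exact ⟨D ⊓ U, fun i => F.presheaf.map (homOfLE (inf_le_left : D ⊓ U ≤ D)).op (s i), ⟨hyD, y.2⟩, inf_le_right,
      fun V hV => by simpa [Cohom.map_map_apply] using hs V (hV.trans inf_le_left)⟩
  choose D s hyD hDU hs using hfr
  let κ := U ⊕ N
  let Wk : κ → X.Opens := Sum.elim D W
  let S : ∀ q : κ, Set Γ(M, Wk q) := fun q => match q with
    | Sum.inl y => Set.range fun i => b.app (D y) (s y i)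
    | Sum.inr x => Set.range (t x)
  have htop : ∀ (q : κ) (y : X) (hy : y ∈ Wk q), y ∈ U → germSpan (S q) y hy = ⊤ := by
    intro q y hy hyU
    refine eq_top_iff.2 fun v _ => ?_
    obtain ⟨w, rfl⟩ := (hbU y hyU).2 v
    cases q with
    | inl p =>
      obtain ⟨c, rfl⟩ := (Euler.bijective_germ_comb (hs p) hy).2 w
      rw [map_sum]
      exact Submodule.sum_mem _ fun i _ => by
        rw [map_smul, QCoh.stalkLin_germ]
        exact Submodule.smul_mem _ _ (Submodule.subset_span ⟨_, ⟨i, rfl⟩, rfl⟩)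
    | inr x =>
      have hne : y ≠ x.1 := fun h => (hU y).1 hyU (h ▸ x.2)
      have hw : w ∈ germSpan (Set.range (z x)) y hy := (hspan x y hy hne).symm ▸ Submodule.mem_top
      have hmap := Submodule.mem_map_of_mem (f := stalkLin b y) hw
      rw [germSpan, Submodule.map_span] at hmap
      refine Submodule.span_le.2 ?_ hmap
      rintro _ ⟨_, ⟨_, ⟨i, rfl⟩, rfl⟩, rfl⟩
      have hu := hunit x y hy hne
      have hdu : IsUnit (X.presheaf.germ (W x) y hy (d x i)) := by
        cases i with
        | inl _ => exact hu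
        | inr _ =>
          show IsUnit (X.presheaf.germ (W x) y hy 1)
          rw [map_one]; exact isUnit_one
      rw [SetLike.mem_coe, ← Submodule.smul_mem_iff_of_isUnit _ hdu, ← hct x y hy i]
      exact Submodule.smul_mem _ _ (Submodule.subset_span ⟨_, ⟨i, rfl⟩, rfl⟩)
  have hcov : ∀ y : X, ∃ q, y ∈ Wk q := fun y =>
    if h : y ∈ U then ⟨Sum.inl ⟨y, h⟩, hyD ⟨y, h⟩⟩
    else ⟨Sum.inr ⟨y, not_not.1 (mt (hU y).2 h)⟩, hxW _⟩
  obtain ⟨P, hP, hmem, hrange⟩ := exists_sub Wk S
    (fun q => by cases q <;> exact Set.finite_range _) hcov (fun q q' y hq hq' => by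
      by_cases hy : y ∈ U
      · rw [htop q y hq hy, htop q' y hq' hy]
      · cases q with
        | inl p => exact absurd (hDU p hq) hy
        | inr x =>
          cases q' with
          | inl p => exact absurd (hDU p hq') hy
          | inr x' =>
            have h1 : y = x.1 := by_contra fun h => hy (hWU x y hq h)
            have h2 : y = x'.1 := by_contra fun h => hy (hWU x' y hq' h)
            obtain rfl : x = x' := Subtype.ext (h1.symm.trans h2)
            rfl)
  haveI : Mono P.ι := QCoh.mono_of_app_injective _ P.ι_app_injective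
  obtain ⟨j, hj⟩ := exists_factor b P fun T w => hmem T _ fun q y hyT hy => by
    rw [← QCoh.stalkLin_germ b hyT w]
    by_cases hyU : y ∈ U
    · rw [htop q y hy hyU]; exact Submodule.mem_top
    · cases q with
      | inl p => exact absurd (hDU p hy) hyU
      | inr x =>
        obtain rfl : y = x.1 := by_contra fun h => hyU (hWU x y hy h)
        rw [hcoord x]
        exact Submodule.sum_mem _ fun i _ => Submodule.smul_mem _ _ (Submodule.subset_span ⟨_, ⟨i, rfl⟩, rfl⟩)
  have hbstalk : ∀ (y : X) v, stalkLin P.ι y (stalkLin j y v) = stalkLin b y v := fun y v => by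
    rw [← QCoh.stalkLin_comp, hj]
  -- bases of the stalks of the new module at nodes
  have hbasis : ∀ x : N, ∃ Φ : (Fin (a x.1) ⊕ Fin (r - a x.1) → X.presheaf.stalk x.1) ≃ₗ[X.presheaf.stalk x.1]
      P.obj.presheaf.stalk x.1, ∀ c, stalkLin P.ι x.1 (Φ c) = ∑ i, c i • M.presheaf.germ (W x) x.1 (hxW x) (t x i) := by
    intro x
    have hr : LinearMap.range (stalkLin P.ι x.1) = Submodule.span (X.presheaf.stalk x.1)
        (Set.range fun i => M.presheaf.germ (W x) x.1 (hxW x) (t x i)) := by
      rw [hrange (Sum.inr x) x.1 (hxW x), germSpan, ← Set.range_comp]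
      rfl
    let bas := (Module.Basis.span (hli x)).map ((LinearEquiv.ofEq _ _ hr.symm).trans
      (LinearEquiv.ofInjective (stalkLin P.ι x.1) (QCoh.stalkLin_injective P.ι x.1)).symm)
    refine ⟨bas.equivFun.symm, fun c => ?_⟩
    rw [Module.Basis.equivFun_symm_apply, map_sum]
    refine Finset.sum_congr rfl fun i _ => ?_
    rw [map_smul]
    congr 1
    simp only [bas, Module.Basis.map_apply, LinearEquiv.trans_apply]
    rw [← LinearEquiv.ofInjective_apply (h := QCoh.stalkLin_injective P.ι x.1), LinearEquiv.apply_symm_apply]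
    simp [Module.Basis.span_apply]
  choose Φ hΦ using hbasis
  have hlf : FlatMod.IsFinLocFreeOfRank r P.obj := by
    refine OmegaFree.isFinLocFreeOfRank_of_free_stalks hP r fun y => ?_
    by_cases hy : y ∈ U
    · obtain ⟨ψ⟩ := hfree y ((hU y).1 hy)
      have hjb : Function.Bijective (stalkLin j y) := by
        refine ⟨fun p q h => (hbU y hy).1 (by rw [← hbstalk, ← hbstalk, h]), fun w => ?_⟩
        obtain ⟨v, hv⟩ := (hbU y hy).2 (stalkLin P.ι y w)
        exact ⟨v, QCoh.stalkLin_injective P.ι y ((hbstalk y v).trans hv)⟩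
      exact ⟨(Module.Basis.ofEquivFun ψ).map (LinearEquiv.ofBijective _ hjb)⟩
    · let x : N := ⟨y, not_not.1 (mt (hU y).2 hy)⟩
      have har := (htype y x.2).1
      exact ⟨(Module.Basis.ofEquivFun (Φ x).symm).reindex
        (finSumFinEquiv.trans (finCongr (Nat.add_sub_cancel' har)))⟩
  have hjinj : ∀ y : X, Function.Injective (stalkLin j y) := fun y => by
    by_cases hy : y ∈ U
    · exact fun p q h => (hbU y hy).1 (by rw [← hbstalk, ← hbstalk, h])
    · let x : N := ⟨y, not_not.1 (mt (hU y).2 hy)⟩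
      intro p q h
      apply (e x).injective
      have h1 : stalkLin b x.1 p = stalkLin b x.1 q := by rw [← hbstalk, ← hbstalk]; exact congrArg _ h
      rw [hcoord x p, hcoord x q] at h1
      have h2 := (hli x).eq_coords_of_eq h1
      exact Prod.ext (funext fun i => h2 (Sum.inl i)) (funext fun i => Subtype.ext (h2 (Sum.inr i)))
  refine ⟨P.obj, j, hlf, (OX.mono_iff j).2 fun y => (ModuleCat.mono_iff_injective _).2 (hjinj y),
    fun y hy => QCoh.stalk_subsingleton_of_notMem (QCoh.notMem_support_cokernel_of_surjective _ fun w => ?_),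
    fun y hy => ?_⟩
  · obtain ⟨v, hv⟩ := (hbU y ((hU y).2 hy)).2 (stalkLin P.ι y w)
    exact ⟨v, QCoh.stalkLin_injective P.ι y ((hbstalk y v).trans hv)⟩
  · let x : N := ⟨y, hy⟩
    let O := X.presheaf.stalk x.1
    let κ₀ := O ⧸ IsLocalRing.maximalIdeal O
    let Θ : (Fin (a x.1) ⊕ Fin (r - a x.1) → O) →ₗ[O] (Fin (r - a x.1) → κ₀) :=
      LinearMap.pi fun i => (IsLocalRing.maximalIdeal O).mkQ ∘ₗ LinearMap.proj (Sum.inr i)
    have hΘ : Function.Surjective Θ := fun w => by
      choose u hu using fun i => Submodule.mkQ_surjective _ (w i)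
      exact ⟨Sum.elim (fun _ => 0) u, funext fun i => hu i⟩
    let π := QCoh.stalkLin (cokernel.π j) x.1
    have hex : ∀ w, π w = 0 ↔ ∃ v, stalkLin j x.1 v = w := fun w => ((ShortComplex.ShortExact.moduleCat_exact_iff_function_exact _).1
      ((OX.exact_iff _).1 (ShortComplex.exact_of_g_is_cokernel (ShortComplex.mk j (cokernel.π j) (cokernel.condition j))
        (cokernelIsCokernel j)) x.1)) w
    let q : (Fin (a x.1) ⊕ Fin (r - a x.1) → O) →ₗ[O] (cokernel j).presheaf.stalk x.1 := π ∘ₗ (Φ x).toLinearMap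
    have hq : Function.Surjective q := (QCoh.stalkLin_surjective (cokernel.π j) x.1).comp (Φ x).surjective
    have hker : LinearMap.ker q = LinearMap.ker Θ := by
      ext c
      rw [LinearMap.mem_ker, LinearMap.mem_ker]
      show π (Φ x c) = 0 ↔ _
      rw [hex]
      constructor
      · rintro ⟨v, hv⟩
        have h1 := congrArg (stalkLin P.ι x.1) hv
        rw [hbstalk, hΦ, hcoord] at h1
        funext i
        show Submodule.Quotient.mk (c (Sum.inr i)) = 0
        rw [← (hli x).eq_coords_of_eq h1 (Sum.inr i)]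
        exact (Submodule.Quotient.mk_eq_zero _).2 ((e x v).2 i).2
      · intro hc
        refine ⟨(e x).symm (fun i => c (Sum.inl i), fun i =>
          ⟨c (Sum.inr i), (Submodule.Quotient.mk_eq_zero _).1 (congrFun hc i)⟩), ?_⟩
        apply QCoh.stalkLin_injective P.ι x.1
        rw [hbstalk, hΦ, hcoord, LinearEquiv.apply_symm_apply]
        exact Finset.sum_congr rfl fun i _ => by cases i <;> rfl
    let E : (cokernel j).presheaf.stalk x.1 ≃ₗ[O] (Fin (r - a x.1) → κ₀) :=
      ((LinearMap.quotKerEquivOfSurjective q hq).symm.trans (Submodule.quotEquivOfEq _ _ hker)).trans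
        (LinearMap.quotKerEquivOfSurjective Θ hΘ)
    refine ⟨eq_bot_iff.2 (Submodule.smul_le.2 fun m hm v _ => ?_), ?_⟩
    · show m • v ∈ (⊥ : Submodule O _)
      rw [Submodule.mem_bot]
      apply E.injective
      rw [map_smul, map_zero]
      funext i
      obtain ⟨u, hu⟩ := Submodule.mkQ_surjective _ (E v i)
      show m • E v i = 0
      rw [← hu, ← map_smul]
      exact (Submodule.Quotient.mk_eq_zero _).2 (Ideal.mul_mem_right _ _ hm)
    · haveI : IsSimpleModule O κ₀ := isSimpleModule_iff_isCoatom.2 (IsLocalRing.maximalIdeal.isMaximal O).out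
      rw [E.length_eq, Module.length_pi_of_fintype, Module.length_eq_one O κ₀, Finset.sum_const,
        Finset.card_univ, Fintype.card_fin, nsmul_one]

end GrothLib.NodeLattice11
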