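import Groth.Agent.Lib.TFCurv11.NodePushStalk
import Groth.Agent.Lib.TFCurv11.NodeFactor
import Groth.Agent.Lib.TFCurv11.NodeLattice
import Groth.Agent.Lib.Multicross2.Node
import Groth.Agent.Lib.DeltaEuler.Main
import Groth.Agent.Lib.UnrMono.SmoothNormal
import Groth.Agent.Lib.QCoh.LocGen

/-!
# Direct images from the normalization at the nodes
-/

set_option autoImplicit false
set_option linter.all false
set_option backward.isDefEq.respectTransparency false

universe u

open CategoryTheory CategoryTheory.Limits Opposite AlgebraicGeometry TopologicalSpace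
open GrothLib.QCoh (stalkLin)

noncomputable section

namespace GrothLib.NodePush11

variable {X Y : Scheme.{u}}

/-- The stalk of a cokernel. -/
theorem nonempty_cokernel_stalk_equiv {M N : X.Modules} (φ : M ⟶ N) (x : X) :
    Nonempty ((cokernel φ).presheaf.stalk x ≃ₗ[X.presheaf.stalk x]
      N.presheaf.stalk x ⧸ LinearMap.range (stalkLin φ x)) :=
  ⟨(PreservesCokernel.iso (OX.stalk x) φ ≪≫ ModuleCat.cokernelIsoRangeQuotient _).toLinearEquiv⟩

theorem isNormalScheme_of_smooth {k : Type u} [Field k] (g : Y ⟶ Spec (CommRingCat.of k)) [Smooth g] :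
    Pi1.IsNormalScheme Y := by
  intro y
  haveI : AlgebraicGeometry.IsReduced (Spec (CommRingCat.of k)) := inferInstance
  haveI : Subsingleton (PrimeSpectrum k) := inferInstance
  have hF : IsField ((Spec (CommRingCat.of k)).presheaf.stalk (g y)) :=
    TFCurve11.isField_stalk_of_maximal _ fun z _ => Subsingleton.elim (α := PrimeSpectrum k) z (g y)
  haveI : IsDomain ((Spec (CommRingCat.of k)).presheaf.stalk (g y)) := hF.isDomain
  haveI : IsIntegrallyClosed ((Spec (CommRingCat.of k)).presheaf.stalk (g y)) := by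
    letI := hF.toField
    infer_instance
  exact UnrMono.isNormal_stalk_of_smooth g y

section Dim

variable (k : Type u) [Field k] [X.Over (Spec (CommRingCat.of k))] [IsProper (X ↘ Spec (CommRingCat.of k))]
  [AlgebraicGeometry.IsReduced X]

include k in
theorem not_isField_node {x : X} (hx : Curv2.IsNode k X x) : ¬ IsField (X.presheaf.stalk x) := fun hF => by
  obtain ⟨s, hsm, hs⟩ := NodeLattice11.exists_nzd_node k hx
  letI := hF.toField
  exact hsm (isUnit_iff_ne_zero.2 (nonZeroDivisors.ne_zero hs))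

include k in
theorem components_dim_one [ConnectedSpace X] (hdim : topologicalKrullDim X = 1) :
    ∀ W ∈ irreducibleComponents (X : Type u), topologicalKrullDim W = 1 := by
  haveI := Euler.isNoetherian_of_proper (X := X) k
  intro W hW
  have hle : topologicalKrullDim W ≤ 1 :=
    (Topology.IsInducing.subtypeVal.topologicalKrullDim_le).trans hdim.le
  by_contra hne
  have hirr : IsIrreducible W := hW.1
  obtain ⟨p, hp⟩ := QuasiSober.sober hirr (isClosed_of_mem_irreducibleComponents W hW)
  by_cases hsub : W ⊆ {p}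
  · -- a one-point component is open
    have hWp : W = {p} := Set.Subset.antisymm hsub (Set.singleton_subset_iff.2 hp.mem)
    have hfin : (irreducibleComponents (X : Type u)).Finite := NoetherianSpace.finite_irreducibleComponents
    let B : Set X := ⋃₀ {C ∈ irreducibleComponents (X : Type u) | p ∉ C}
    have hB : IsClosed B := by
      rw [show B = ⋃ C ∈ {C ∈ irreducibleComponents (X : Type u) | p ∉ C}, C from Set.sUnion_eq_biUnion]
      exact (hfin.subset fun C hC => hC.1).isClosed_biUnion fun C hC => isClosed_of_mem_irreducibleComponents C hC.1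
    have hcompl : Bᶜ = {p} := by
      refine Set.Subset.antisymm (fun q hq => ?_) (Set.singleton_subset_iff.2 fun ⟨C, hC, hpC⟩ => hC.2 hpC)
      have hC := irreducibleComponent_mem_irreducibleComponents q
      have hpC : p ∈ irreducibleComponent q := by_contra fun h => hq ⟨_, ⟨hC, h⟩, mem_irreducibleComponent⟩
      have hWC : W ⊆ irreducibleComponent q := hWp ▸ Set.singleton_subset_iff.2 hpC
      have : irreducibleComponent q ⊆ W := hW.2 hC.1 hWC
      exact hsub (this mem_irreducibleComponent)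
    have hclopen : IsClopen ({p} : Set X) :=
      ⟨hWp ▸ isClosed_of_mem_irreducibleComponents W hW, hcompl ▸ hB.isOpen_compl⟩
    have huniv : ({p} : Set X) = Set.univ := (isClopen_iff.1 hclopen).resolve_left (Set.singleton_ne_empty p)
    haveI : Subsingleton X := ⟨fun q q' => by
      have h1 : q ∈ ({p} : Set X) := huniv ▸ Set.mem_univ q
      have h2 : q' ∈ ({p} : Set X) := huniv ▸ Set.mem_univ q'
      exact h1.trans h2.symm⟩
    have h0 : topologicalKrullDim X ≤ 0 := by
      haveI : Subsingleton (TopologicalSpace.IrreducibleCloseds X) := ⟨fun A B => TopologicalSpace.IrreducibleCloseds.ext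
        ((Subsingleton.eq_univ_of_nonempty A.2.nonempty).trans (Subsingleton.eq_univ_of_nonempty B.2.nonempty).symm)⟩
      exact Order.krullDim_nonpos_of_subsingleton
    rw [hdim] at h0
    exact absurd h0 (by norm_num)
  · obtain ⟨q, hqW, hqp⟩ := Set.not_subset.1 hsub
    refine hne (le_antisymm hle ?_)
    let A : TopologicalSpace.IrreducibleCloseds W := ⟨closure {⟨q, hqW⟩}, isIrreducible_singleton.closure, isClosed_closure⟩
    let B : TopologicalSpace.IrreducibleCloseds W := ⟨closure {⟨p, hp.mem⟩}, isIrreducible_singleton.closure, isClosed_closure⟩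
    have hlt : A < B := by
      refine lt_of_le_of_ne ?_ fun h => hqp ?_
      · refine closure_minimal (Set.singleton_subset_iff.2 ?_) isClosed_closure
        exact specializes_iff_mem_closure.1 ((Topology.IsInducing.subtypeVal.specializes_iff).1 (hp.specializes hqW))
      · have hmem : (⟨p, hp.mem⟩ : W) ∈ (A : Set W) := by rw [h]; exact subset_closure rfl
        have h1 : q ⤳ p := (Topology.IsInducing.subtypeVal.specializes_iff).2
          (specializes_iff_mem_closure.2 hmem)
        exact ((hp.specializes hqW).antisymm h1).eq.symm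
    refine le_trans ?_ (Order.LTSeries.length_le_krullDim ((RelSeries.singleton _ A).snoc B hlt))
    simp

include k in
theorem dense_of_compl_nodes (hd : topologicalKrullDim X ≤ 1) (U : X.Opens)
    (hU : ∀ x : X, x ∈ U ↔ ¬ Curv2.IsNode k X x) : Dense (U : Set X) := by
  haveI := Euler.isNoetherian_of_proper (X := X) k
  intro x
  by_contra hx
  have hnode : Curv2.IsNode k X x := not_not.1 fun h => hx (subset_closure ((hU x).2 h))
  refine not_isField_node k hnode (TFCurve11.isField_stalk_of_maximal x fun z hz => ?_)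
  by_contra hne
  refine hx (specializes_iff_mem_closure.1 hz |> closure_mono (Set.singleton_subset_iff.2 ((hU z).2 fun hzn => ?_)))
  exact hne ((hz.mem_closed hzn.1 rfl) : x ∈ ({z} : Set X)).symm

end Dim

section Structure

variable (π : Y ⟶ X)

theorem range_unitToPush {V : X.Opens} {x : X} (hx : x ∈ V) :
    LinearMap.range (stalkLin (ClSub.unitToPush π) x) = Submodule.span _ {oneGerm π hx 1} := by
  let o : (Coh.structureModule X).presheaf.stalk x :=
    (Coh.structureModule X).presheaf.germ V x hx (1 : Γ(X, V))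
  have ho : stalkLin (ClSub.unitToPush π) x o = oneGerm π hx 1 := by
    rw [QCoh.stalkLin_germ]
    exact congrArg _ (map_one (π.app V).hom)
  refine le_antisymm ?_ ((Submodule.span_singleton_le_iff_mem _ _).2 ⟨o, ho⟩)
  rintro _ ⟨t, rfl⟩
  suffices ∃ r : X.presheaf.stalk x, t = r • o by
    obtain ⟨r, rfl⟩ := this
    rw [map_smul, ho]
    exact Submodule.smul_mem _ _ (Submodule.mem_span_singleton_self _)
  obtain ⟨W, hxW, m, rfl⟩ := TopCat.Presheaf.exists_germ_eq (Coh.structureModule X).presheaf t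
  refine ⟨X.presheaf.germ W x hxW m, ?_⟩
  have hT : x ∈ W ⊓ V := ⟨hxW, hx⟩
  show (Coh.structureModule X).presheaf.germ W x hxW m = X.presheaf.germ W x hxW m •
    (Coh.structureModule X).presheaf.germ V x hx (1 : Γ(X, V))
  rw [← TopCat.Presheaf.germ_res_apply (Coh.structureModule X).presheaf (homOfLE inf_le_left) x hT m,
    ← TopCat.Presheaf.germ_res_apply X.presheaf (homOfLE inf_le_left) x hT m,
    ← TopCat.Presheaf.germ_res_apply (Coh.structureModule X).presheaf (homOfLE inf_le_right) x hT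
      (1 : Γ(X, V))]
  refine Eq.trans ?_ (WeakAss.germ_smul hT _ _)
  refine congrArg _ ?_
  show _ = (X.presheaf.map _).hom m * (X.presheaf.map _).hom 1
  rw [map_one, mul_one]
  rfl

theorem bijective_unitToPush (U : X.Opens) [IsIso (π ∣_ U)] {x : X} (hxU : x ∈ U) :
    Function.Bijective (stalkLin (ClSub.unitToPush π) x) :=
  Euler.stalkLin_bijective_of_app_bijective _ hxU fun T hT => DeltaEuler.bijective_app_of_le π hT

theorem oneGerm_faithful {V : X.Opens} {x : X} (hx : x ∈ V)
    (hinj : Function.Injective (stalkLin (ClSub.unitToPush π) x)) (r : X.presheaf.stalk x)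
    (h : r • oneGerm π hx 1 = 0) : r = 0 := by
  let o : (Coh.structureModule X).presheaf.stalk x :=
    (Coh.structureModule X).presheaf.germ V x hx (1 : Γ(X, V))
  have ho : stalkLin (ClSub.unitToPush π) x o = oneGerm π hx 1 := by
    rw [QCoh.stalkLin_germ]
    exact congrArg _ (map_one (π.app V).hom)
  have h0 : r • o = 0 := hinj (by rw [map_smul, ho, h, map_zero])
  obtain ⟨T, hT, a, rfl⟩ := TopCat.Presheaf.exists_germ_eq X.presheaf r
  have hxT : x ∈ T ⊓ V := ⟨hT, hx⟩
  have h1 : (Coh.structureModule X).presheaf.germ (T ⊓ V) x hxT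
      (X.presheaf.map (homOfLE inf_le_left).op a) = 0 := by
    rw [← h0]
    show _ = X.presheaf.germ T x hT a • (Coh.structureModule X).presheaf.germ V x hx (1 : Γ(X, V))
    rw [← TopCat.Presheaf.germ_res_apply X.presheaf (homOfLE inf_le_left) x hxT a,
      ← TopCat.Presheaf.germ_res_apply (Coh.structureModule X).presheaf (homOfLE inf_le_right) x hxT
        (1 : Γ(X, V))]
    refine Eq.trans ?_ (WeakAss.germ_smul hxT _ _)
    refine congrArg _ ?_
    show _ = (X.presheaf.map _).hom a * (X.presheaf.map _).hom 1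
    rw [map_one, mul_one]
  obtain ⟨E, hxE, i, j, heq⟩ := TopCat.Presheaf.germ_eq (Coh.structureModule X).presheaf x hxT hxT _ 0
    (h1.trans (map_zero _).symm)
  rw [← TopCat.Presheaf.germ_res_apply X.presheaf (homOfLE inf_le_left) x hxT a,
    ← TopCat.Presheaf.germ_res_apply X.presheaf i x hxE]
  have h2 : X.presheaf.map i.op (X.presheaf.map (homOfLE inf_le_left).op a) = 0 := heq.trans (map_zero _)
  rw [h2, map_zero]

end Structure

section Node

variable {k : Type u} [Field k] [IsAlgClosed k] [X.Over (Spec (CommRingCat.of k))]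
  [IsProper (X ↘ Spec (CommRingCat.of k))] [ConnectedSpace X] [AlgebraicGeometry.IsReduced X]
  (hdim : topologicalKrullDim X = 1) (π : Y ⟶ X) [IsFinite π] [Smooth (π ≫ (X ↘ Spec (CommRingCat.of k)))]
  (U : X.Opens) (hU : ∀ x : X, x ∈ U ↔ ¬ Curv2.IsNode k X x) [IsIso (π ∣_ U)]
  (hUd : Dense ((π ⁻¹ᵁ U : Y.Opens) : Set Y))

include hdim hU hUd in
/-- The stalk of the direct image of the structure sheaf at a node. -/
theorem exists_node_stalk {x : X} (hxn : Curv2.IsNode k X x) {V : X.Opens} (hV : IsAffineOpen V) (hx : x ∈ V) :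
    ∃ b₀ : Γ(Y, π ⁻¹ᵁ V),
      (∀ r : X.presheaf.stalk x, r • oneGerm π hx 1 = 0 → r = 0) ∧
      (∀ w, ∃ r r' : X.presheaf.stalk x, w = r • oneGerm π hx b₀ + r' • oneGerm π hx 1) ∧
      (∀ u u' : X.presheaf.stalk x, u • oneGerm π hx b₀ = u' • oneGerm π hx 1 →
        u ∈ IsLocalRing.maximalIdeal (X.presheaf.stalk x)) ∧
      (∀ μ ∈ IsLocalRing.maximalIdeal (X.presheaf.stalk x), ∃ c ∈ IsLocalRing.maximalIdeal (X.presheaf.stalk x),
        μ • oneGerm π hx b₀ = c • oneGerm π hx 1) := by
  haveI : IsLocallyNoetherian X := LocallyOfFiniteType.isLocallyNoetherian (X ↘ Spec (CommRingCat.of k))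
  obtain ⟨hinj, hlen⟩ := DeltaEuler.stalk_data π (isNormalScheme_of_smooth (π ≫ (X ↘ Spec (CommRingCat.of k)))) U
    (dense_of_compl_nodes k hdim.le U hU) hUd x
  rw [Multicross2.deltaInv_node (components_dim_one k hdim) hxn,
    (nonempty_cokernel_stalk_equiv (ClSub.unitToPush π) x).some.length_eq, range_unitToPush π hx,
    Module.length_eq_one_iff] at hlen
  have hone := oneGerm_faithful π hx hinj
  let L := Submodule.span (X.presheaf.stalk x) {oneGerm π hx 1}
  haveI := hlen
  haveI := IsSimpleModule.nontrivial (X.presheaf.stalk x) (((Scheme.Modules.pushforward π).obj (Coh.structureModule Y)).presheaf.stalk x ⧸ L)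
  obtain ⟨q, hq⟩ := exists_ne (0 : _ ⧸ L)
  obtain ⟨w, rfl⟩ := Submodule.Quotient.mk_surjective _ q
  haveI : ((Scheme.Modules.pushforward π).obj (Coh.structureModule Y)).IsQuasicoherent :=
    haveI : (Coh.structureModule Y).IsQuasicoherent :=
      InvExt.isQuasicoherent_of_isInvertible Euler.isInvertible_structure
    QCoh.isQuasicoherent_pushforward π _
  obtain ⟨c, b', hc, hb'⟩ := WeakAss.exists_smul_eq_germ hV hx w
  obtain ⟨b₀, hb₀⟩ : ∃ b₀ : Γ(Y, π ⁻¹ᵁ V), X.presheaf.germ V x hx c • w = oneGerm π hx b₀ := ⟨b', hb'⟩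
  have hu : IsUnit (X.presheaf.germ V x hx c) :=
    (Scheme.mem_basicOpen _ c x hx).mp (WeakAss.notMem_primeAt_iff.mp hc)
  have hne : (Submodule.Quotient.mk (oneGerm π hx b₀) : _ ⧸ L) ≠ 0 := fun h => hq (hu.smul_left_cancel.1
    (by rw [smul_zero, ← Submodule.Quotient.mk_smul, hb₀]; exact h))
  have hgen : ∀ p : _ ⧸ L, ∃ r : X.presheaf.stalk x, r • (Submodule.Quotient.mk (oneGerm π hx b₀) : _ ⧸ L) = p :=
    fun p => IsSimpleModule.toSpanSingleton_surjective _ hne p
  have hm : ∀ μ ∈ IsLocalRing.maximalIdeal (X.presheaf.stalk x),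
      μ • (Submodule.Quotient.mk (oneGerm π hx b₀) : _ ⧸ L) = 0 := fun μ hμ => by
    by_contra h
    obtain ⟨r, hr⟩ := IsSimpleModule.toSpanSingleton_surjective (R := X.presheaf.stalk x) h
      (Submodule.Quotient.mk (oneGerm π hx b₀) : _ ⧸ L)
    rw [LinearMap.toSpanSingleton_apply, smul_smul] at hr
    have : (1 - r * μ) • (Submodule.Quotient.mk (oneGerm π hx b₀) : _ ⧸ L) = 0 := by
      rw [sub_smul, one_smul, hr, sub_self]
    exact hne ((IsLocalRing.isUnit_one_sub_self_of_mem_nonunits _ (Ideal.mul_mem_left _ r hμ)).smul_eq_zero.1 this)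
  have hspan : ∀ w, ∃ r r' : X.presheaf.stalk x, w = r • oneGerm π hx b₀ + r' • oneGerm π hx 1 := fun w => by
    obtain ⟨r, hr⟩ := hgen (Submodule.Quotient.mk w)
    rw [← Submodule.Quotient.mk_smul, Submodule.Quotient.eq, Submodule.mem_span_singleton] at hr
    obtain ⟨r', hr'⟩ := hr
    exact ⟨r, -r', by rw [neg_smul, hr']; abel⟩
  refine ⟨b₀, hone, hspan, fun u u' h => ?_, fun μ hμ => ?_⟩
  · by_contra hnu
    have h' : u • (Submodule.Quotient.mk (oneGerm π hx b₀) : _ ⧸ L) = 0 := by
      rw [← Submodule.Quotient.mk_smul, Submodule.Quotient.mk_eq_zero, h]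
      exact Submodule.smul_mem _ _ (Submodule.mem_span_singleton_self _)
    exact hne ((IsLocalRing.notMem_maximalIdeal.1 hnu).smul_eq_zero.1 h')
  · have h' := hm μ hμ
    rw [← Submodule.Quotient.mk_smul, Submodule.Quotient.mk_eq_zero, Submodule.mem_span_singleton] at h'
    obtain ⟨c', hc'⟩ := h'
    refine ⟨c', ?_, hc'.symm⟩
    -- multiply by the image of `b₀` once more
    haveI : (Coh.structureModule Y).IsQuasicoherent :=
      InvExt.isQuasicoherent_of_isInvertible Euler.isInvertible_structure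
    obtain ⟨act, hact, hact1, -⟩ := exists_actions π hV hx (Coh.structureModule Y)
    obtain ⟨α, β, hαβ⟩ := hspan (oneGerm π hx (b₀ * b₀))
    have h1 : act b₀ (oneGerm π hx 1) = oneGerm π hx b₀ := by
      refine (hact b₀ (1 : Γ(Y, π ⁻¹ᵁ V))).trans (congrArg _ ?_)
      exact mul_one b₀
    have h2 : act b₀ (oneGerm π hx b₀) = oneGerm π hx (b₀ * b₀) := hact b₀ (b₀ : Γ(Y, π ⁻¹ᵁ V))
    have h3 : (c' * c') • oneGerm π hx 1 = (μ * (μ * β + α * c')) • oneGerm π hx 1 := by
      calc (c' * c') • oneGerm π hx 1 = c' • (μ • oneGerm π hx b₀) := by rw [← hc', smul_smul]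
        _ = μ • act b₀ (c' • oneGerm π hx 1) := by rw [map_smul, h1, smul_smul, smul_smul, mul_comm]
        _ = μ • (μ • (α • oneGerm π hx b₀ + β • oneGerm π hx 1)) := by rw [hc', map_smul, h2, hαβ]
        _ = μ • (α • (μ • oneGerm π hx b₀) + (μ * β) • oneGerm π hx 1) := by
          rw [smul_add μ, smul_comm μ α, smul_smul μ β]
        _ = (μ * (μ * β + α * c')) • oneGerm π hx 1 := by
          rw [← hc', smul_smul α, ← add_smul, smul_smul, add_comm]
    have h4 : c' * c' = μ * (μ * β + α * c') := sub_eq_zero.1 (hone _ (by rw [sub_smul, h3, sub_self]))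
    exact (IsLocalRing.maximalIdeal.isMaximal _).isPrime.mem_or_mem
      (h4 ▸ Ideal.mul_mem_right _ _ hμ) |>.elim id id

include hU hUd in
/-- A nonzerodivisor at a node is injective on the direct image of a locally free module. -/
theorem smul_injective_push {x : X} (hxn : Curv2.IsNode k X x) {G : Y.Modules} (hG : FlatMod.IsFinLocFree G)
    [AlgebraicGeometry.IsReduced Y] (hd : topologicalKrullDim X ≤ 1) (s : X.presheaf.stalk x)
    (hs : s ∈ nonZeroDivisors (X.presheaf.stalk x))
    (w : ((Scheme.Modules.pushforward π).obj G).presheaf.stalk x) (hw : s • w = 0) : w = 0 := by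
  haveI := Euler.isNoetherian_of_proper (X := X) k
  obtain ⟨D, hxD, f, rfl⟩ := TopCat.Presheaf.exists_germ_eq X.presheaf s
  obtain ⟨W, hWD, hxW, hW⟩ := NodeLattice11.exists_nhd_vanishing_only hd hxn.1 hxD f hs
  obtain ⟨T, hxT, z, rfl⟩ := TopCat.Presheaf.exists_germ_eq ((Scheme.Modules.pushforward π).obj G).presheaf w
  let T₁ := W ⊓ T
  let f₁ := X.presheaf.map (homOfLE (inf_le_left.trans hWD : T₁ ≤ D)).op f
  let z₁ : Γ((Scheme.Modules.pushforward π).obj G, T₁) :=
    ((Scheme.Modules.pushforward π).obj G).presheaf.map (homOfLE inf_le_right).op z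
  have hx₁ : x ∈ T₁ := ⟨hxW, hxT⟩
  have h0 : ((Scheme.Modules.pushforward π).obj G).presheaf.germ T₁ x hx₁ (f₁ • z₁) = 0 := by
    rw [WeakAss.germ_smul, ← hw]
    congr 1
    · exact TopCat.Presheaf.germ_res_apply _ _ _ _ _
    · exact TopCat.Presheaf.germ_res_apply _ _ _ _ _
  obtain ⟨E, hxE, i, j, heq⟩ := TopCat.Presheaf.germ_eq ((Scheme.Modules.pushforward π).obj G).presheaf x hx₁ hx₁
    _ 0 (h0.trans (map_zero _).symm)
  rw [show ((Scheme.Modules.pushforward π).obj G).presheaf.germ T x hxT z =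
    ((Scheme.Modules.pushforward π).obj G).presheaf.germ E x hxE
      (((Scheme.Modules.pushforward π).obj G).presheaf.map i.op z₁) from
    ((TopCat.Presheaf.germ_res_apply _ i x hxE z₁).trans (TopCat.Presheaf.germ_res_apply _ _ _ _ _)).symm]
  suffices hz : (show Γ(G, π ⁻¹ᵁ E) from ((Scheme.Modules.pushforward π).obj G).presheaf.map i.op z₁) = 0 by
    exact (congrArg _ hz).trans (map_zero _)
  refine NodeFactor11.section_eq_zero_of_dense hG hUd _ fun y hy hyU => ?_
  have hne : π y ≠ x := fun h => (hU x).1 (h ▸ hyU) hxn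
  have hyT₁ : π y ∈ T₁ := leOfHom i hy
  have hunit : IsUnit (Y.presheaf.germ (π ⁻¹ᵁ T₁) y hyT₁ (π.app T₁ f₁)) := by
    rw [← Scheme.Hom.germ_stalkMap_apply π T₁ y hyT₁ f₁]
    refine IsUnit.map _ ?_
    rw [TopCat.Presheaf.germ_res_apply]
    exact (Scheme.mem_basicOpen _ f (π y) (hWD hyT₁.1)).1 (hW _ hyT₁.1 hne)
  refine hunit.smul_eq_zero.1 ?_
  have h1 : Y.presheaf.germ (π ⁻¹ᵁ T₁) y hyT₁ (π.app T₁ f₁) •
      G.presheaf.germ (π ⁻¹ᵁ T₁) y hyT₁ (show Γ(G, π ⁻¹ᵁ T₁) from z₁) =
      G.presheaf.germ (π ⁻¹ᵁ E) y hy (show Γ(G, π ⁻¹ᵁ E) from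
        ((Scheme.Modules.pushforward π).obj G).presheaf.map i.op (f₁ • z₁)) := by
    rw [← WeakAss.germ_smul]
    exact (TopCat.Presheaf.germ_res_apply G.presheaf (homOfLE (π.preimage_mono (leOfHom i))) y hy
      (show Γ(G, π ⁻¹ᵁ T₁) from f₁ • z₁)).symm
  rw [heq, map_zero] at h1
  refine Eq.trans (congrArg _ ?_) (h1.trans (map_zero _))
  exact TopCat.Presheaf.germ_res_apply G.presheaf (homOfLE (π.preimage_mono (leOfHom i))) y hy
    (show Γ(G, π ⁻¹ᵁ T₁) from z₁)

end Node

/-- A map which is injective off a closed point is injective there on torsion free stalks. -/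
theorem eq_zero_of_map_zero [AlgebraicGeometry.IsReduced X] [NoetherianSpace X]
    (hd : topologicalKrullDim X ≤ 1) {F H : X.Modules} [F.IsQuasicoherent] (φ : F ⟶ H) (U : X.Opens)
    (hφ : ∀ y ∈ U, Function.Injective (stalkLin φ y)) {x : X} (hx : IsClosed ({x} : Set X))
    {N : X.Opens} (hxN : x ∈ N) (hN : ∀ y ∈ N, y ≠ x → y ∈ U)
    (s : X.presheaf.stalk x) (hsm : s ∈ IsLocalRing.maximalIdeal (X.presheaf.stalk x))
    (hs : s ∈ nonZeroDivisors (X.presheaf.stalk x))
    (htf : ∀ v : F.presheaf.stalk x, s • v = 0 → v = 0)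
    (v : F.presheaf.stalk x) (hv : stalkLin φ x v = 0) : v = 0 := by
  obtain ⟨D, hxD, f, rfl⟩ := TopCat.Presheaf.exists_germ_eq X.presheaf s
  obtain ⟨W, hWD, hxW, hW⟩ := NodeLattice11.exists_nhd_vanishing_only hd hx hxD f hs
  obtain ⟨T, hxT, m, rfl⟩ := TopCat.Presheaf.exists_germ_eq F.presheaf v
  rw [QCoh.stalkLin_germ] at hv
  obtain ⟨E, hxE, i, j, heq⟩ := TopCat.Presheaf.germ_eq H.presheaf x hxT hxT _ 0 (hv.trans (map_zero _).symm)
  obtain ⟨T₁, hT₁, hxT₁, hT₁le⟩ := exists_isAffineOpen_mem_and_subset (x := x) (U := W ⊓ N ⊓ E)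
    ⟨⟨hxW, hxN⟩, hxE⟩
  have h1 : T₁ ≤ W := fun y hy => (hT₁le hy).1.1
  have h2 : T₁ ≤ E := fun y hy => (hT₁le hy).2
  let f₁ := X.presheaf.map (homOfLE (h1.trans hWD)).op f
  let m₁ := F.presheaf.map (homOfLE (h2.trans (leOfHom i))).op m
  have hz : ∀ (y : X) (hy : y ∈ X.basicOpen f₁), F.presheaf.germ T₁ y (X.basicOpen_le _ hy) m₁ = 0 := by
    intro y hy'
    have hy : y ∈ T₁ := X.basicOpen_le _ hy'
    by_cases hne : y = x
    · subst hne
      have := (Scheme.mem_basicOpen _ f₁ y hy).1 hy'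
      rw [TopCat.Presheaf.germ_res_apply] at this
      exact absurd this hsm
    · refine hφ y (hN y (hT₁le hy).1.2 hne) ?_
      rw [map_zero, TopCat.Presheaf.germ_res_apply, QCoh.stalkLin_germ]
      rw [← TopCat.Presheaf.germ_res_apply H.presheaf i y (h2 hy), heq, map_zero, map_zero]
  have hx₁ : x ∈ T₁ := hxT₁
  have hres : F.presheaf.map (homOfLE (X.basicOpen_le f₁)).op m₁ = 0 :=
    QCoh.section_eq_zero_of_germ F _ fun y hy => by
      rw [TopCat.Presheaf.germ_res_apply]; exact hz y hy
  obtain ⟨n, hn⟩ := (QCoh.smulLift_and_smulSep_of_isAffineOpen hT₁ F f₁).2 m₁ hres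
  have h3 := congrArg (F.presheaf.germ T₁ x hx₁) hn
  rw [map_zero, WeakAss.germ_smul, map_pow, TopCat.Presheaf.germ_res_apply, TopCat.Presheaf.germ_res_apply] at h3
  clear hn
  induction n with
  | zero => rwa [pow_zero, one_smul] at h3
  | succ n ih =>
    refine ih ?_
    rw [pow_succ, mul_comm, mul_smul] at h3
    exact htf _ h3

end GrothLib.NodePush11
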