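import Groth.Agent.Lib.DecSh20.Basic
import Groth.Agent.Lib.FunMor20.ProjAffine
import Groth.Agent.Lib.RelExtTwist20.Basic
import Groth.Agent.Lib.ASBun21.PushFree
import Groth.Agent.Lib.ModDesc.Approx
import Groth.Agent.Lib.Euler.Section
import Groth.Agent.Lib.Euler.Slope
import Groth.Agent.Lib.Snapper.PushEuler
import Groth.Agent.Lib.Ample.RelAmple
import Groth.Agent.Lib.CurveRR.Dual
import Groth.Agent.Lib.DeltaEuler.Main
import Groth.Agent.Lib.Ref1.Tensor
import Groth.Agent.Lib.Euler.TensorSupport
import Groth.Prelude.Def_ShStab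

/-!
# Stability of direct images along a finite birational map of curves
-/

set_option autoImplicit false
set_option linter.all false
set_option backward.isDefEq.respectTransparency false

universe u

open CategoryTheory CategoryTheory.Limits AlgebraicGeometry TopologicalSpace Polynomial
open GrothLib.DecSh20 GrothLib.Euler
open StabCat (alpha RedLE RedLT PolyLE PolyLT)

noncomputable section

namespace GrothLib.PushStab11

local notation "T" => CohB1.tensorMod

section One

variable (k : Type u) [Field k] {X : Scheme.{u}} [X.Over (Spec (CommRingCat.of k))]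
  [IsProper (X ↘ Spec (CommRingCat.of k))]

attribute [local irreducible] Curv2.euler

theorem redLE_linear {a b c d : ℚ} :
    RedLE 1 (C a * Polynomial.X + C b : ℚ[X]) (C c * Polynomial.X + C d) ↔ c * b ≤ a * d := by
  simp only [RedLE, PolyLE, alpha_linear, eval_smul, eval_linear, smul_eq_mul]
  constructor
  · rintro ⟨N, h⟩; have := h N le_rfl; linarith
  · intro h; exact ⟨0, fun m _ => by linarith⟩

theorem redLT_linear {a b c d : ℚ} :
    RedLT 1 (C a * Polynomial.X + C b : ℚ[X]) (C c * Polynomial.X + C d) ↔ c * b < a * d := by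
  simp only [RedLT, PolyLT, alpha_linear, eval_smul, eval_linear, smul_eq_mul]
  constructor
  · rintro ⟨N, h⟩; have := h N le_rfl; linarith
  · intro h; exact ⟨0, fun m _ => by linarith⟩

theorem hilb_eq (hd : topologicalKrullDim X ≤ 1) {L : X.Modules} (hL : PicF.IsInvertible L) {F : X.Modules}
    (hF : Coh.IsCoh F) {P : ℚ[X]} (hP : ShStab.IsHilbPoly k X L F P) :
    P = Polynomial.C (DecSh.mult k X L F : ℚ) * Polynomial.X + Polynomial.C (Curv2.euler k X F : ℚ) :=
  Hilb20.isHilbPoly_unique hP (isHilbPoly_linear k hd hL hF)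

theorem isSS_iff (hd : topologicalKrullDim X ≤ 1) {L : X.Modules} (hL : PicF.IsInvertible L) {E : X.Modules}
    (hE : Coh.IsCoh E) :
    StabCat.IsSS Coh.IsCoh (ShStab.IsHilbPoly k X L) 1 E ↔
      ∀ (F : X.Modules) (ι : F ⟶ E), Mono ι → Coh.IsCoh F → ¬ IsZero F → ¬ IsIso ι →
        DecSh.mult k X L E * Curv2.euler k X F ≤ DecSh.mult k X L F * Curv2.euler k X E := by
  constructor
  · intro h F ι hι hF hz hi
    have := redLE_linear.1 (h F ι hι hF hz hi _ _ (isHilbPoly_linear k hd hL hF) (isHilbPoly_linear k hd hL hE))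
    exact_mod_cast this
  · intro h F ι hι hF hz hi pF pE hpF hpE
    rw [hilb_eq k hd hL hF hpF, hilb_eq k hd hL hE hpE, redLE_linear]
    exact_mod_cast h F ι hι hF hz hi

theorem isSt_iff (hd : topologicalKrullDim X ≤ 1) {L : X.Modules} (hL : PicF.IsInvertible L) {E : X.Modules}
    (hE : Coh.IsCoh E) :
    StabCat.IsSt Coh.IsCoh (ShStab.IsHilbPoly k X L) 1 E ↔
      ∀ (F : X.Modules) (ι : F ⟶ E), Mono ι → Coh.IsCoh F → ¬ IsZero F → ¬ IsIso ι →
        DecSh.mult k X L E * Curv2.euler k X F < DecSh.mult k X L F * Curv2.euler k X E := by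
  constructor
  · intro h F ι hι hF hz hi
    have := redLT_linear.1 (h F ι hι hF hz hi _ _ (isHilbPoly_linear k hd hL hF) (isHilbPoly_linear k hd hL hE))
    exact_mod_cast this
  · intro h F ι hι hF hz hi pF pE hpF hpE
    rw [hilb_eq k hd hL hF hpF, hilb_eq k hd hL hE hpE, redLT_linear]
    exact_mod_cast h F ι hι hF hz hi

theorem mult_eq_zero_of_finite_support [IsIntegral X] (hd : topologicalKrullDim X ≤ 1) {L : X.Modules}
    (hL : PicF.IsInvertible L) {Q : X.Modules} (hQ : Coh.IsCoh Q) (hη : genericPoint X ∉ CohB1.support Q) :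
    DecSh.mult k X L Q = 0 := by
  obtain ⟨hfin, hcl⟩ := finite_support_of_notMem_genericPoint k hd hQ hη
  have h := euler_tF_of_finite_support k (Euler.isFinLocFreeOfRank_one' hL) hQ hfin hcl
  rw [Nat.cast_one, one_mul] at h
  change Curv2.euler k X ((tF L).obj Q) - _ = 0
  rw [h, sub_self]

theorem isZero_of_data (hd : topologicalKrullDim X ≤ 1) {L : X.Modules} (hL : CohB1.IsAmple L) {F : X.Modules}
    (hF : Coh.IsCoh F) (h0 : DecSh.mult k X L F = 0) (h1 : Curv2.euler k X F = 0) : IsZero F := by
  by_contra hz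
  exact (((euler_nonneg_of_mult_eq_zero k hd hL hF h0).2 hz).ne') h1

theorem isIso_of_data (hd : topologicalKrullDim X ≤ 1) {L : X.Modules} (hL : CohB1.IsAmple L) {F E : X.Modules}
    (ι : F ⟶ E) [Mono ι] (hF : Coh.IsCoh F) (hE : Coh.IsCoh E)
    (h0 : DecSh.mult k X L F = DecSh.mult k X L E) (h1 : Curv2.euler k X F = Curv2.euler k X E) : IsIso ι := by
  have hz : IsZero (cokernel ι) := by
    refine isZero_of_data k hd hL (DecSh20.isCoh_cokernel k ι hF hE) ?_ ?_
    · have := mult_cokernel k hL.1 ι hF hE; omega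
    · have := euler_cokernel k ι hF hE; omega
  haveI : Epi ι := Preadditive.epi_of_cokernel_zero (hz.eq_of_tgt _ _)
  exact isIso_of_mono_of_epi ι

include k in
/-- On an integral curve a module with finitely supported sections maps to zero in a bundle. -/
theorem isPure_of_locFree [IsIntegral X] (hdim : topologicalKrullDim X = 1) {E : X.Modules}
    (hE : FlatMod.IsFinLocFree E) : ShStab.IsPure X E 1 := by
  intro F ι hι hF hz
  haveI := hι
  haveI := hF.1
  haveI := Euler.isNoetherian_of_proper (X := X) k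
  by_cases hη : genericPoint X ∈ CohB1.support F
  · have : CohB1.support F = Set.univ := by
      refine Set.eq_univ_of_forall fun x => ?_
      exact (genericPoint_specializes x).mem_closed (QCoh.isClosed_support_of_isCoh hF) hη
    rw [this]
    exact ((Homeomorph.Set.univ X).isHomeomorph.topologicalKrullDim_eq).trans (by exact_mod_cast hdim)
  · refine absurd ((IsZero.iff_id_eq_zero F).2 ?_) hz
    rw [← cancel_mono ι, Category.id_comp, Limits.zero_comp]
    refine Scheme.Modules.hom_ext _ _ fun U => AddCommGrpCat.ext fun s => ?_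
    show ι.app U s = 0
    by_cases hηU : genericPoint X ∈ U
    · haveI := QCoh.stalk_subsingleton_of_notMem hη
      refine CurveRR.germ_generic_injective hE hηU ?_
      rw [map_zero, ← QCoh.stalkLin_germ, Subsingleton.elim (F.presheaf.germ U (genericPoint X) hηU s) 0, map_zero]
    · exact QCoh.section_eq_zero_of_germ E _ fun y hy =>
        absurd ((genericPoint_specializes y).mem_open U.2 hy) hηU

end One

section Push

variable (k : Type u) [Field k] {X Y : Scheme.{u}} [X.Over (Spec (CommRingCat.of k))]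
  [Y.Over (Spec (CommRingCat.of k))] [IsProper (X ↘ Spec (CommRingCat.of k))]
  [IsProper (Y ↘ Spec (CommRingCat.of k))] [IsIntegral X] [IsIntegral Y]
  (ν : Y ⟶ X) [IsFinite ν] (hν : ν ≫ (X ↘ Spec (CommRingCat.of k)) = Y ↘ Spec (CommRingCat.of k))

attribute [local irreducible] Curv2.euler

include k in
theorem isCoh_push {F : Y.Modules} (hF : Coh.IsCoh F) : Coh.IsCoh ((Scheme.Modules.pushforward ν).obj F) := by
  haveI := Euler.isNoetherian_of_proper (X := X) k
  haveI := Euler.isNoetherian_of_proper (X := Y) k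
  exact ASBun21.isCoh_push_finite ν hF

include hν in
theorem euler_push {F : Y.Modules} (hF : Coh.IsCoh F) :
    Curv2.euler k X ((Scheme.Modules.pushforward ν).obj F) = Curv2.euler k Y F :=
  haveI := hF.1
  Snapper.euler_pushforward ν hν F

include hν in
theorem mult_push {L : X.Modules} (hL : PicF.IsInvertible L) (hL' : PicF.IsInvertible ((Scheme.Modules.pullback ν).obj L))
    {F : Y.Modules} (hF : Coh.IsCoh F) :
    DecSh.mult k X L ((Scheme.Modules.pushforward ν).obj F) =
      DecSh.mult k Y ((Scheme.Modules.pullback ν).obj L) F := by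
  haveI := Euler.isNoetherian_of_proper (X := Y) k
  haveI := ProjFormula.isIso_projHom ν (Euler.isFinLocFree_of_isInvertible hL) F
  let L' := (Scheme.Modules.pullback ν).obj L
  let e : T ((Scheme.Modules.pushforward ν).obj F) L ≅ (Scheme.Modules.pushforward ν).obj (T F L') :=
    (((OX.tensorBraiding (X := X)).app L).app ((Scheme.Modules.pushforward ν).obj F)) ≪≫
      asIso (ProjFormula.projHom ν L F) ≪≫
      (Scheme.Modules.pushforward ν).mapIso (((OX.tensorBraiding (X := Y)).app F).app L')
  rw [DecSh.mult, DecSh.mult, Euler.euler_of_iso k e, euler_push k ν hν (CMReg.isCoh_tensorMod hF hL'),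
    euler_push k ν hν hF]

variable (hd : topologicalKrullDim X ≤ 1)
  (hC : genericPoint X ∉ CohB1.support (cokernel (ClSub.unitToPush ν)))

include hν hd hC in
theorem mult_pullback_le {L : X.Modules} (hL : CohB1.IsAmple L)
    (hL' : PicF.IsInvertible ((Scheme.Modules.pullback ν).obj L)) {G : X.Modules} (hG : Coh.IsCoh G) :
    DecSh.mult k Y ((Scheme.Modules.pullback ν).obj L) ((Scheme.Modules.pullback ν).obj G) ≤ DecSh.mult k X L G := by
  haveI := Euler.isNoetherian_of_proper (X := X) k
  haveI := Euler.isNoetherian_of_proper (X := Y) k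
  haveI := hG.1
  haveI : (Coh.structureModule Y).IsQuasicoherent := WeakAss.isQuasicoherent_structureModule
  have hOY : Coh.IsCoh (Coh.structureModule Y) := Euler.isCoh_of_isInvertible Euler.isInvertible_structure
  have hOX : Coh.IsCoh (Coh.structureModule X) := Euler.isCoh_of_isInvertible Euler.isInvertible_structure
  have hGY := ModDesc.isCoh_pullback ν G hG
  haveI := FunMor20.isIso_projHom_affine ν (Coh.structureModule Y) G
  let P := (Scheme.Modules.pushforward ν).obj (Coh.structureModule Y)
  let B := (DCoh.tensorBi (X := X)).obj G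
  let eP : B.obj P ≅ (Scheme.Modules.pushforward ν).obj ((Scheme.Modules.pullback ν).obj G) :=
    asIso (ProjFormula.projHom ν G (Coh.structureModule Y)) ≪≫ (Scheme.Modules.pushforward ν).mapIso
      (Euler.tFUnitIso ((Scheme.Modules.pullback ν).obj G))
  let eO : B.obj (Coh.structureModule X) ≅ G := Euler.tFUnitIso G
  let η := ClSub.unitToPush ν
  let Q := cokernel η
  have hP : Coh.IsCoh P := isCoh_push k ν hOY
  have hQ : Coh.IsCoh Q := DecSh20.isCoh_cokernel k η hOX hP
  haveI : PreservesFiniteColimits B := by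
    haveI := OX.preservesColimitsOfSize_tensorBi_flip_obj G
    haveI : PreservesColimitsOfSize.{0, 0} ((DCoh.tensorBi (X := X)).flip.obj G) :=
      preservesSmallestColimits_of_preservesColimits _
    exact preservesFiniteColimits_of_natIso ((OX.tensorBraiding (X := X)).app G)
  haveI : B.Additive := haveI := preservesBinaryBiproducts_of_preservesBinaryCoproducts B
    Functor.additive_of_preservesBinaryBiproducts B
  have hBP : Coh.IsCoh (B.obj P) := QCoh.isCoh_of_iso eP.symm (isCoh_push k ν hGY)
  have hBO : Coh.IsCoh (B.obj (Coh.structureModule X)) := QCoh.isCoh_of_iso eO.symm hG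
  let g := B.map η
  have hBQ : Coh.IsCoh (B.obj Q) :=
    QCoh.isCoh_of_iso (PreservesCokernel.iso B η).symm (DecSh20.isCoh_cokernel k g hBO hBP)
  have hm1 : DecSh.mult k X L (cokernel g) = 0 := by
    rw [mult_of_iso k L (PreservesCokernel.iso B η).symm]
    refine mult_eq_zero_of_finite_support k hd hL.1 hBQ fun hη => hη ?_
    haveI : Subsingleton (Q.presheaf.stalk (genericPoint X)) := QCoh.stalk_subsingleton_of_notMem hC
    exact (Ref1.tensorStalk G Q (genericPoint X)).toEquiv.subsingleton
  let q := Abelian.factorThruImage g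
  have hI : Coh.IsCoh (Abelian.image g) := QCoh.isCoh_kernel _ hBP (DecSh20.isCoh_cokernel k g hBO hBP)
  have h1 : DecSh.mult k X L (Abelian.image g) ≤ DecSh.mult k X L (B.obj (Coh.structureModule X)) := by
    have hK := QCoh.isCoh_kernel q hBO hI
    have hS : (ShortComplex.mk (kernel.ι q) q (kernel.condition q)).ShortExact :=
      { exact := ShortComplex.exact_of_f_is_kernel _ (kernelIsKernel q) }
    have := mult_add k hL.1 hS hK hBO hI
    have := mult_nonneg k hd hL hK
    simp only at *
    omega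
  have h2 : DecSh.mult k X L (B.obj P) = DecSh.mult k X L (Abelian.image g) := by
    have hS : (ShortComplex.mk (Abelian.image.ι g) (cokernel.π g) (kernel.condition _)).ShortExact :=
      { exact := ShortComplex.exact_of_f_is_kernel _ (kernelIsKernel _) }
    have := mult_add k hL.1 hS hI hBP (DecSh20.isCoh_cokernel k g hBO hBP)
    simp only [P] at *
    omega
  rw [mult_of_iso k L eP, mult_push k ν hν hL.1 hL' hGY] at h2
  simp only [P] at *
  rw [mult_of_iso k L eO] at h1
  omega

include hν hd hC in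
/-- The subsheaf of `E` swept out by a subsheaf of `ν_* E`. -/
theorem exists_image_sub {L : X.Modules} (hL : CohB1.IsAmple L)
    (hL' : PicF.IsInvertible ((Scheme.Modules.pullback ν).obj L)) (hdY : topologicalKrullDim Y ≤ 1)
    (hLa : CohB1.IsAmple ((Scheme.Modules.pullback ν).obj L))
    {E : Y.Modules} (hE : Coh.IsCoh E) {G : X.Modules} (ι : G ⟶ (Scheme.Modules.pushforward ν).obj E) [Mono ι]
    (hG : Coh.IsCoh G) (hz : ¬ IsZero G) :
    ∃ (I : Y.Modules) (j : I ⟶ E) (a : G ⟶ (Scheme.Modules.pushforward ν).obj I), Mono j ∧ Coh.IsCoh I ∧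
      ¬ IsZero I ∧ Mono a ∧ a ≫ (Scheme.Modules.pushforward ν).map j = ι ∧
      DecSh.mult k X L G = DecSh.mult k Y ((Scheme.Modules.pullback ν).obj L) I ∧
      Curv2.euler k X G ≤ Curv2.euler k Y I := by
  haveI := Euler.isNoetherian_of_proper (X := X) k
  haveI := Euler.isNoetherian_of_proper (X := Y) k
  let adj := Scheme.Modules.pullbackPushforwardAdjunction ν
  let φ := (adj.homEquiv G E).symm ι
  have hGY := ModDesc.isCoh_pullback ν G hG
  let I := Abelian.image φ
  let p := Abelian.factorThruImage φ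
  have hI : Coh.IsCoh I := QCoh.isCoh_kernel _ hE (DecSh20.isCoh_cokernel k φ hGY hE)
  let a := adj.homEquiv G I p
  have hfac : a ≫ (Scheme.Modules.pushforward ν).map (Abelian.image.ι φ) = ι := by
    rw [← Adjunction.homEquiv_naturality_right, Abelian.image.fac, Equiv.apply_symm_apply]
  haveI : Mono a := mono_of_mono_fac hfac
  have hIz : ¬ IsZero I := fun hIz => hz (IsZero.of_mono a ((Scheme.Modules.pushforward ν).map_isZero hIz))
  have hνI := isCoh_push k ν hI
  have h1 := mult_le_of_mono k hd hL a hG hνI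
  rw [mult_push k ν hν hL.1 hL' hI] at h1
  have h2 : DecSh.mult k Y ((Scheme.Modules.pullback ν).obj L) I ≤
      DecSh.mult k Y ((Scheme.Modules.pullback ν).obj L) ((Scheme.Modules.pullback ν).obj G) := by
    have hK := QCoh.isCoh_kernel p hGY hI
    have hS : (ShortComplex.mk (kernel.ι p) p (kernel.condition p)).ShortExact :=
      { exact := ShortComplex.exact_of_f_is_kernel _ (kernelIsKernel p) }
    have := mult_add k hL' hS hK hGY hI
    have := mult_nonneg k hdY hLa hK
    simp only [I] at *
    omega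
  have h3 := mult_pullback_le k ν hν hd hC hL hL' hG
  have heq : DecSh.mult k X L G = DecSh.mult k Y ((Scheme.Modules.pullback ν).obj L) I := by omega
  have h4 := euler_le_of_mult_eq k hd hL a hG hνI (by rw [mult_push k ν hν hL.1 hL' hI]; exact heq)
  rw [euler_push k ν hν hI] at h4
  exact ⟨I, Abelian.image.ι φ, a, inferInstance, hI, hIz, inferInstance, hfac, heq, h4⟩

variable {L : X.Modules} (hL : CohB1.IsAmple L) (hdY : topologicalKrullDim Y = 1) (hdX : topologicalKrullDim X = 1)
  {E : Y.Modules} (hE : FlatMod.IsFinLocFree E)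

include hν hd hC hL hdY hdX hE in
theorem base_iff :
    (Coh.IsCoh ((Scheme.Modules.pushforward ν).obj E) ∧ ¬ IsZero ((Scheme.Modules.pushforward ν).obj E) ∧
        ShStab.IsPure X ((Scheme.Modules.pushforward ν).obj E) 1) ↔
      (Coh.IsCoh E ∧ ¬ IsZero E ∧ ShStab.IsPure Y E 1) := by
  haveI := Euler.isNoetherian_of_proper (X := X) k
  haveI := Euler.isNoetherian_of_proper (X := Y) k
  have hEc := Euler.isCoh_of_isFinLocFree hE
  have hL'a := Ample.isAmple_pullback_of_isAffineHom ν hL
  have hpure : ¬ IsZero E → ShStab.IsPure X ((Scheme.Modules.pushforward ν).obj E) 1 := fun _ G ι hι hG hz => by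
    haveI := hι
    haveI := hG.1
    obtain ⟨I, j, a, hj, hI, hIz, -, -, hm, -⟩ :=
      exists_image_sub k ν hν hd hC hL hL'a.1 hdY.le hL'a hEc ι hG hz
    haveI := hj
    have h1 := one_le_mult k hdY.le hL'a (isPure_of_locFree k hdY hE) j hI hIz
    rw [← hm] at h1
    by_cases hη : genericPoint X ∈ CohB1.support G
    · have : CohB1.support G = Set.univ := Set.eq_univ_of_forall fun x =>
        (genericPoint_specializes x).mem_closed (QCoh.isClosed_support_of_isCoh hG) hη
      rw [this]
      exact ((Homeomorph.Set.univ X).isHomeomorph.topologicalKrullDim_eq).trans (by exact_mod_cast hdX)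
    · have := mult_eq_zero_of_finite_support k hd hL.1 hG hη
      omega
  constructor
  · rintro ⟨-, hz, -⟩
    exact ⟨hEc, fun h => hz ((Scheme.Modules.pushforward ν).map_isZero h), isPure_of_locFree k hdY hE⟩
  · rintro ⟨-, hz, -⟩
    refine ⟨isCoh_push k ν hEc, fun h => hz ?_, hpure hz⟩
    refine isZero_of_data k hdY.le hL'a hEc ?_ ?_
    · rw [← mult_push k ν hν hL.1 hL'a.1 hEc, mult_zero k h]
    · rw [← euler_push k ν hν hEc, DecSh20.euler_zero k h]

include hν hd hC hL hdY hdX hE in
theorem isSemistable_push_iff :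
    ShStab.IsSemistable k Y ((Scheme.Modules.pullback ν).obj L) E 1 ↔
      ShStab.IsSemistable k X L ((Scheme.Modules.pushforward ν).obj E) 1 := by
  haveI := Euler.isNoetherian_of_proper (X := X) k
  haveI := Euler.isNoetherian_of_proper (X := Y) k
  have hEc := Euler.isCoh_of_isFinLocFree hE
  have hνE := isCoh_push k ν hEc
  have hL'a := Ample.isAmple_pullback_of_isAffineHom ν hL
  have hb := base_iff k ν hν hd hC hL hdY hdX hE
  constructor
  · rintro ⟨h1, h2, h3, hss⟩
    obtain ⟨g1, g2, g3⟩ := hb.2 ⟨h1, h2, h3⟩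
    refine ⟨g1, g2, g3, (isSS_iff k hd hL.1 hνE).2 fun G ι hι hG hz hni => ?_⟩
    haveI := hι
    obtain ⟨I, j, a, hj, hI, hIz, ha, -, hm, hle⟩ :=
      exists_image_sub k ν hν hd hC hL hL'a.1 hdY.le hL'a hEc ι hG hz
    rw [mult_push k ν hν hL.1 hL'a.1 hEc, euler_push k ν hν hEc, hm]
    have hn := mult_nonneg k hdY.le hL'a hEc
    refine le_trans (mul_le_mul_of_nonneg_left hle hn) ?_
    by_cases hji : IsIso j
    · rw [mult_of_iso k _ (asIso j), Euler.euler_of_iso k (asIso j)]
    · exact (isSS_iff k hdY.le hL'a.1 hEc).1 hss I j hj hI hIz hji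
  · rintro ⟨h1, h2, h3, hss⟩
    obtain ⟨g1, g2, g3⟩ := hb.1 ⟨h1, h2, h3⟩
    refine ⟨g1, g2, g3, (isSS_iff k hdY.le hL'a.1 hEc).2 fun I j hj hI hz hni => ?_⟩
    haveI := hj
    have hnz : ¬ IsZero ((Scheme.Modules.pushforward ν).obj I) := fun h => hz (isZero_of_data k hdY.le hL'a hI
      (by rw [← mult_push k ν hν hL.1 hL'a.1 hI, mult_zero k h]) (by rw [← euler_push k ν hν hI, DecSh20.euler_zero k h]))
    have hni' : ¬ IsIso ((Scheme.Modules.pushforward ν).map j) := fun h => hni (isIso_of_data k hdY.le hL'a j hI hEc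
      (by rw [← mult_push k ν hν hL.1 hL'a.1 hI, ← mult_push k ν hν hL.1 hL'a.1 hEc,
        mult_of_iso k L (@asIso _ _ _ _ _ h)])
      (by rw [← euler_push k ν hν hI, ← euler_push k ν hν hEc, Euler.euler_of_iso k (@asIso _ _ _ _ _ h)]))
    have h := (isSS_iff k hd hL.1 hνE).1 hss _ ((Scheme.Modules.pushforward ν).map j) inferInstance
      (isCoh_push k ν hI) hnz hni'
    rwa [mult_push k ν hν hL.1 hL'a.1 hEc, euler_push k ν hν hEc, mult_push k ν hν hL.1 hL'a.1 hI,
      euler_push k ν hν hI] at h

include hν hd hC hL hdY hdX hE in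
theorem isStable_push_iff :
    ShStab.IsStable k Y ((Scheme.Modules.pullback ν).obj L) E 1 ↔
      ShStab.IsStable k X L ((Scheme.Modules.pushforward ν).obj E) 1 := by
  haveI := Euler.isNoetherian_of_proper (X := X) k
  haveI := Euler.isNoetherian_of_proper (X := Y) k
  have hEc := Euler.isCoh_of_isFinLocFree hE
  have hνE := isCoh_push k ν hEc
  have hL'a := Ample.isAmple_pullback_of_isAffineHom ν hL
  have hb := base_iff k ν hν hd hC hL hdY hdX hE
  constructor
  · rintro ⟨h1, h2, h3, hss⟩
    obtain ⟨g1, g2, g3⟩ := hb.2 ⟨h1, h2, h3⟩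
    refine ⟨g1, g2, g3, (isSt_iff k hd hL.1 hνE).2 fun G ι hι hG hz hni => ?_⟩
    haveI := hι
    obtain ⟨I, j, a, hj, hI, hIz, ha, hfac, hm, hle⟩ :=
      exists_image_sub k ν hν hd hC hL hL'a.1 hdY.le hL'a hEc ι hG hz
    haveI := hj
    have hpos := one_le_mult k hdY.le hL'a h3 j hI hIz
    have hposE : 0 < DecSh.mult k Y ((Scheme.Modules.pullback ν).obj L) E := by
      have := mult_le_of_mono k hdY.le hL'a j hI hEc
      omega
    rw [mult_push k ν hν hL.1 hL'a.1 hEc, euler_push k ν hν hEc, hm]
    by_cases hji : IsIso j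
    · rw [mult_of_iso k _ (asIso j), Euler.euler_of_iso k (asIso j)] at *
      refine mul_lt_mul_of_pos_left (lt_of_le_of_ne hle fun he => hni ?_) hposE
      refine isIso_of_data k hd hL ι hG hνE ?_ ?_
      · rw [mult_push k ν hν hL.1 hL'a.1 hEc, hm]
      · rw [euler_push k ν hν hEc, he]
    · exact lt_of_le_of_lt (mul_le_mul_of_nonneg_left hle hposE.le)
        ((isSt_iff k hdY.le hL'a.1 hEc).1 hss I j hj hI hIz hji)
  · rintro ⟨h1, h2, h3, hss⟩
    obtain ⟨g1, g2, g3⟩ := hb.1 ⟨h1, h2, h3⟩
    refine ⟨g1, g2, g3, (isSt_iff k hdY.le hL'a.1 hEc).2 fun I j hj hI hz hni => ?_⟩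
    haveI := hj
    have hnz : ¬ IsZero ((Scheme.Modules.pushforward ν).obj I) := fun h => hz (isZero_of_data k hdY.le hL'a hI
      (by rw [← mult_push k ν hν hL.1 hL'a.1 hI, mult_zero k h]) (by rw [← euler_push k ν hν hI, DecSh20.euler_zero k h]))
    have hni' : ¬ IsIso ((Scheme.Modules.pushforward ν).map j) := fun h => hni (isIso_of_data k hdY.le hL'a j hI hEc
      (by rw [← mult_push k ν hν hL.1 hL'a.1 hI, ← mult_push k ν hν hL.1 hL'a.1 hEc,
        mult_of_iso k L (@asIso _ _ _ _ _ h)])
      (by rw [← euler_push k ν hν hI, ← euler_push k ν hν hEc, Euler.euler_of_iso k (@asIso _ _ _ _ _ h)]))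
    have h := (isSt_iff k hd hL.1 hνE).1 hss _ ((Scheme.Modules.pushforward ν).map j) inferInstance
      (isCoh_push k ν hI) hnz hni'
    rwa [mult_push k ν hν hL.1 hL'a.1 hEc, euler_push k ν hν hEc, mult_push k ν hν hL.1 hL'a.1 hI,
      euler_push k ν hν hI] at h

end Push

end GrothLib.PushStab11
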