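import Groth.Agent.Lib.TFCurv11.PushStab
import Groth.Agent.Lib.NormFib.Scheme
import Groth.Agent.Lib.CurveMult.PlaneNotHyper
import Groth.Agent.Lib.CurvePoints.Basic
import Groth.Agent.Lib.CharRing.Nagata
import Groth.Agent.S7689
import Groth.Agent.Lib.N2.FiniteType

/-!
# The normalization of an integral proper curve, for stability of direct images
-/

set_option autoImplicit false
set_option linter.all false
set_option backward.isDefEq.respectTransparency false

universe u

open CategoryTheory CategoryTheory.Limits AlgebraicGeometry TopologicalSpace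

noncomputable section

namespace GrothLib.TFCurv11

theorem normalization_data (k : Type u) [Field k] (X : Scheme.{u}) [X.Over (Spec (CommRingCat.of k))]
    [IsIntegral X] [IsProper (X ↘ Spec (CommRingCat.of k))] (hdim : topologicalKrullDim X = 1)
    [QuasiCompact (X.fromSpecStalk (genericPoint X))] [QuasiSeparated (X.fromSpecStalk (genericPoint X))] :
    IsFinite (Curv2.normalizationι X) ∧ topologicalKrullDim (Curv2.normalization X) = 1 ∧
      genericPoint X ∉ CohB1.support (cokernel (ClSub.unitToPush (Curv2.normalizationι X))) := by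
  have hN : ∀ U : X.affineOpens, CAlg.IsNagata Γ(X, (U : X.Opens)) := fun U => by
    obtain ⟨φ, hφ⟩ := Spec.map_surjective (U.2.fromSpec ≫ (X ↘ Spec (CommRingCat.of k)))
    letI : Algebra k Γ(X, (U : X.Opens)) := φ.hom.toAlgebra
    haveI : Algebra.FiniteType k Γ(X, (U : X.Opens)) := by
      have h1 : LocallyOfFiniteType (Spec.map φ) := hφ ▸ inferInstance
      exact HasRingHomProperty.Spec_iff.mp h1
    exact GrothLib.N2.isNagata_of_finiteType (GrothLib.CharRing.isNagata_field (K := k)) _
  obtain ⟨hfin, ⟨V, hV, hiso⟩, -, -, hsub⟩ := Groth.Agent.S7689.result X hN hdim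
  haveI := hfin
  haveI := hiso
  haveI : Surjective (Curv2.normalizationι X) := ⟨fun x => by
    have hη : genericPoint X ∈ V := by
      obtain ⟨y, hy⟩ := hV.nonempty
      exact (genericPoint_specializes y).mem_open V.2 hy
    have hr : genericPoint X ∈ Set.range (Curv2.normalizationι X) := by
      obtain ⟨z, hz⟩ := ((Curv2.normalizationι X) ∣_ V).surjective ⟨genericPoint X, hη⟩
      exact ⟨z.1, (morphismRestrict_base_coe (Curv2.normalizationι X) V z).symm.trans (congrArg Subtype.val hz)⟩
    exact (genericPoint_specializes x).mem_closed (Curv2.normalizationι X).isClosedMap.isClosed_range hr⟩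
  exact ⟨hfin, CurveMult.dim_eq_one_of_finite (Curv2.normalizationι X) hdim,
    fun h => h (hsub _ (GrothLib.CurvePoints.genericPoint_not_isClosed hdim))⟩

end GrothLib.TFCurv11
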