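import Groth.Agent.Lib.TFCurv11.Sandwich
import Groth.Agent.Lib.TFCurv11.Normalization
import Groth.Agent.Lib.NormFib.Normal
import Groth.Agent.Lib.NormFib.Cokernel
import Groth.Agent.Lib.DescLocus6.Frames
import Groth.Agent.Lib.BCCoh.PullSec
import Groth.Agent.Lib.OX.OneDegLocus
import Groth.Agent.Lib.Euler.VB
import Groth.Agent.Lib.FunMor20.ProjAffine

/-!
# Modules pushed forward from the normalization of an integral curve
-/

set_option autoImplicit false
set_option linter.all false
set_option backward.isDefEq.respectTransparency false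

universe u

open CategoryTheory CategoryTheory.Limits Opposite AlgebraicGeometry TopologicalSpace
open GrothLib.QCoh (stalkLin rr)
open GrothLib.SubGerm11
open GrothLib.FinCov (IsFrame)

noncomputable section

namespace GrothLib.NormPush11

section Generic

variable {X Y : Scheme.{u}} (f : Y ⟶ X)

theorem push_smul {M : Y.Modules} {V : X.Opens} (r : Γ(X, V)) (s : Γ((Scheme.Modules.pushforward f).obj M, V)) :
    r • s = (show Γ((Scheme.Modules.pushforward f).obj M, V) from
      (f.app V r • (show Γ(M, f ⁻¹ᵁ V) from s) : Γ(M, f ⁻¹ᵁ V))) := rfl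

theorem isTorsionFree_push [IsIntegral X] [IsIntegral Y] (hf : f (genericPoint Y) = genericPoint X)
    {M : Y.Modules} (hM : TorSh.IsTorsionFree M) : TorSh.IsTorsionFree ((Scheme.Modules.pushforward f).obj M) := by
  intro x
  refine Module.IsTorsionFree.mk fun r hr m m' hmm ↦ ?_
  rw [← sub_eq_zero]
  have h0 : r • (m - m') = 0 := by rw [smul_sub]; exact sub_eq_zero.2 hmm
  generalize m - m' = n at h0 ⊢
  obtain ⟨U, hxU, a, rfl⟩ := TopCat.Presheaf.exists_germ_eq X.presheaf r
  obtain ⟨U', hxU', s, rfl⟩ := TopCat.Presheaf.exists_germ_eq ((Scheme.Modules.pushforward f).obj M).presheaf n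
  have hxV : x ∈ U ⊓ U' := ⟨hxU, hxU'⟩
  rw [← TopCat.Presheaf.germ_res_apply X.presheaf (homOfLE (inf_le_left : U ⊓ U' ≤ U)) x hxV a,
    ← germ_rr (inf_le_right : U ⊓ U' ≤ U') x hxV s, ← GrothLib.WeakAss.germ_smul] at h0
  rw [← TopCat.Presheaf.germ_res_apply X.presheaf (homOfLE (inf_le_left : U ⊓ U' ≤ U)) x hxV a] at hr
  rw [← germ_rr (inf_le_right : U ⊓ U' ≤ U') x hxV s]
  generalize X.presheaf.map (homOfLE (inf_le_left : U ⊓ U' ≤ U)).op a = b at hr h0
  generalize rr (inf_le_right : U ⊓ U' ≤ U') s = t at h0 ⊢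
  obtain ⟨W, hW, i₁, i₂, e⟩ := TopCat.Presheaf.germ_eq _ x hxV hxV _ 0 (h0.trans (map_zero _).symm)
  rw [map_zero] at e
  erw [Scheme.Modules.map_smul] at e
  rw [← TopCat.Presheaf.germ_res_apply _ i₁ x hW t]
  rw [← TopCat.Presheaf.germ_res_apply X.presheaf i₁ x hW b] at hr
  generalize X.presheaf.map i₁.op b = c at hr e
  generalize ((Scheme.Modules.pushforward f).obj M).presheaf.map i₁.op t = z at e ⊢
  haveI : Nonempty W := ⟨⟨x, hW⟩⟩
  have hc : c ≠ 0 := fun h => hr.ne_zero (by rw [h, map_zero])
  rw [push_smul f c z] at e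
  suffices hz : (show Γ(M, f ⁻¹ᵁ W) from z) = 0 by
    rw [show z = 0 from hz, map_zero]
  refine TopCat.Presheaf.section_ext ⟨M.presheaf, M.isSheaf⟩ (f ⁻¹ᵁ W) _ _ fun p hp => ?_
  refine Eq.trans ?_ (map_zero _).symm
  show M.presheaf.germ (f ⁻¹ᵁ W) p hp z = 0
  have e1 := congrArg (M.presheaf.germ (f ⁻¹ᵁ W) p hp) (show f.app W c • (show Γ(M, f ⁻¹ᵁ W) from z) = 0 from e)
  rw [GrothLib.WeakAss.germ_smul, map_zero] at e1
  haveI := hM p
  refine (smul_eq_zero_iff_right ?_).1 e1
  intro h
  rw [← Scheme.Hom.germ_stalkMap_apply f W p hp c] at h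
  exact ((map_ne_zero_iff _ (germ_injective_of_isIntegral X (f p) hp)).2 hc)
    (CurvePoints.stalkMap_injective f hf p (h.trans (map_zero _).symm))

/-- The span of germs of sections, transported along a map to a direct image. -/
theorem germ_push_mem {F : X.Modules} {M : Y.Modules} (a : F ⟶ (Scheme.Modules.pushforward f).obj M)
    {V T : X.Opens} (S : Set Γ(F, V)) (h : T ≤ V) {s : Γ(F, T)} (hs : s ∈ Submodule.span Γ(X, T) (rr h '' S))
    (p : Y) (hp : p ∈ f ⁻¹ᵁ T) :
    M.presheaf.germ (f ⁻¹ᵁ T) p hp (a.app T s) ∈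
      germSpan (M := M) (V := f ⁻¹ᵁ V) ((fun w => (show Γ(M, f ⁻¹ᵁ V) from a.app V w)) '' S) p (h hp) := by
  induction hs using Submodule.span_induction with
  | mem w hw =>
    obtain ⟨w, hw, rfl⟩ := hw
    refine Submodule.subset_span ⟨_, ⟨w, hw, rfl⟩, ?_⟩
    rw [show a.app T (rr h w) = ((Scheme.Modules.pushforward f).obj M).presheaf.map (homOfLE h).op (a.app V w) from
      (QCoh.map_app a (homOfLE h) w).symm]
    exact (TopCat.Presheaf.germ_res_apply M.presheaf ((Opens.map f.base).map (homOfLE h)) p hp _).symm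
  | zero => rw [map_zero]; exact (map_zero (M.presheaf.germ (f ⁻¹ᵁ T) p hp).hom) ▸ zero_mem _
  | add u v _ _ hu hv =>
    rw [map_add]
    exact (map_add (M.presheaf.germ (f ⁻¹ᵁ T) p hp).hom (a.app T u) (a.app T v)) ▸ add_mem hu hv
  | smul r u _ hu =>
    rw [Scheme.Modules.Hom.app_smul, push_smul]
    exact (GrothLib.WeakAss.germ_smul (F := M) hp (f.app T r) (show Γ(M, f ⁻¹ᵁ T) from a.app T u)) ▸
      Submodule.smul_mem _ _ hu

/-- A morphism into a direct image landing in a submodule factors through it. -/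
theorem exists_factor_push {F : X.Modules} {M : Y.Modules} (a : F ⟶ (Scheme.Modules.pushforward f).obj M)
    (P : QCoh.SubData M) (h : ∀ (U : X.Opens) (s : Γ(F, U)), (show Γ(M, f ⁻¹ᵁ U) from a.app U s) ∈ P.sec (f ⁻¹ᵁ U)) :
    ∃ q : F ⟶ (Scheme.Modules.pushforward f).obj P.obj, q ≫ (Scheme.Modules.pushforward f).map P.ι = a := by
  let q : F ⟶ (Scheme.Modules.pushforward f).obj P.obj :=
    ⟨PresheafOfModules.homMk
      { app := fun U ↦ AddCommGrpCat.ofHom (AddMonoidHom.mk'
          (fun s ↦ (P.lift (a.app U.unop s) (h U.unop s) : Γ(P.obj, f ⁻¹ᵁ U.unop)))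
          fun x y ↦ Subtype.ext (map_add _ x y))
        naturality := fun U V i ↦ AddCommGrpCat.ext fun s ↦ Subtype.ext
          (QCoh.map_app a i.unop s).symm }
      (fun U r s ↦ Subtype.ext (Scheme.Modules.Hom.app_smul a r s))⟩
  exact ⟨q, Scheme.Modules.hom_ext _ _ fun U => AddCommGrpCat.ext fun s => rfl⟩

theorem germSpan_top_of_span_top {F : X.Modules} [F.IsQuasicoherent] {V : X.Opens} (hV : IsAffineOpen V)
    (S : Set Γ(F, V)) (hS : Submodule.span Γ(X, V) S = ⊤) (x : X) (hx : x ∈ V) : germSpan S x hx = ⊤ := by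
  refine eq_top_iff.2 fun v _ => ?_
  obtain ⟨q, s, hq, hs⟩ := WeakAss.exists_smul_eq_germ hV hx v
  have hu : IsUnit (X.presheaf.germ V x hx q) :=
    (Scheme.mem_basicOpen _ q x hx).mp (WeakAss.notMem_primeAt_iff.mp hq)
  rw [← Submodule.smul_mem_iff_of_isUnit _ hu, hs]
  refine germ_mem_germSpan le_rfl ?_ x hx
  rw [show rr le_rfl '' S = S by simp only [QCoh.rr_self, Set.image_id'], hS]
  exact Submodule.mem_top

end Generic

variable {X : Scheme.{u}} [IsIntegral X] [QuasiCompact (X.fromSpecStalk (genericPoint X))]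
  [QuasiSeparated (X.fromSpecStalk (genericPoint X))]

local notation "ν" => Curv2.normalizationι X
local notation "Y" => Curv2.normalization X

/-- A section of the normalization is a fraction, integral at each point. -/
theorem exists_frac {U : X.Opens} (hU : IsAffineOpen U) [Nonempty U] (b : Γ(Y, NormFib.pre U)) :
    ∃ q α : Γ(X, U), q ≠ 0 ∧ (Curv2.normalizationι X).app U α = (Curv2.normalizationι X).app U q * b ∧
      ∀ (x : X) (hx : x ∈ U), ∃ r : ↥(integralClosure (X.presheaf.stalk x) X.functionField),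
        algebraMap (X.presheaf.stalk x) X.functionField (X.presheaf.germ U x hx q) * r.1 =
          algebraMap (X.presheaf.stalk x) X.functionField (X.presheaf.germ U x hx α) := by
  let _ := NormFib.chartAlgebra (X := X) U
  obtain ⟨_, hst, hic⟩ := NormFib.exists_chart hU
  haveI := functionField_isFractionRing_of_isAffineOpen X U hU
  let w : X.functionField := algebraMap Γ(Y, NormFib.pre U) X.functionField b
  obtain ⟨⟨α, q, hq⟩, h⟩ := IsLocalization.surj (nonZeroDivisors Γ(X, U)) w
  refine ⟨q, α, nonZeroDivisors.ne_zero hq, ?_, fun x hx => ?_⟩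
  · apply IsIntegralClosure.algebraMap_injective Γ(Y, NormFib.pre U) Γ(X, U) X.functionField
    show algebraMap _ X.functionField (algebraMap Γ(X, U) Γ(Y, NormFib.pre U) α) =
      algebraMap _ X.functionField (algebraMap Γ(X, U) Γ(Y, NormFib.pre U) q * b)
    rw [map_mul, ← IsScalarTower.algebraMap_apply, ← IsScalarTower.algebraMap_apply]
    exact h.symm.trans (mul_comm _ _)
  · haveI : Algebra.IsIntegral Γ(X, U) Γ(Y, NormFib.pre U) :=
      IsIntegralClosure.isIntegral_algebra Γ(X, U) X.functionField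
    letI := X.presheaf.algebra_section_stalk ⟨x, hx⟩
    haveI : IsScalarTower Γ(X, U) (X.presheaf.stalk x) X.functionField := functionField_isScalarTower X U ⟨x, hx⟩
    have hw : IsIntegral (X.presheaf.stalk x) w :=
      ((Algebra.IsIntegral.isIntegral (R := Γ(X, U)) b).algebraMap (B := X.functionField)).tower_top
    refine ⟨⟨w, hw⟩, ?_⟩
    show algebraMap (X.presheaf.stalk x) X.functionField (algebraMap Γ(X, U) (X.presheaf.stalk x) q) * w = _
    rw [← IsScalarTower.algebraMap_apply, mul_comm]
    exact h.trans (IsScalarTower.algebraMap_apply Γ(X, U) (X.presheaf.stalk x) X.functionField α)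

theorem finrank_generic {n : ℕ} {F : X.Modules} {x : X} (hx : x = genericPoint X)
    (e : ↑(F.presheaf.stalk x) ≃ₗ[↑(X.presheaf.stalk x)]
      (Fin n → ↥(integralClosure ↑(X.presheaf.stalk x) X.functionField))) :
    Module.finrank (X.presheaf.stalk x) (F.presheaf.stalk x) = n := by
  have hsurj : Function.Surjective (algebraMap (X.presheaf.stalk x) X.functionField) := fun w => by
    subst hx
    exact ⟨w, ConcreteCategory.congr_hom (TopCat.Presheaf.stalkSpecializes_refl X.presheaf (genericPoint X)) w⟩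
  haveI : IsDomain (X.presheaf.stalk x) := inferInstance
  let e1 : X.presheaf.stalk x ≃ₗ[X.presheaf.stalk x] ↥(integralClosure (X.presheaf.stalk x) X.functionField) :=
    LinearEquiv.ofBijective
      (Algebra.linearMap (X.presheaf.stalk x) ↥(integralClosure (X.presheaf.stalk x) X.functionField))
      ⟨fun a b h => IsFractionRing.injective (X.presheaf.stalk x) X.functionField (congrArg Subtype.val h),
        fun w => by
          obtain ⟨a, ha⟩ := hsurj w.1
          exact ⟨a, Subtype.ext ha⟩⟩
  rw [e.finrank_eq, ← (LinearEquiv.piCongrRight fun _ : Fin n => e1).finrank_eq, Module.finrank_fin_fun]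

theorem isTorsionFree_of_stalks {n : ℕ} {F : X.Modules}
    (h : ∀ x : X, Nonempty (↑(F.presheaf.stalk x) ≃ₗ[↑(X.presheaf.stalk x)]
      (Fin n → ↥(integralClosure ↑(X.presheaf.stalk x) X.functionField)))) : TorSh.IsTorsionFree F := fun x => by
  obtain ⟨e⟩ := h x
  let g : F.presheaf.stalk x →ₗ[X.presheaf.stalk x] (Fin n → X.functionField) :=
    (LinearMap.pi fun i => (integralClosure (X.presheaf.stalk x) X.functionField).val.toLinearMap ∘ₗ
      LinearMap.proj i) ∘ₗ e.toLinearMap
  refine Function.Injective.moduleIsTorsionFree g (fun a b hab => e.injective (funext fun i => Subtype.ext ?_))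
    (map_smul _)
  exact congrFun hab i

section Curve

variable [IsNoetherian X] [IsFinite (Curv2.normalizationι X)] (hd : topologicalKrullDim X ≤ 1)

include hd in
theorem isPrincipalIdealRing_stalk (p : Y) : IsPrincipalIdealRing ((Curv2.normalization X).presheaf.stalk p) := by
  haveI : IsLocallyNoetherian Y := LocallyOfFiniteType.isLocallyNoetherian (Curv2.normalizationι X)
  by_cases hp : p = genericPoint Y
  · subst hp
    exact inferInstanceAs (IsPrincipalIdealRing (Curv2.normalization X).functionField)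
  · haveI := CurvePoints.isDiscreteValuationRing_stalk
      ((AlgSp.topologicalKrullDim_le_of_isIntegralHom (Curv2.normalizationι X)).trans hd) hp
      (NormFib.isNormalScheme_normalization p).2
    infer_instance

theorem isCoh_push {M : (Curv2.normalization X).Modules} (hM : Coh.IsCoh M) :
    Coh.IsCoh ((Scheme.Modules.pushforward (Curv2.normalizationι X)).obj M) := by
  haveI : IsLocallyNoetherian Y := LocallyOfFiniteType.isLocallyNoetherian (Curv2.normalizationι X)
  exact ASBun21.isCoh_push_finite (Curv2.normalizationι X) hM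

include hd in
/-- A coherent module with stalks free over the integral closure is a direct image from the normalization. -/
theorem exists_push_iso {n : ℕ} {F : X.Modules} (hF : Coh.IsCoh F)
    (h : ∀ x : X, Nonempty (↑(F.presheaf.stalk x) ≃ₗ[↑(X.presheaf.stalk x)]
      (Fin n → ↥(integralClosure ↑(X.presheaf.stalk x) X.functionField)))) :
    ∃ E : (Curv2.normalization X).Modules, FlatMod.IsFinLocFreeOfRank n E ∧
      Nonempty ((Scheme.Modules.pushforward (Curv2.normalizationι X)).obj E ≅ F) := by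
  classical
  haveI := hF.1
  haveI : IsLocallyNoetherian Y := LocallyOfFiniteType.isLocallyNoetherian (Curv2.normalizationι X)
  have hFt := isTorsionFree_of_stalks h
  have hn := finrank_generic rfl (h (genericPoint X)).some
  obtain ⟨-, ⟨E', j, hE', hj, hjreg⟩⟩ := Sandwich11.exists_sub_and_super hd hF hFt hn
  haveI := hj
  have hE'c := Euler.isCoh_of_isFinLocFree (fun x => by obtain ⟨U, hx, e⟩ := hE' x; exact ⟨U, n, hx, e⟩ :
    FlatMod.IsFinLocFree E')
  haveI := hE'c.1
  let adj := Scheme.Modules.pullbackPushforwardAdjunction (Curv2.normalizationι X)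
  let M := (Scheme.Modules.pullback (Curv2.normalizationι X)).obj E'
  have hMr : FlatMod.IsFinLocFreeOfRank n M := OX.isFinLocFreeOfRank_pullback (Curv2.normalizationι X) hE'
  have hMf : FlatMod.IsFinLocFree M := fun x => by obtain ⟨U, hx, e⟩ := hMr x; exact ⟨U, n, hx, e⟩
  have hMc := Euler.isCoh_of_isFinLocFree hMf
  haveI := hMc.1
  have hMt : TorSh.IsTorsionFree M := Euler.isTorsionFree_of_mono (𝟙 M) hMf
  let N := (Scheme.Modules.pushforward (Curv2.normalizationι X)).obj M
  have hN := isCoh_push hMc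
  haveI := hN.1
  have hgen : Curv2.normalizationι X (genericPoint Y) = genericPoint X := NormFib.map_genericPoint
  have hNt : TorSh.IsTorsionFree N := isTorsionFree_push _ hgen hMt
  let u : E' ⟶ N := adj.unit.app E'
  -- frames
  have hframe : ∀ (D : X.Opens) (e : Fin n → Γ(E', D)), IsFrame E' D e →
      IsFrame M (Curv2.normalizationι X ⁻¹ᵁ D) fun i => u.app D (e i) := fun D e he => by
    have := DescLocus6.isFrame_pullRes (Curv2.normalizationι X) E' he (le_refl (Curv2.normalizationι X ⁻¹ᵁ D))
    convert this using 1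
    funext i
    exact (Cohom.map_self_apply M _ _).symm
  have hEt : TorSh.IsTorsionFree E' := Euler.isTorsionFree_of_mono (𝟙 E')
    (fun x => by obtain ⟨U, hx, e⟩ := hE' x; exact ⟨U, n, hx, e⟩)
  haveI : Mono u := QCoh.mono_of_app_injective u fun U => (injective_iff_map_eq_zero _).2 fun s hs =>
    RatSheaf9.eq_zero_of_generic hEt s fun hηU => by
      obtain ⟨D, e, hηD, he⟩ := FinCov.exists_frame_nhd_of_rank hE' (genericPoint X)
      obtain ⟨c, hc⟩ := (he (U ⊓ D) inf_le_right).2 (rr inf_le_left s)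
      dsimp only at hc
      have h2 : u.app (U ⊓ D) (rr inf_le_left s) = 0 := by
        rw [show u.app (U ⊓ D) (rr inf_le_left s) = rr inf_le_left (u.app U s) from (QCoh.map_app u _ s).symm, hs,
          map_zero]
      rw [← hc, map_sum] at h2
      have h3 : (fun i => (Curv2.normalizationι X).app (U ⊓ D) (c i)) = 0 := by
        apply (hframe D e he (Curv2.normalizationι X ⁻¹ᵁ (U ⊓ D))
          ((Opens.map (Curv2.normalizationι X).base).monotone inf_le_right)).1
        simp only [Pi.zero_apply, zero_smul, Finset.sum_const_zero]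
        refine Eq.trans ?_ h2
        refine Finset.sum_congr rfl fun i _ => ?_
        rw [Scheme.Modules.Hom.app_smul, ← QCoh.map_app u (homOfLE (inf_le_right : U ⊓ D ≤ D)) (e i), push_smul]
        rfl
      rw [← germ_rr (inf_le_left : U ⊓ D ≤ U) (genericPoint X) ⟨hηU, hηD⟩ s, ← hc]
      refine (Euler.germ_sum_smul _ c _).trans (Finset.sum_eq_zero fun i _ => ?_)
      suffices hci : X.presheaf.germ (U ⊓ D) (genericPoint X) ⟨hηU, hηD⟩ (c i) = 0 by rw [hci, zero_smul]
      have hp : genericPoint Y ∈ Curv2.normalizationι X ⁻¹ᵁ (U ⊓ D) := by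
        show Curv2.normalizationι X (genericPoint Y) ∈ U ⊓ D
        rw [hgen]; exact ⟨hηU, hηD⟩
      have h4 : X.presheaf.germ (U ⊓ D) (Curv2.normalizationι X (genericPoint Y)) hp (c i) = 0 :=
        CurvePoints.stalkMap_injective _ hgen (genericPoint Y) ((Scheme.Hom.germ_stalkMap_apply _ _ _ hp _).trans
          ((congrArg ((Curv2.normalization X).presheaf.germ _ _ hp) (congrFun h3 i)).trans
            ((map_zero _).trans (map_zero _).symm)))
      haveI : Nonempty ↥(U ⊓ D) := ⟨⟨_, hp⟩⟩
      rw [(map_eq_zero_iff _ (germ_injective_of_isIntegral X _ hp)).1 h4, map_zero]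
  let a : F ⟶ N := j ≫ u
  -- generators on affine opens
  have hfg : ∀ V : X.affineOpens, ∃ S : Finset Γ(F, (V : X.Opens)),
      Submodule.span Γ(X, (V : X.Opens)) (S : Set Γ(F, (V : X.Opens))) = ⊤ := fun V =>
    (QCoh.moduleFinite_of_isFiniteType F hF.2 V.2).fg_top
  choose S hS using hfg
  let Wk : X.affineOpens → (Curv2.normalization X).Opens := fun V => Curv2.normalizationι X ⁻¹ᵁ V.1
  let Sk : ∀ V : X.affineOpens, Set Γ(M, Wk V) := fun V =>
    (fun w => (show Γ(M, Wk V) from a.app V.1 w)) '' (S V : Set Γ(F, (V : X.Opens)))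
  have hcov : ∀ p : Y, ∃ V, p ∈ Wk V := fun p => by
    obtain ⟨V, hV, hpV, -⟩ := exists_isAffineOpen_mem_and_subset
      (x := Curv2.normalizationι X p) (U := ⊤) trivial
    exact ⟨⟨V, hV⟩, hpV⟩
  have hall : ∀ (V : X.affineOpens) (T : X.Opens) (s : Γ(F, T)) (p : Y)
      (hpT : p ∈ Curv2.normalizationι X ⁻¹ᵁ T) (hpV : p ∈ Wk V),
      M.presheaf.germ (Curv2.normalizationι X ⁻¹ᵁ T) p hpT (a.app T s) ∈ germSpan (Sk V) p hpV := by
    intro V T s p hpT hpV
    obtain ⟨T', h, h', hp', hm⟩ := exists_nhd_mem_span (S := (S V : Set Γ(F, (V : X.Opens)))) hpV hpT (s := s)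
      (by rw [germSpan_top_of_span_top V.2 _ (hS V)]; exact Submodule.mem_top)
    have := germ_push_mem (Curv2.normalizationι X) a _ h' hm p hp'
    rw [show a.app T' (rr h s) = N.presheaf.map (homOfLE h).op (a.app T s) from (QCoh.map_app a (homOfLE h) s).symm] at this
    exact (TopCat.Presheaf.germ_res_apply M.presheaf
      ((Opens.map (Curv2.normalizationι X).base).map (homOfLE h)) p hp' _) ▸ this
  obtain ⟨P, hP, hmem, hrange⟩ := exists_sub Wk Sk (fun V => (S V).finite_toSet.image _) hcov
    (fun V V' p hV hV' => le_antisymm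
      (Submodule.span_le.2 (by rintro _ ⟨_, ⟨w, hw, rfl⟩, rfl⟩; exact hall V' V.1 w p hV hV'))
      (Submodule.span_le.2 (by rintro _ ⟨_, ⟨w, hw, rfl⟩, rfl⟩; exact hall V V'.1 w p hV' hV)))
  haveI : Mono P.ι := QCoh.mono_of_app_injective _ P.ι_app_injective
  obtain ⟨q, hq⟩ := exists_factor_push (Curv2.normalizationι X) a P fun U s =>
    hmem _ _ fun V p hpU hpV => hall V U s p hpU hpV
  haveI : Mono q := mono_of_mono_fac hq
  -- rank
  have hξ : genericPoint Y ∈ Curv2.normalizationι X ⁻¹ᵁ ⊤ := trivial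
  have hrk : Euler.grank P.obj = n := by
    obtain ⟨D, e, hηD, he⟩ := FinCov.exists_frame_nhd_of_rank hE' (genericPoint X)
    have hpD : genericPoint Y ∈ Curv2.normalizationι X ⁻¹ᵁ D := by
      show Curv2.normalizationι X (genericPoint Y) ∈ D
      rw [hgen]; exact hηD
    obtain ⟨V, hpV⟩ := hcov (genericPoint Y)
    have hsurj : Function.Surjective (stalkLin P.ι (genericPoint Y)) := by
      rw [← LinearMap.range_eq_top, hrange V _ hpV, eq_top_iff,
        ← Sandwich11.germSpan_top_of_basis _ hpD (Euler.bijective_germ_comb (hframe D e he) hpD).2,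
        germSpan, Submodule.span_le]
      rintro _ ⟨_, ⟨i, rfl⟩, rfl⟩
      haveI : IsRegularLocalRing (X.presheaf.stalk (genericPoint X)) :=
        inferInstanceAs (IsRegularLocalRing X.functionField)
      haveI := hjreg (genericPoint X) inferInstance
      have hjs : Function.Surjective (stalkLin j (genericPoint X)) := by
        intro w
        exact ((ShortComplex.ShortExact.moduleCat_exact_iff_function_exact _).1 ((OX.exact_iff _).1
          (ShortComplex.exact_of_g_is_cokernel (ShortComplex.mk j (cokernel.π j) (cokernel.condition j))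
            (cokernelIsCokernel j)) (genericPoint X)) w).1 (Subsingleton.elim (α := (cokernel j).presheaf.stalk _) _ _)
      obtain ⟨v, hv⟩ := hjs (E'.presheaf.germ D (genericPoint X) hηD (e i))
      obtain ⟨T, hηT, s, rfl⟩ := TopCat.Presheaf.exists_germ_eq F.presheaf v
      rw [QCoh.stalkLin_germ] at hv
      obtain ⟨O, hηO, i₁, i₂, he1⟩ := TopCat.Presheaf.germ_eq E'.presheaf (genericPoint X) hηT hηD _ _ hv
      have hpO : genericPoint Y ∈ Curv2.normalizationι X ⁻¹ᵁ O := by
        show Curv2.normalizationι X (genericPoint Y) ∈ O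
        rw [hgen]; exact hηO
      have := hall V O (F.presheaf.map i₁.op s) (genericPoint Y) hpO hpV
      rw [show a.app O (F.presheaf.map i₁.op s) = N.presheaf.map i₂.op (u.app D (e i)) by
        rw [show a.app O (F.presheaf.map i₁.op s) = u.app O (j.app O (F.presheaf.map i₁.op s)) from rfl,
          ← QCoh.map_app j i₁ s, he1, ← QCoh.map_app u i₂]] at this
      exact (TopCat.Presheaf.germ_res_apply M.presheaf
        ((Opens.map (Curv2.normalizationι X).base).map i₂) (genericPoint Y) hpO _) ▸ this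
    rw [← Euler.grank_of_locFree hMr]
    exact (LinearEquiv.ofBijective (stalkLin P.ι (genericPoint Y))
      ⟨QCoh.stalkLin_injective P.ι _, hsurj⟩).finrank_eq
  have hPlf : FlatMod.IsFinLocFreeOfRank n P.obj :=
    hrk ▸ Euler.isFinLocFreeOfRank_of_mono (isPrincipalIdealRing_stalk hd) P.ι hP hMf
  -- the image on affine opens is stable under the normalization
  have hstable : ∀ (V : X.affineOpens) (m : Γ(M, Wk V)),
      m ∈ Submodule.span Γ(Y, Wk V) (Sk V) → ∃ s : Γ(F, (V : X.Opens)), a.app V.1 s = m := by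
    intro V m hm
    induction hm using Submodule.span_induction with
    | mem w hw => obtain ⟨s, -, rfl⟩ := hw; exact ⟨s, rfl⟩
    | zero => exact ⟨0, map_zero _⟩
    | add x y _ _ hx hy =>
      obtain ⟨s, rfl⟩ := hx; obtain ⟨t, rfl⟩ := hy
      exact ⟨s + t, map_add _ _ _⟩
    | smul b w _ hw =>
      obtain ⟨s, rfl⟩ := hw
      by_cases hne : Nonempty (V : X.Opens)
      swap
      · refine ⟨0, ?_⟩
        rw [map_zero]
        refine TopCat.Presheaf.section_ext ⟨M.presheaf, M.isSheaf⟩ _ _ _ fun p hp => (hne ⟨⟨_, hp⟩⟩).elim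
      obtain ⟨c, α, hc, hcα, hint⟩ := exists_frac V.2 b
      let m : Γ(N, (V : X.Opens)) := (b • (show Γ(M, Wk V) from a.app V.1 s) : Γ(M, Wk V))
      have hcm : α • a.app V.1 s = c • m := by
        rw [push_smul, push_smul, hcα, mul_smul]
      have key : ∀ (x : X) (hx : x ∈ V.1),
          N.presheaf.germ V.1 x hx m ∈ germSpan ((fun w => a.app V.1 w) '' (S V : Set Γ(F, (V : X.Opens)))) x hx := by
        intro x hx
        obtain ⟨e⟩ := h x
        obtain ⟨r, hr⟩ := hint x hx
        let v : F.presheaf.stalk x := e.symm fun i => r * e (F.presheaf.germ V.1 x hx s) i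
        have hv : X.presheaf.germ V.1 x hx c • v = X.presheaf.germ V.1 x hx α • F.presheaf.germ V.1 x hx s := by
          apply e.injective
          rw [map_smul, map_smul, e.apply_symm_apply]
          funext i
          refine Subtype.ext ?_
          simp only [Pi.smul_apply, SetLike.val_smul, MulMemClass.coe_mul, Algebra.smul_def,
            Subalgebra.coe_algebraMap]
          rw [← hr]
          ring
        have h1 : X.presheaf.germ V.1 x hx c • stalkLin a x v = X.presheaf.germ V.1 x hx c • N.presheaf.germ V.1 x hx m := by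
          rw [← map_smul, hv, map_smul, QCoh.stalkLin_germ, ← GrothLib.WeakAss.germ_smul, hcm,
            GrothLib.WeakAss.germ_smul]
        haveI := hNt x
        have hc0 : X.presheaf.germ V.1 x hx c ≠ 0 :=
          (map_ne_zero_iff _ (germ_injective_of_isIntegral X x hx)).2 hc
        have h2 : stalkLin a x v = N.presheaf.germ V.1 x hx m := by
          rw [← sub_eq_zero]
          refine (smul_eq_zero_iff_right hc0).1 ?_
          rw [smul_sub, h1, sub_self]
        rw [← h2]
        have hvS : v ∈ germSpan (S V : Set Γ(F, (V : X.Opens))) x hx := by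
          rw [germSpan_top_of_span_top V.2 _ (hS V)]; exact Submodule.mem_top
        have := Submodule.mem_map_of_mem (f := stalkLin a x) hvS
        rw [germSpan, Submodule.map_span, Set.image_image] at this
        rw [germSpan, Set.image_image]
        simpa only [QCoh.stalkLin_germ] using this
      have hm2 := (QCoh.SubData.mem_gen_iff V.2 le_rfl m).1 ((mem_gen_iff_germ _ m).2 fun x hx _ => key x hx)
      rw [show rr le_rfl '' ((fun w => a.app V.1 w) '' (S V : Set Γ(F, (V : X.Opens)))) =
        (fun w => a.app V.1 w) '' (S V : Set Γ(F, (V : X.Opens))) by simp only [QCoh.rr_self, Set.image_id']] at hm2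
      rw [show (fun w => a.app V.1 w) '' (S V : Set Γ(F, (V : X.Opens))) =
        QCoh.appLinear a V.1 '' (S V : Set Γ(F, (V : X.Opens))) from rfl, ← Submodule.map_span] at hm2
      obtain ⟨t, -, ht⟩ := hm2
      exact ⟨t, ht⟩
  haveI : IsIso q := by
    refine (OX.isIso_iff q).2 fun x => (ConcreteCategory.isIso_iff_bijective _).2
      ⟨QCoh.stalkLin_injective q x, fun w => ?_⟩
    obtain ⟨T, hxT, z, rfl⟩ :=
      TopCat.Presheaf.exists_germ_eq ((Scheme.Modules.pushforward (Curv2.normalizationι X)).obj P.obj).presheaf w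
    obtain ⟨V, hV, hxV, hVT⟩ := exists_isAffineOpen_mem_and_subset hxT
    have hVT : V ≤ T := hVT
    let z' : Γ(P.obj, Wk ⟨V, hV⟩) := P.obj.presheaf.map
      ((Opens.map (Curv2.normalizationι X).base).map (homOfLE hVT)).op z
    have hz' : P.ι.app _ z' ∈ Submodule.span Γ(Y, Wk ⟨V, hV⟩) (Sk ⟨V, hV⟩) := by
      have h1 : P.ι.app _ z' ∈ (QCoh.SubData.gen (Sk ⟨V, hV⟩)).sec (Wk ⟨V, hV⟩) :=
        (mem_gen_iff_germ _ _).2 fun p hp hp' => by
          rw [← QCoh.stalkLin_germ P.ι hp z', ← hrange ⟨V, hV⟩ p hp']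
          exact LinearMap.mem_range_self _ _
      have h2 := (QCoh.SubData.mem_gen_iff (hV.preimage (Curv2.normalizationι X)) le_rfl _).1 h1
      rwa [show rr le_rfl '' Sk ⟨V, hV⟩ = Sk ⟨V, hV⟩ by simp only [QCoh.rr_self, Set.image_id']] at h2
    obtain ⟨s, hs⟩ := hstable ⟨V, hV⟩ _ hz'
    refine ⟨F.presheaf.germ V x hxV s, ?_⟩
    show stalkLin q x (F.presheaf.germ V x hxV s) = _
    rw [QCoh.stalkLin_germ, ← germ_rr hVT x hxV z]
    congr 1
    apply P.ι_app_injective
    rw [← hq] at hs
    exact hs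
  exact ⟨P.obj, hPlf, ⟨(asIso q).symm⟩⟩

end Curve

end GrothLib.NormPush11
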