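import Groth.Agent.Lib.TFCurv11.CubicalApps

/-!
# Rank-one modules over `A_{2δ-1}`
-/

set_option autoImplicit false
set_option linter.all false
set_option backward.isDefEq.respectTransparency false

universe u

open CategoryTheory PowerSeries

noncomputable section

namespace GrothLib.TFCurv11

variable {k : Type u} [Field k]

/-- Length over a `k`-algebra with residue field `k` is dimension over `k`. -/
theorem length_eq_of_char {A : Type u} [CommRing A] [Algebra k A] (χ : A →ₐ[k] k) (hu : ∀ x : A, IsUnit x ↔ χ x ≠ 0)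
    (Q : Type u) [AddCommGroup Q] [Module A Q] [Module k Q] [IsScalarTower k A Q]
    {ι : Type*} [Fintype ι] (e : Q ≃ₗ[k] (ι → k)) : Module.length A Q = (Fintype.card ι : ℕ∞) := by
  haveI : Nontrivial A := χ.toRingHom.domain_nontrivial
  haveI : IsLocalRing A := IsLocalRing.of_nonunits_add fun a b ha hb => by
    rw [mem_nonunits_iff, hu, not_not] at ha hb ⊢
    rw [map_add, ha, hb, add_zero]
  have h1 : Module.length k Q = (Fintype.card ι : ℕ∞) := by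
    haveI : Module.Finite k Q := Module.Finite.equiv e.symm
    rw [Module.length_eq_finrank, LinearEquiv.finrank_eq e, Module.finrank_fintype_fun_eq_card]
  haveI : IsLocalHom (algebraMap k A) := ⟨fun a ha => isUnit_iff_ne_zero.2 fun h => by
    rw [h, map_zero] at ha
    exact not_isUnit_zero ha⟩
  have hs : Function.Surjective (algebraMap k (IsLocalRing.ResidueField A)) := fun z => by
    obtain ⟨a, rfl⟩ := IsLocalRing.residue_surjective z
    refine ⟨χ a, Ideal.Quotient.eq.2 fun h => ?_⟩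
    exact (hu _).1 h (by rw [map_sub, AlgHom.commutes, Algebra.algebraMap_self, RingHom.id_apply, sub_self])
  have h2 : Module.length (IsLocalRing.ResidueField k) (IsLocalRing.ResidueField A) = 1 := by
    have hone : Module.finrank (IsLocalRing.ResidueField k) (IsLocalRing.ResidueField A) = 1 :=
      finrank_eq_one (1 : IsLocalRing.ResidueField A) one_ne_zero fun w => by
        obtain ⟨c, rfl⟩ := hs w
        refine ⟨IsLocalRing.residue k c, ?_⟩
        rw [Algebra.smul_def, mul_one]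
        rfl
    haveI := Module.finite_of_finrank_eq_succ hone
    rw [Module.length_eq_finrank, hone, Nat.cast_one]
  have h4 := IsLocalRing.length_restrictScalars k A Q
  rw [h1, h2, mul_one] at h4
  exact h4.symm

variable {δ : ℕ} {O : Subalgebra k (k⟦X⟧ × k⟦X⟧)} (hO : ∀ f : k⟦X⟧ × k⟦X⟧, f ∈ O ↔ X ^ δ ∣ f.1 - f.2)

include hO

theorem aOdd_isUnit_iff (hδ : 1 ≤ δ) (x : O) : IsUnit x ↔ constantCoeff (x : k⟦X⟧ × k⟦X⟧).1 ≠ 0 := by
  constructor
  · intro hx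
    exact (PowerSeries.isUnit_iff_constantCoeff.1 (Prod.isUnit_iff.1 (hx.map O.val)).1).ne_zero
  · intro hx
    obtain ⟨r, hr⟩ := (hO _).1 x.2
    have h2 : constantCoeff (x : k⟦X⟧ × k⟦X⟧).2 ≠ 0 := by
      have h := congrArg constantCoeff hr
      rw [map_sub, map_mul, map_pow, constantCoeff_X, zero_pow (by omega), zero_mul, sub_eq_zero] at h
      rwa [← h]
    obtain ⟨u₁, hu₁⟩ := (PowerSeries.isUnit_iff_constantCoeff.2 (isUnit_iff_ne_zero.2 hx)).exists_right_inv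
    obtain ⟨u₂, hu₂⟩ := (PowerSeries.isUnit_iff_constantCoeff.2 (isUnit_iff_ne_zero.2 h2)).exists_right_inv
    have hmem : (u₁, u₂) ∈ O := (hO _).2 ⟨-(u₁ * u₂ * r), by
      show u₁ - u₂ = _
      linear_combination (-u₁) * hu₂ + u₂ * hu₁ - u₁ * u₂ * hr⟩
    exact IsUnit.of_mul_eq_one ⟨_, hmem⟩ (Subtype.ext (Prod.ext hu₁ hu₂))

theorem aOdd_mem_span {i : ℕ} (hi : i ≤ δ) (f : k⟦X⟧ × k⟦X⟧) :
    f ∈ Submodule.span O ({(X ^ i, X ^ i), (X ^ δ, 0)} : Set (k⟦X⟧ × k⟦X⟧)) ↔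
      X ^ i ∣ f.2 ∧ X ^ δ ∣ f.1 - f.2 := by
  rw [Submodule.mem_span_pair]
  constructor
  · rintro ⟨a, b, rfl⟩
    obtain ⟨r, hr⟩ := (hO _).1 a.2
    show X ^ i ∣ (a : k⟦X⟧ × k⟦X⟧).2 * X ^ i + (b : k⟦X⟧ × k⟦X⟧).2 * 0 ∧ X ^ δ ∣ ((a : k⟦X⟧ × k⟦X⟧).1 * X ^ i +
      (b : k⟦X⟧ × k⟦X⟧).1 * X ^ δ) - ((a : k⟦X⟧ × k⟦X⟧).2 * X ^ i + (b : k⟦X⟧ × k⟦X⟧).2 * 0)
    exact ⟨Dvd.intro (a : k⟦X⟧ × k⟦X⟧).2 (by ring), Dvd.intro (X ^ i * r + (b : k⟦X⟧ × k⟦X⟧).1) (by
      linear_combination -(X ^ i) * hr)⟩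
  · rintro ⟨⟨s, hs⟩, ⟨q, hq⟩⟩
    refine ⟨⟨(s, s), (hO _).2 (by simp)⟩, ⟨(q, q), (hO _).2 (by simp)⟩, Prod.ext ?_ ?_⟩
    · show s * X ^ i + q * X ^ δ = f.1
      linear_combination -hq - hs
    · show s * X ^ i + q * 0 = f.2
      linear_combination -hs

/-- `Ext¹` between rank-one modules over `A_{2δ-1}`. -/
theorem length_ext_one_A_odd (hδ : 1 ≤ δ) {i i' : ℕ} (hi : i ≤ δ) (hi' : i' ≤ δ)
    {M : Type u} [AddCommGroup M] [Module O M] (jM : M →ₗ[O] k⟦X⟧ × k⟦X⟧) (hjM : Function.Injective jM)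
    (hM : ∀ f, f ∈ LinearMap.range jM ↔ X ^ i ∣ f.2 ∧ X ^ δ ∣ f.1 - f.2)
    {N : Type u} [AddCommGroup N] [Module O N] [Module k N] [IsScalarTower k O N]
    (jN : N →ₗ[O] k⟦X⟧ × k⟦X⟧) (hjN : Function.Injective jN)
    (hN : ∀ f, f ∈ LinearMap.range jN ↔ X ^ i' ∣ f.2 ∧ X ^ δ ∣ f.1 - f.2) :
    Module.length O (Abelian.Ext (ModuleCat.of O M) (ModuleCat.of O N) 1) = ((2 * min i i' : ℕ) : ℕ∞) := by
  classical
  have hM₁ : ∀ m, X ^ i ∣ (jM m).1 := fun m => by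
    obtain ⟨h1, h2⟩ := (hM _).1 ⟨m, rfl⟩
    simpa using dvd_add ((pow_dvd_pow X hi).trans h2) h1
  have hMO : ∀ m, jM m ∈ O := fun m => (hO _).2 ((hM _).1 ⟨m, rfl⟩).2
  obtain ⟨g₀, hg₀⟩ : (X ^ i, X ^ i) ∈ LinearMap.range jM := (hM _).2 ⟨dvd_rfl, by simp⟩
  obtain ⟨g₁, hg₁⟩ : (X ^ δ, 0) ∈ LinearMap.range jM := (hM _).2 ⟨dvd_zero _, by simp⟩
  let p : (Fin 2 → O) →ₗ[O] M := Fintype.linearCombination O ![g₀, g₁]
  have hpv : ∀ c, jM (p c) = (c 0 : k⟦X⟧ × k⟦X⟧) * (X ^ i, X ^ i) + (c 1 : k⟦X⟧ × k⟦X⟧) * (X ^ δ, 0) := fun c => by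
    simp only [p, Fintype.linearCombination_apply, Fin.sum_univ_two, Matrix.cons_val, map_add, map_smul, hg₀, hg₁]
    rfl
  have hp : Function.Surjective p := fun m => by
    obtain ⟨a, b, hab⟩ := Submodule.mem_span_pair.1 ((aOdd_mem_span hO hi _).2 ((hM _).1 ⟨m, rfl⟩))
    refine ⟨![a, b], hjM ?_⟩
    rw [hpv, ← hab]
    rfl
  let z : k⟦X⟧ × k⟦X⟧ := (X ^ (δ - i), 0)
  have hz : ∀ m, z * jM m ∈ O := fun m => (hO _).2 (by
    show X ^ δ ∣ X ^ (δ - i) * (jM m).1 - 0 * (jM m).2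
    obtain ⟨r, hr⟩ := hM₁ m
    rw [hr, zero_mul, sub_zero, ← mul_assoc, ← pow_add, Nat.sub_add_cancel hi]
    exact dvd_mul_right _ _)
  let ρ : M →ₗ[O] (Fin 2 → O) :=
    { toFun := fun m => ![-⟨z * jM m, hz m⟩, ⟨jM m, hMO m⟩]
      map_add' := fun a b => funext (Fin.forall_fin_two.2 ⟨Subtype.ext (by
          show -(z * jM (a + b)) = -(z * jM a) + -(z * jM b)
          rw [map_add]; ring), Subtype.ext (map_add jM a b)⟩)
      map_smul' := fun c a => funext (Fin.forall_fin_two.2 ⟨Subtype.ext (by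
          show -(z * jM (c • a)) = (c : k⟦X⟧ × k⟦X⟧) * -(z * jM a)
          rw [map_smul]
          show -(z * ((c : k⟦X⟧ × k⟦X⟧) * jM a)) = _
          ring), Subtype.ext (map_smul jM c a)⟩) }
  have hρ : Function.Injective ρ := fun a b h => hjM (congrArg (fun c : Fin 2 → O => (c 1 : k⟦X⟧ × k⟦X⟧)) h)
  have hex : Function.Exact ρ p := fun c => by
    constructor
    · intro hc
      have h0 : (c 0 : k⟦X⟧ × k⟦X⟧) * (X ^ i, X ^ i) + (c 1 : k⟦X⟧ × k⟦X⟧) * (X ^ δ, 0) = 0 := by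
        rw [← hpv, hc, map_zero]
      have h02 : (c 0 : k⟦X⟧ × k⟦X⟧).2 * X ^ i + (c 1 : k⟦X⟧ × k⟦X⟧).2 * 0 = 0 := congrArg Prod.snd h0
      have h01 : (c 0 : k⟦X⟧ × k⟦X⟧).1 * X ^ i + (c 1 : k⟦X⟧ × k⟦X⟧).1 * X ^ δ = 0 := congrArg Prod.fst h0
      rw [mul_zero, add_zero, mul_eq_zero, or_iff_left (pow_ne_zero _ X_ne_zero)] at h02
      have hc0 : (c 0 : k⟦X⟧ × k⟦X⟧).1 = -(X ^ (δ - i) * (c 1 : k⟦X⟧ × k⟦X⟧).1) := by
        refine mul_right_cancel₀ (pow_ne_zero i X_ne_zero) ?_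
        rw [neg_mul, mul_right_comm, ← pow_add, Nat.sub_add_cancel hi]
        linear_combination h01
      obtain ⟨r, hr⟩ := (hO _).1 (c 0).2
      rw [h02, sub_zero, hc0] at hr
      have hdiv : X ^ i ∣ (c 1 : k⟦X⟧ × k⟦X⟧).1 := ⟨-r, mul_left_cancel₀ (pow_ne_zero (δ - i) X_ne_zero) (by
        rw [← mul_assoc, ← pow_add, Nat.sub_add_cancel hi]; linear_combination -hr)⟩
      obtain ⟨m, hm⟩ : (c 1 : k⟦X⟧ × k⟦X⟧) ∈ LinearMap.range jM := (hM _).2 ⟨by
        simpa using dvd_sub hdiv ((pow_dvd_pow X hi).trans ((hO _).1 (c 1).2)), (hO _).1 (c 1).2⟩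
      refine ⟨m, funext (Fin.forall_fin_two.2 ⟨Subtype.ext ?_, Subtype.ext hm⟩)⟩
      show -(z * jM m) = (c 0 : k⟦X⟧ × k⟦X⟧)
      rw [hm]
      exact Prod.ext hc0.symm (show -(0 * (c 1 : k⟦X⟧ × k⟦X⟧).2) = _ by rw [h02, zero_mul, neg_zero])
    · rintro ⟨m, rfl⟩
      refine hjM ?_
      rw [hpv, map_zero]
      show -(z * jM m) * (X ^ i, X ^ i) + jM m * (X ^ δ, 0) = 0
      refine Prod.ext ?_ ?_
      · show -(X ^ (δ - i) * (jM m).1) * X ^ i + (jM m).1 * X ^ δ = 0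
        rw [neg_mul, mul_right_comm, ← pow_add, Nat.sub_add_cancel hi]; ring
      · show -(0 * (jM m).2) * X ^ i + (jM m).2 * 0 = 0
        ring
  obtain ⟨δ', hδ', hδk⟩ := exists_cok_pre_linear ρ p hρ hex hp N (subsingleton_ext_one_free _ _)
  choose r₁ hr₁ using hM₁
  choose r₂ hr₂ using fun m => ((hM _).1 ⟨m, rfl⟩).1
  have hcancel : ∀ {a b : k⟦X⟧}, X ^ i * a = X ^ i * b → a = b := fun h => mul_left_cancel₀ (pow_ne_zero i X_ne_zero) h
  have hlin : ∀ (φ : M →ₗ[O] N) (m : M), jN (φ m) = (r₁ m * (jN (φ g₀)).1, r₂ m * (jN (φ g₀)).2) := by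
    intro φ m
    have h1 : (⟨_, hMO m⟩ : O) • g₀ = (⟨_, hMO g₀⟩ : O) • m := hjM (by
      rw [map_smul, map_smul]
      show jM m * jM g₀ = jM g₀ * jM m
      ring)
    have h2 := congrArg (fun w => jN (φ w)) h1
    simp only [map_smul] at h2
    have h3 : jM m * jN (φ g₀) = jM g₀ * jN (φ m) := h2
    rw [hg₀] at h3
    refine Prod.ext (hcancel ?_) (hcancel ?_)
    · have h4 : (jM m).1 * (jN (φ g₀)).1 = X ^ i * (jN (φ m)).1 := congrArg Prod.fst h3
      rw [← h4, hr₁]; ring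
    · have h4 : (jM m).2 * (jN (φ g₀)).2 = X ^ i * (jN (φ m)).2 := congrArg Prod.snd h3
      rw [← h4, hr₂]; ring
  let t := min i i'
  let W := M →ₗ[O] N
  let H : W →ₗ[k] k⟦X⟧ × k⟦X⟧ :=
    { toFun := fun φ => jN (φ g₀)
      map_add' := fun a b => map_add jN _ _
      map_smul' := fun c a => jN.map_smul_of_tower c _ }
  let Φ : W →ₗ[k] (Fin t ⊕ Fin t → k) :=
    { toFun := fun φ => Sum.elim (fun a => coeff (max i i' + (a : ℕ)) (H φ).2) (fun a => coeff (δ + (a : ℕ)) ((H φ).1 - (H φ).2))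
      map_add' := fun a b => by
        ext (q | q) <;> simp only [Sum.elim_inl, Sum.elim_inr, Pi.add_apply, map_add, map_sub, Prod.fst_add, Prod.snd_add] <;> ring
      map_smul' := fun c a => by
        ext (q | q) <;> simp only [Sum.elim_inl, Sum.elim_inr, Pi.smul_apply, map_smul, map_sub, Prod.smul_fst, Prod.smul_snd,
          RingHom.id_apply, smul_eq_mul] <;> ring }
  have hlow : ∀ φ : W, X ^ max i i' ∣ (jN (φ g₀)).2 ∧ X ^ δ ∣ (jN (φ g₀)).1 - (jN (φ g₀)).2 := by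
    intro φ
    obtain ⟨h1, h2⟩ := (hN _).1 ⟨φ g₀, rfl⟩
    refine ⟨?_, h2⟩
    rcases le_total i i' with h | h
    · rwa [max_eq_right h]
    · rw [max_eq_left h]
      obtain ⟨-, h3⟩ := (hN _).1 ⟨φ g₁, rfl⟩
      have ha : r₁ g₁ = X ^ (δ - i) := hcancel (by rw [← hr₁, hg₁, ← pow_add, Nat.add_sub_cancel' hi])
      have hb : r₂ g₁ = 0 := hcancel (by rw [← hr₂, hg₁, mul_zero])
      rw [hlin φ g₁, ha, hb] at h3
      obtain ⟨q, hq⟩ := h3
      have h4 : X ^ i ∣ (jN (φ g₀)).1 := ⟨q, mul_left_cancel₀ (pow_ne_zero (δ - i) X_ne_zero) (by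
        rw [← mul_assoc, ← pow_add, Nat.sub_add_cancel hi]; linear_combination hq)⟩
      simpa using dvd_sub h4 ((pow_dvd_pow X hi).trans h2)
  have hΦ : Function.Surjective Φ := fun w => by
    obtain ⟨h, hh, hh0⟩ := exists_coeff_eq (fun a : Fin t => max i i' + (a : ℕ)) (fun a b h => Fin.ext (by simpa using h))
      (fun a => w (Sum.inl a))
    obtain ⟨D, hD, hD0⟩ := exists_coeff_eq (fun a : Fin t => δ + (a : ℕ)) (fun a b h => Fin.ext (by simpa using h))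
      (fun a => w (Sum.inr a))
    have hh' : X ^ max i i' ∣ h := X_pow_dvd_iff.2 fun q hq => hh0 q (by rintro ⟨a, ha⟩; simp only at ha; omega)
    have hD' : X ^ δ ∣ D := X_pow_dvd_iff.2 fun q hq => hD0 q (by rintro ⟨a, ha⟩; simp only at ha; omega)
    have hin : ∀ m, (r₁ m * (h + D), r₂ m * h) ∈ LinearMap.range jN := fun m => (hN _).2 ⟨
      dvd_mul_of_dvd_right ((pow_dvd_pow X (le_max_right i i')).trans hh') _, by
      obtain ⟨q, hq⟩ := ((hM _).1 ⟨m, rfl⟩).2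
      rw [hr₁, hr₂] at hq
      have h1 : r₁ m - r₂ m = X ^ (δ - i) * q := hcancel (by
        rw [← mul_assoc, ← pow_add, Nat.add_sub_cancel' hi]; linear_combination hq)
      show X ^ δ ∣ r₁ m * (h + D) - r₂ m * h
      rw [show r₁ m * (h + D) - r₂ m * h = r₁ m * D + (r₁ m - r₂ m) * h by ring, h1]
      refine dvd_add (dvd_mul_of_dvd_right hD' _) ?_
      obtain ⟨s, hs⟩ := (pow_dvd_pow X (le_max_left i i')).trans hh'
      exact Dvd.intro (q * s) (by
        rw [hs]; conv_lhs => rw [← Nat.sub_add_cancel hi, pow_add]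
        ring)⟩
    choose v hv using hin
    have ha₁ : ∀ a b, r₁ (a + b) = r₁ a + r₁ b := fun a b => hcancel (by rw [mul_add, ← hr₁, ← hr₁, ← hr₁, map_add]; rfl)
    have ha₂ : ∀ a b, r₂ (a + b) = r₂ a + r₂ b := fun a b => hcancel (by rw [mul_add, ← hr₂, ← hr₂, ← hr₂, map_add]; rfl)
    have hs₁ : ∀ (c : O) a, r₁ (c • a) = (c : k⟦X⟧ × k⟦X⟧).1 * r₁ a := fun c a => hcancel (by
      rw [← hr₁, mul_left_comm, ← hr₁, map_smul]; rfl)
    have hs₂ : ∀ (c : O) a, r₂ (c • a) = (c : k⟦X⟧ × k⟦X⟧).2 * r₂ a := fun c a => hcancel (by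
      rw [← hr₂, mul_left_comm, ← hr₂, map_smul]; rfl)
    let φ : W :=
      { toFun := v
        map_add' := fun a b => hjN (by
          rw [map_add, hv, hv, hv, ha₁, ha₂]
          exact Prod.ext (add_mul _ _ _) (add_mul _ _ _))
        map_smul' := fun c a => hjN (by
          rw [RingHom.id_apply, map_smul, hv, hv, hs₁, hs₂]
          exact Prod.ext (mul_assoc _ _ _) (mul_assoc _ _ _)) }
    have h1 : r₁ g₀ = 1 := hcancel (by rw [← hr₁, hg₀, mul_one])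
    have h2 : r₂ g₀ = 1 := hcancel (by rw [← hr₂, hg₀, mul_one])
    refine ⟨φ, funext fun q => ?_⟩
    rcases q with q | q
    · show coeff (max i i' + (q : ℕ)) (jN (v g₀)).2 = _
      rw [hv, h2, one_mul, hh]
    · show coeff (δ + (q : ℕ)) ((jN (v g₀)).1 - (jN (v g₀)).2) = _
      rw [hv, h1, h2, one_mul, one_mul, add_sub_cancel_left, hD]
  have hkerΦ : LinearMap.ker Φ = (LinearMap.ker δ').restrictScalars k := by
    have hval : ∀ (ψ : (Fin 2 → O) →ₗ[O] N) (m : M), jN (ψ (ρ m)) =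
        jM m * (jN (ψ (Pi.single 1 1)) - z * jN (ψ (Pi.single 0 1))) := by
      intro ψ m
      conv_lhs => rw [pi_eq_sum_univ' (ρ m)]
      rw [map_sum, Fin.sum_univ_two, map_smul, map_smul, map_add, map_smul, map_smul]
      show -(z * jM m) * jN (ψ (Pi.single 0 1)) + jM m * jN (ψ (Pi.single 1 1)) = _
      ring
    ext φ
    rw [LinearMap.mem_ker, Submodule.restrictScalars_mem, hδk]
    constructor
    · intro hφ
      obtain ⟨hl₂, hl⟩ := hlow φ
      obtain ⟨s, hs⟩ : X ^ (i + i') ∣ (jN (φ g₀)).2 := X_pow_dvd_iff.2 fun q hq => by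
        rcases Nat.lt_or_ge q (max i i') with h | h
        · exact X_pow_dvd_iff.1 hl₂ q h
        · obtain ⟨c, rfl⟩ := Nat.exists_eq_add_of_le h
          exact congrFun hφ (Sum.inl ⟨c, by omega⟩)
      obtain ⟨e, he⟩ : X ^ (δ + t) ∣ (jN (φ g₀)).1 - (jN (φ g₀)).2 := X_pow_dvd_iff.2 fun q hq => by
        rcases Nat.lt_or_ge q δ with h | h
        · exact X_pow_dvd_iff.1 hl q h
        · obtain ⟨c, rfl⟩ := Nat.exists_eq_add_of_le h
          exact congrFun hφ (Sum.inr ⟨c, by omega⟩)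
      obtain ⟨y₀, y₁, hy⟩ : ∃ y₀ y₁ : N,
          jN (φ g₀) = (X ^ i, X ^ i) * (jN y₁ - z * jN y₀) := by
        rcases le_total i i' with h | h
        · obtain ⟨y₁, hy₁⟩ : (X ^ i' * s + X ^ δ * e, X ^ i' * s) ∈ LinearMap.range jN :=
            (hN _).2 ⟨dvd_mul_right _ _, by simp⟩
          refine ⟨0, y₁, ?_⟩
          rw [map_zero, mul_zero, sub_zero, hy₁]
          have ht : t = i := min_eq_left h
          rw [ht] at he
          exact Prod.ext (show _ = X ^ i * (X ^ i' * s + X ^ δ * e) by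
            rw [pow_add] at he hs; linear_combination he + hs) (show _ = X ^ i * (X ^ i' * s) by rw [hs, pow_add]; ring)
        · obtain ⟨y₀, hy₀⟩ : (-(X ^ i' * e), -(X ^ i' * e)) ∈ LinearMap.range jN :=
            (hN _).2 ⟨(dvd_mul_right _ _).neg_right, by simp⟩
          obtain ⟨y₁, hy₁⟩ : (X ^ i' * s, X ^ i' * s) ∈ LinearMap.range jN := (hN _).2 ⟨dvd_mul_right _ _, by simp⟩
          refine ⟨y₀, y₁, ?_⟩
          rw [hy₀, hy₁]
          have ht : t = i' := min_eq_right h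
          rw [ht] at he
          refine Prod.ext (show _ = X ^ i * (X ^ i' * s - X ^ (δ - i) * -(X ^ i' * e)) from ?_)
            (show _ = X ^ i * (X ^ i' * s - 0 * -(X ^ i' * e)) from ?_)
          · rw [show δ + i' = i + (δ - i) + i' by omega, pow_add, pow_add] at he
            rw [pow_add] at hs
            linear_combination he + hs
          · rw [hs, pow_add]; ring
      refine ⟨Fintype.linearCombination O ![y₀, y₁], LinearMap.ext fun m => hjN ?_⟩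
      show jN (Fintype.linearCombination O ![y₀, y₁] (ρ m)) = jN (φ m)
      rw [hval, hlin φ m, hy]
      simp only [Fintype.linearCombination_apply_single, one_smul, Matrix.cons_val]
      refine Prod.ext ?_ ?_
      · show (jM m).1 * _ = r₁ m * (X ^ i * _)
        rw [hr₁]; ring
      · show (jM m).2 * _ = r₂ m * (X ^ i * _)
        rw [hr₂]; ring
    · rintro ⟨ψ, rfl⟩
      obtain ⟨⟨a₀, ha₀⟩, ⟨b₀, hb₀⟩⟩ := (hN _).1 ⟨ψ (Pi.single 0 1), rfl⟩
      obtain ⟨⟨a₁, ha₁⟩, ⟨b₁, hb₁⟩⟩ := (hN _).1 ⟨ψ (Pi.single 1 1), rfl⟩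
      have h2 : (jN (ψ (ρ g₀))).2 = X ^ i * (jN (ψ (Pi.single 1 1))).2 := by
        rw [hval, hg₀]
        show X ^ i * ((jN (ψ (Pi.single 1 1))).2 - 0 * (jN (ψ (Pi.single 0 1))).2) = _
        rw [zero_mul, sub_zero]
      have h1 : (jN (ψ (ρ g₀))).1 = X ^ i * (jN (ψ (Pi.single 1 1))).1 - X ^ δ * (jN (ψ (Pi.single 0 1))).1 := by
        rw [hval, hg₀]
        show X ^ i * ((jN (ψ (Pi.single 1 1))).1 - X ^ (δ - i) * (jN (ψ (Pi.single 0 1))).1) = _
        rw [mul_sub, ← mul_assoc, ← pow_add, Nat.add_sub_cancel' hi]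
      funext q
      rcases q with q | q
      · show coeff (max i i' + (q : ℕ)) (jN (ψ (ρ g₀))).2 = (0 : k)
        rw [h2, ha₁, ← mul_assoc, ← pow_add, coeff_X_pow_mul', if_neg (by have : (q : ℕ) < min i i' := q.2; omega)]
      · show coeff (δ + (q : ℕ)) ((jN (ψ (ρ g₀))).1 - (jN (ψ (ρ g₀))).2) = (0 : k)
        have hdiv : X ^ (δ + t) ∣ (jN (ψ (ρ g₀))).1 - (jN (ψ (ρ g₀))).2 := by
          rw [h1, h2, show ∀ a b c : k⟦X⟧, X ^ i * a - X ^ δ * c - X ^ i * b = X ^ i * (a - b) - X ^ δ * c from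
            fun _ _ _ => by ring]
          refine dvd_sub ((pow_dvd_pow X (show δ + t ≤ i + δ by omega)).trans ⟨b₁, by rw [hb₁, pow_add]; ring⟩) ?_
          have h5 : X ^ t ∣ (jN (ψ (Pi.single 0 1))).1 := by
            have h6 := dvd_add ((pow_dvd_pow X (show t ≤ δ by omega)).trans ⟨b₀, hb₀⟩)
              ((pow_dvd_pow X (show t ≤ i' by omega)).trans ⟨a₀, ha₀⟩)
            simpa using h6
          rw [pow_add]
          exact mul_dvd_mul_left _ h5
        exact X_pow_dvd_iff.1 hdiv _ (by have := q.2; omega)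
  rw [← (δ'.quotKerEquivOfSurjective hδ').length_eq]
  let e₁ : (W ⧸ LinearMap.ker δ') ≃ₗ[k] (W ⧸ (LinearMap.ker δ').restrictScalars k) :=
    (Submodule.Quotient.restrictScalarsEquiv k (LinearMap.ker δ')).symm
  let e₂ : (W ⧸ (LinearMap.ker δ').restrictScalars k) ≃ₗ[k] (W ⧸ LinearMap.ker Φ) :=
    Submodule.quotEquivOfEq _ _ hkerΦ.symm
  let χ : O →ₐ[k] k :=
    { toRingHom := (constantCoeff.comp (RingHom.fst k⟦X⟧ k⟦X⟧)).comp O.val.toRingHom
      commutes' := fun c => by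
        show constantCoeff (C c) = c
        exact constantCoeff_C c }
  refine (length_eq_of_char χ (aOdd_isUnit_iff hO hδ) (W ⧸ LinearMap.ker δ') (e₁.trans (e₂.trans (Φ.quotKerEquivOfSurjective hΦ)))).trans ?_
  simp [t, two_mul]

end GrothLib.TFCurv11
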