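import Groth.Agent.Lib.TFCurv11.ExtOne
import Mathlib.RingTheory.LocalRing.Length
import Mathlib.RingTheory.PowerSeries.Inverse
import Mathlib.RingTheory.PowerSeries.NoZeroDivisors

/-!
# Monomial modules over the cubical curve singularities
-/

set_option autoImplicit false
set_option linter.all false
set_option backward.isDefEq.respectTransparency false

universe u

open CategoryTheory PowerSeries

noncomputable section

namespace GrothLib.TFCurv11

variable {k : Type u} [Field k] {n : ℕ} {A : Subalgebra k k⟦X⟧}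

/-- `A` is the ring of power series without terms in degrees `1, …, n - 1`. -/
def IsCub (n : ℕ) (A : Subalgebra k k⟦X⟧) : Prop :=
  ∀ f : k⟦X⟧, f ∈ A ↔ ∀ m : ℕ, coeff m f ≠ 0 → (m = 0 ∨ n ≤ m)

variable (hA : IsCub n A)

include hA

theorem IsCub.mem_of_dvd {f : k⟦X⟧} (h : X ^ n ∣ f) : f ∈ A :=
  (hA f).2 fun m hm => Or.inr (by
    by_contra hlt
    exact hm (PowerSeries.X_pow_dvd_iff.1 h m (by omega)))

theorem IsCub.dvd_sub {f : k⟦X⟧} (h : f ∈ A) : X ^ n ∣ f - C (constantCoeff f) := by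
  rw [PowerSeries.X_pow_dvd_iff]
  intro m hm
  rcases m with _ | m
  · simp
  · rw [map_sub, coeff_C, if_neg (Nat.succ_ne_zero m), sub_zero]
    by_contra h0
    rcases (hA f).1 h _ h0 with h1 | h1 <;> omega

theorem IsCub.isUnit_iff (x : A) : IsUnit x ↔ constantCoeff (x : k⟦X⟧) ≠ 0 := by
  constructor
  · intro hx
    exact (PowerSeries.isUnit_iff_constantCoeff.1 (hx.map A.val)).ne_zero
  · intro hx
    obtain ⟨u, hu⟩ := PowerSeries.isUnit_iff_constantCoeff.2 (isUnit_iff_ne_zero.2 hx)
    have hc : C (constantCoeff (x : k⟦X⟧))⁻¹ * C (constantCoeff (x : k⟦X⟧)) = 1 := by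
      rw [← map_mul, inv_mul_cancel₀ hx, map_one]
    obtain ⟨r, hr⟩ := hA.dvd_sub x.2
    obtain ⟨y, hy⟩ : ∃ y : k⟦X⟧, y * (x : k⟦X⟧) = 1 := ⟨((u⁻¹ : k⟦X⟧ˣ) : k⟦X⟧), by rw [← hu]; exact Units.inv_mul u⟩
    have hinv : y = C (constantCoeff (x : k⟦X⟧))⁻¹ - y * C (constantCoeff (x : k⟦X⟧))⁻¹ * (X ^ n * r) := by
      rw [← hr]
      linear_combination (C (constantCoeff (x : k⟦X⟧))⁻¹) * hy - y * hc
    have hmem : y ∈ A := by
      rw [hinv]
      exact sub_mem (A.algebraMap_mem _) (hA.mem_of_dvd (Dvd.intro (y * C (constantCoeff (x : k⟦X⟧))⁻¹ * r) (by ring)))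
    exact IsUnit.of_mul_eq_one ⟨y, hmem⟩ (Subtype.ext ((mul_comm _ y).trans hy))

theorem IsCub.isLocalRing : IsLocalRing A :=
  IsLocalRing.of_nonunits_add fun a b ha hb => by
    rw [mem_nonunits_iff, hA.isUnit_iff, not_not] at ha hb ⊢
    show constantCoeff ((a : k⟦X⟧) + (b : k⟦X⟧)) = 0
    rw [map_add, ha, hb, add_zero]

/-- Length over `A` is dimension over `k`. -/
theorem IsCub.length_eq (Q : Type u) [AddCommGroup Q] [Module A Q] [Module k Q] [IsScalarTower k A Q]
    {ι : Type*} [Fintype ι] (e : Q ≃ₗ[k] (ι → k)) : Module.length A Q = (Fintype.card ι : ℕ∞) := by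
  haveI := hA.isLocalRing
  have h1 : Module.length k Q = (Fintype.card ι : ℕ∞) := by
    haveI : Module.Finite k Q := Module.Finite.equiv e.symm
    rw [Module.length_eq_finrank, LinearEquiv.finrank_eq e, Module.finrank_fintype_fun_eq_card]
  haveI : IsLocalHom (algebraMap k A) := ⟨fun a ha => isUnit_iff_ne_zero.2 fun h => by
    rw [h, map_zero] at ha
    exact not_isUnit_zero ha⟩
  have hs : Function.Surjective (algebraMap k (IsLocalRing.ResidueField A)) := fun z => by
    obtain ⟨a, rfl⟩ := IsLocalRing.residue_surjective z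
    refine ⟨constantCoeff (a : k⟦X⟧), Ideal.Quotient.eq.2 fun hu => ?_⟩
    have h2 := (hA.isUnit_iff _).1 hu
    exact h2 (by simp [AddSubgroupClass.coe_sub])
  have h2 : Module.length (IsLocalRing.ResidueField k) (IsLocalRing.ResidueField A) = 1 := by
    have hone : Module.finrank (IsLocalRing.ResidueField k) (IsLocalRing.ResidueField A) = 1 :=
      finrank_eq_one (1 : IsLocalRing.ResidueField A) one_ne_zero fun w => by
        obtain ⟨c, rfl⟩ := hs w
        refine ⟨IsLocalRing.residue k c, ?_⟩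
        rw [Algebra.smul_def, mul_one]
        rfl
    haveI := Module.finite_of_finrank_eq_succ hone
    rw [Module.length_eq_finrank, hone, Nat.cast_one]
  have h4 := IsLocalRing.length_restrictScalars k A Q
  rw [h1, h2, mul_one] at h4
  exact h4.symm

variable (hn : 0 < n) {M : Type u} [AddCommGroup M] [Module A M] (j : M →ₗ[A] k⟦X⟧) (hj : Function.Injective j)

include hn hj in
/-- `Ext¹(M, M)` for a monomial module. -/
theorem IsCub.length_ext_one [Module k M] [IsScalarTower k A M] {i : ℕ} (e : Fin (i + 1) → ℕ)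
    (he : Function.Injective e) (he0 : e 0 = 0) (hlt : ∀ a, e a < n)
    (hM : ∀ f : k⟦X⟧, f ∈ LinearMap.range j ↔ ∀ m < n, m ∉ Set.range e → coeff m f = 0)
    {ι : Type*} [Fintype ι] (Φ : (Fin i → k⟦X⟧) →ₗ[k] (ι → k))
    (hsurj : ∀ v, ∃ g : Fin i → k⟦X⟧, (∀ a z, g a * z ∈ LinearMap.range j) ∧ Φ g = v)
    (hzero : ∀ y : Fin (i + 1) → k⟦X⟧, (∀ a, y a ∈ LinearMap.range j) →
      Φ (fun a => X ^ n * (y a.succ - X ^ e a.succ * y 0)) = 0)
    (hrange : ∀ g : Fin i → k⟦X⟧, (∀ a z, g a * z ∈ LinearMap.range j) → Φ g = 0 →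
      ∃ y : Fin (i + 1) → k⟦X⟧, (∀ a, y a ∈ LinearMap.range j) ∧ ∀ a, g a = X ^ n * (y a.succ - X ^ e a.succ * y 0)) :
    Module.length A (Abelian.Ext (ModuleCat.of A M) (ModuleCat.of A M) 1) = (Fintype.card ι : ℕ∞) := by
  classical
  -- the monomial generators
  have hmem : ∀ a, ∃ x : M, j x = X ^ e a := fun a => LinearMap.mem_range.1 ((hM _).2 fun m _ hm => by
    rw [coeff_X_pow, if_neg]
    exact fun h => hm ⟨a, h.symm⟩)
  choose x hx using hmem
  let p : (Fin (i + 1) → A) →ₗ[A] M := Fintype.linearCombination A x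
  have hjp : ∀ c, j (p c) = ∑ a, (c a : k⟦X⟧) * X ^ e a := fun c => by
    rw [Fintype.linearCombination_apply, map_sum]
    exact Finset.sum_congr rfl fun a _ => by rw [map_smul, hx]; rfl
  have hp : Function.Surjective p := by
    intro z
    have hz := (hM (j z)).1 ⟨z, rfl⟩
    let r : k⟦X⟧ := j z - ∑ a, C (coeff (e a) (j z)) * X ^ e a
    have hr : X ^ n ∣ r := by
      rw [PowerSeries.X_pow_dvd_iff]
      intro m hm
      simp only [r, map_sub, map_sum, coeff_C_mul, coeff_X_pow, mul_ite, mul_one, mul_zero]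
      by_cases hmr : m ∈ Set.range e
      · obtain ⟨a, rfl⟩ := hmr
        rw [Finset.sum_eq_single a (fun b _ hb => if_neg fun h => hb (he h.symm)) (fun h => absurd (Finset.mem_univ a) h),
          if_pos rfl, sub_self]
      · rw [hz m hm hmr, Finset.sum_eq_zero fun a _ => if_neg fun h => hmr ⟨a, h.symm⟩, sub_zero]
    let c : Fin (i + 1) → A := fun a => if a = 0 then ⟨C (coeff (e 0) (j z)) + r, add_mem (A.algebraMap_mem _) (hA.mem_of_dvd hr)⟩
      else ⟨C (coeff (e a) (j z)), A.algebraMap_mem _⟩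
    refine ⟨c, hj ?_⟩
    rw [hjp]
    have h1 : ∀ a, (c a : k⟦X⟧) * X ^ e a = C (coeff (e a) (j z)) * X ^ e a + if a = 0 then r else 0 := by
      intro a
      by_cases ha : a = 0
      · subst ha
        simp [c, he0]
      · simp only [c, if_neg ha, add_zero]
    rw [Finset.sum_congr rfl fun a _ => h1 a, Finset.sum_add_distrib, Finset.sum_ite_eq', if_pos (Finset.mem_univ _)]
    ring
  -- the relations
  have hXn : ∀ f : k⟦X⟧, X ^ n * f ∈ A := fun f => hA.mem_of_dvd (dvd_mul_right _ _)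
  let ρ : (Fin i → k⟦X⟧) →ₗ[A] (Fin (i + 1) → A) :=
    { toFun := fun z => Fin.cons ⟨-(∑ a : Fin i, X ^ e a.succ * (X ^ n * z a)), neg_mem (hA.mem_of_dvd
          (Finset.dvd_sum fun a _ => Dvd.intro (X ^ e a.succ * z a) (by ring)))⟩ (fun a => ⟨X ^ n * z a, hXn _⟩)
      map_add' := fun z w => funext (Fin.cases (Subtype.ext (by
        show -(∑ a : Fin i, X ^ e a.succ * (X ^ n * (z a + w a))) =
          -(∑ a : Fin i, X ^ e a.succ * (X ^ n * z a)) + -(∑ a : Fin i, X ^ e a.succ * (X ^ n * w a))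
        rw [← neg_add, ← Finset.sum_add_distrib]
        exact congrArg Neg.neg (Finset.sum_congr rfl fun a _ => by ring))) (fun a => Subtype.ext (by simp [mul_add])))
      map_smul' := fun c z => funext (Fin.cases (Subtype.ext (by
        simp only [Pi.smul_apply, Fin.cons_zero, RingHom.id_apply]
        show -(∑ a : Fin i, X ^ e a.succ * (X ^ n * ((c : k⟦X⟧) * z a))) = (c : k⟦X⟧) * -(∑ a : Fin i, X ^ e a.succ * (X ^ n * z a))
        rw [mul_neg, Finset.mul_sum]
        exact congrArg Neg.neg (Finset.sum_congr rfl fun a _ => by ring))) (fun a => Subtype.ext (by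
        simp only [Pi.smul_apply, Fin.cons_succ, RingHom.id_apply]
        show X ^ n * ((c : k⟦X⟧) * z a) = (c : k⟦X⟧) * (X ^ n * z a)
        ring))) }
  have hρ : Function.Injective ρ := (injective_iff_map_eq_zero ρ).2 fun z hz => funext fun a => by
    have h1 : (X : k⟦X⟧) ^ n * z a = 0 := congrArg (fun c : Fin (i + 1) → A => (c a.succ : k⟦X⟧)) hz
    exact (mul_eq_zero.1 h1).resolve_left (pow_ne_zero _ PowerSeries.X_ne_zero)
  have hex : Function.Exact ρ p := by
    intro c
    constructor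
    · intro hc
      have h0 : ∑ a, (c a : k⟦X⟧) * X ^ e a = 0 := by rw [← hjp, hc, map_zero]
      have hcc : ∀ a, constantCoeff (c a : k⟦X⟧) = 0 := by
        intro a
        have h1 := congrArg (coeff (e a)) h0
        rw [map_sum, map_zero, Finset.sum_eq_single a ?_ (fun h => absurd (Finset.mem_univ a) h)] at h1
        · rw [coeff_mul_X_pow', if_pos le_rfl, Nat.sub_self, coeff_zero_eq_constantCoeff_apply] at h1
          exact h1
        · intro b _ hb
          rw [coeff_mul_X_pow']
          split_ifs with hle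
          · by_contra h2
            have h3 := (hA _).1 (c b).2 _ h2
            have h4 : e a ≠ e b := fun h => hb (he h.symm)
            have := hlt a
            omega
          · rfl
      have hd : ∀ a, ∃ z, (c a : k⟦X⟧) = X ^ n * z := fun a => by
        obtain ⟨z, hz⟩ := hA.dvd_sub (c a).2
        exact ⟨z, by rw [← hz, hcc a, map_zero, sub_zero]⟩
      choose z hz using hd
      refine ⟨fun a => z a.succ, funext (Fin.cases (Subtype.ext ?_) fun a => Subtype.ext (hz a.succ).symm)⟩
      show -(∑ a : Fin i, X ^ e a.succ * (X ^ n * z a.succ)) = (c 0 : k⟦X⟧)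
      rw [Fin.sum_univ_succ, he0, pow_zero, mul_one] at h0
      rw [neg_eq_iff_add_eq_zero, add_comm]
      refine Eq.trans (congrArg _ (Finset.sum_congr rfl fun a _ => ?_)) h0
      rw [← hz a.succ, mul_comm]
    · rintro ⟨z, rfl⟩
      refine hj ?_
      rw [hjp, map_zero, Fin.sum_univ_succ, he0, pow_zero, mul_one]
      show -(∑ a : Fin i, X ^ e a.succ * (X ^ n * z a)) + ∑ a : Fin i, X ^ n * z a * X ^ e a.succ = 0
      rw [neg_add_eq_zero]
      exact Finset.sum_congr rfl fun a _ => by ring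
  obtain ⟨δ, hδ, hδk⟩ := exists_cok_pre_linear ρ p hρ hex hp M (subsingleton_ext_one_free _ _)
  -- evaluation at the basis
  have hlin : ∀ (φ : (Fin i → k⟦X⟧) →ₗ[A] M) (a : Fin i) (z : k⟦X⟧), j (φ (Pi.single a z)) = z * j (φ (Pi.single a 1)) := by
    intro φ a z
    have h1 : (⟨X ^ n, by simpa using hXn 1⟩ : A) • (Pi.single a z : Fin i → k⟦X⟧) =
        (⟨X ^ n * z, hXn z⟩ : A) • (Pi.single a 1 : Fin i → k⟦X⟧) := by
      rw [← Pi.single_smul, ← Pi.single_smul]
      congr 1
      show X ^ n * z = X ^ n * z * 1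
      rw [mul_one]
    have h2 : (X : k⟦X⟧) ^ n * j (φ (Pi.single a z)) = X ^ n * z * j (φ (Pi.single a 1)) := by
      have h3 := congrArg (fun v => j (φ v)) h1
      simp only [map_smul] at h3
      exact h3
    exact mul_left_cancel₀ (pow_ne_zero _ PowerSeries.X_ne_zero) (h2.trans (mul_assoc _ _ _))
  let W := (Fin i → k⟦X⟧) →ₗ[A] M
  let Φ' : W →ₗ[k] (ι → k) := Φ.comp (
    { toFun := fun φ a => j (φ (Pi.single a 1))
      map_add' := fun φ ψ => funext fun a => map_add j _ _
      map_smul' := fun c φ => funext fun a => by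
        show j (c • φ (Pi.single a 1)) = c • j (φ (Pi.single a 1))
        exact LinearMap.map_smul_of_tower j c _ } : W →ₗ[k] (Fin i → k⟦X⟧))
  have hΦ' : Function.Surjective Φ' := by
    intro v
    obtain ⟨g, hg, rfl⟩ := hsurj v
    choose φa hφa using fun (a : Fin i) (z : k⟦X⟧) => hg a z
    let ψ : W :=
      { toFun := fun z => ∑ a, φa a (z a)
        map_add' := fun z w => hj (by
          simp only [map_sum, map_add, hφa, Pi.add_apply, mul_add, Finset.sum_add_distrib])
        map_smul' := fun c z => hj (by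
          simp only [map_sum, map_smul, hφa, RingHom.id_apply, Pi.smul_apply, Finset.smul_sum]
          exact Finset.sum_congr rfl fun a _ => by rw [mul_smul_comm]) }
    refine ⟨ψ, congrArg Φ (funext fun a => ?_)⟩
    show j (∑ b, φa b ((Pi.single a 1 : Fin i → k⟦X⟧) b)) = g a
    simp only [map_sum, hφa, Pi.single_apply, mul_ite, mul_one, mul_zero, Finset.sum_ite_eq', Finset.mem_univ, if_true]
  have hkerΦ : LinearMap.ker Φ' = (LinearMap.ker δ).restrictScalars k := by
    have hval : ∀ (ψ : (Fin (i + 1) → A) →ₗ[A] M) (a : Fin i), j (ψ (ρ (Pi.single a 1))) =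
        X ^ n * (j (ψ (Pi.single a.succ 1)) - X ^ e a.succ * j (ψ (Pi.single 0 1))) := by
      intro ψ a
      have h1 : ρ (Pi.single a 1) = (⟨X ^ n * 1, hXn 1⟩ : A) • Pi.single a.succ 1 +
          (-⟨X ^ n * X ^ e a.succ, hXn _⟩ : A) • Pi.single 0 1 := by
        funext b
        refine Fin.cases (Subtype.ext ?_) (fun b => Subtype.ext ?_) b
        · show -(∑ c : Fin i, X ^ e c.succ * (X ^ n * (Pi.single a 1 : Fin i → k⟦X⟧) c)) =
            X ^ n * 1 * ((Pi.single a.succ 1 : Fin (i + 1) → A) 0 : k⟦X⟧) +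
              -(X ^ n * X ^ e a.succ) * ((Pi.single 0 1 : Fin (i + 1) → A) 0 : k⟦X⟧)
          rw [Finset.sum_eq_single a (fun c _ hc => by rw [Pi.single_eq_of_ne hc, mul_zero, mul_zero])
            (fun h => absurd (Finset.mem_univ a) h), Pi.single_eq_same, Pi.single_eq_same,
            Pi.single_eq_of_ne (Fin.succ_ne_zero a).symm]
          push_cast
          ring
        · show X ^ n * (Pi.single a 1 : Fin i → k⟦X⟧) b =
            X ^ n * 1 * ((Pi.single a.succ 1 : Fin (i + 1) → A) b.succ : k⟦X⟧) +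
              -(X ^ n * X ^ e a.succ) * ((Pi.single 0 1 : Fin (i + 1) → A) b.succ : k⟦X⟧)
          rw [Pi.single_eq_of_ne (Fin.succ_ne_zero b)]
          by_cases hb : b = a
          · subst hb
            rw [Pi.single_eq_same, Pi.single_eq_same]
            push_cast
            ring
          · rw [Pi.single_eq_of_ne hb, Pi.single_eq_of_ne (fun h => hb (Fin.succ_injective _ h))]
            push_cast
            ring
      rw [h1, map_add, map_smul, map_smul, map_add, map_smul, map_smul]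
      show (X : k⟦X⟧) ^ n * 1 * j (ψ (Pi.single a.succ 1)) + -((X : k⟦X⟧) ^ n * X ^ e a.succ) * j (ψ (Pi.single 0 1)) = _
      ring
    ext φ
    rw [LinearMap.mem_ker, Submodule.restrictScalars_mem, hδk]
    constructor
    · intro hφ
      obtain ⟨y, hy, hgy⟩ := hrange (fun a => j (φ (Pi.single a 1))) (fun a z => ⟨φ (Pi.single a z), by rw [hlin, mul_comm]⟩) hφ
      choose w hw using hy
      refine ⟨Fintype.linearCombination A w, LinearMap.pi_ext fun a z => hj ?_⟩
      have hL : ∀ b, Fintype.linearCombination A w (Pi.single b 1) = w b := fun b => by simp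
      rw [hlin φ a z, hgy, ← hw a.succ, ← hw 0, ← hL a.succ, ← hL 0, ← hval]
      exact hlin ((Fintype.linearCombination A w).comp ρ) a z
    · rintro ⟨ψ, rfl⟩
      refine Eq.trans (congrArg Φ (funext fun a => hval ψ a)) ?_
      exact hzero (fun b => j (ψ (Pi.single b 1))) fun b => ⟨_, rfl⟩
  rw [← (δ.quotKerEquivOfSurjective hδ).length_eq]
  let e₁ : (W ⧸ LinearMap.ker δ) ≃ₗ[k] (W ⧸ (LinearMap.ker δ).restrictScalars k) :=
    (Submodule.Quotient.restrictScalarsEquiv k (LinearMap.ker δ)).symm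
  let e₂ : (W ⧸ (LinearMap.ker δ).restrictScalars k) ≃ₗ[k] (W ⧸ LinearMap.ker Φ') :=
    Submodule.quotEquivOfEq _ _ hkerΦ.symm
  exact hA.length_eq (W ⧸ LinearMap.ker δ) (e₁.trans (e₂.trans (Φ'.quotKerEquivOfSurjective hΦ')))

end GrothLib.TFCurv11
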