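import Groth.Agent.Lib.TFCurv11.Cubical

/-!
# Lengths for monomial modules over the cubical curve singularities
-/

set_option autoImplicit false
set_option linter.all false
set_option backward.isDefEq.respectTransparency false

universe u

open CategoryTheory PowerSeries

noncomputable section

namespace GrothLib.TFCurv11

variable {k : Type u} [Field k] {n : ℕ} {A : Subalgebra k k⟦X⟧}

theorem IsCub.coeff_smul (hA : IsCub n A) (c : A) (f : k⟦X⟧) {m : ℕ} (hm : m < n) :
    coeff m (c • f) = constantCoeff (c : k⟦X⟧) * coeff m f := by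
  obtain ⟨r, hr⟩ := hA.dvd_sub c.2
  have h : c • f = C (constantCoeff (c : k⟦X⟧)) * f + X ^ n * (r * f) := by
    show (c : k⟦X⟧) * f = _
    linear_combination f * hr
  rw [h, map_add, coeff_C_mul, coeff_X_pow_mul', if_neg (by omega), add_zero]

theorem IsCub.mem_span_monomial (hA : IsCub n A) {S : Set ℕ} (h0 : 0 ∈ S) (hS : ∀ m ∈ S, m < n) (f : k⟦X⟧) :
    f ∈ Submodule.span A ((fun a : ℕ => (X : k⟦X⟧) ^ a) '' S) ↔ ∀ m < n, m ∉ S → coeff m f = 0 := by
  classical
  constructor
  · intro hf
    induction hf using Submodule.span_induction with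
    | mem x hx =>
      obtain ⟨a, ha, rfl⟩ := hx
      intro m hm hmS
      exact (coeff_X_pow m a).trans (if_neg fun h => hmS (by rw [h]; exact ha))
    | zero => intros; exact map_zero _
    | add x y _ _ hx hy => intro m hm hmS; rw [map_add, hx m hm hmS, hy m hm hmS, add_zero]
    | smul c x _ hx => intro m hm hmS; rw [hA.coeff_smul c x hm, hx m hm hmS, mul_zero]
  · intro hf
    have hr : X ^ n ∣ f - ∑ m ∈ Finset.range n, C (coeff m f) * X ^ m := by
      rw [X_pow_dvd_iff]
      intro m hm
      simp [map_sum, coeff_C_mul, coeff_X_pow, hm]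
    rw [← sub_add_cancel f (∑ m ∈ Finset.range n, C (coeff m f) * X ^ m)]
    refine add_mem ?_ (sum_mem fun m hm => ?_)
    · have h1 : (1 : k⟦X⟧) ∈ Submodule.span A ((fun a : ℕ => (X : k⟦X⟧) ^ a) '' S) :=
        Submodule.subset_span ⟨0, h0, pow_zero _⟩
      have h2 := Submodule.smul_mem _ (⟨_, hA.mem_of_dvd hr⟩ : A) h1
      have h3 : (⟨_, hA.mem_of_dvd hr⟩ : A) • (1 : k⟦X⟧) = f - ∑ m ∈ Finset.range n, C (coeff m f) * X ^ m := mul_one _
      rwa [h3] at h2
    · by_cases hmS : m ∈ S
      · exact Submodule.smul_mem _ (⟨C (coeff m f), A.algebraMap_mem _⟩ : A) (Submodule.subset_span ⟨m, hmS, rfl⟩)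
      · rw [hf m (Finset.mem_range.1 hm) hmS, map_zero, zero_mul]
        exact zero_mem _

/-- A power series with prescribed coefficients at prescribed positions. -/
theorem exists_coeff_eq {ι : Type*} (pos : ι → ℕ) (hpos : Function.Injective pos) (v : ι → k) :
    ∃ f : k⟦X⟧, (∀ p, coeff (pos p) f = v p) ∧ ∀ q, q ∉ Set.range pos → coeff q f = 0 :=
  ⟨PowerSeries.mk (Function.extend pos v 0), fun p => by rw [coeff_mk, hpos.extend_apply],
    fun q hq => by rw [coeff_mk, Function.extend_apply' _ _ _ hq]; rfl⟩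

/-- `χ₁` of the normalisation. -/
theorem chiOne_normalization (hn : 2 ≤ n) (hA : IsCub n A) :
    Module.length A (Abelian.Ext (ModuleCat.of A k⟦X⟧) (ModuleCat.of A k⟦X⟧) 1) = (((n - 1) ^ 2 : ℕ) : ℕ∞) +
      Module.length A ((k⟦X⟧ →ₗ[A] k⟦X⟧) ⧸
        LinearMap.range (Algebra.lsmul A A k⟦X⟧ : A →ₐ[A] Module.End A k⟦X⟧).toLinearMap) := by
  obtain ⟨i, rfl⟩ : ∃ i, n = i + 1 := ⟨n - 1, by omega⟩
  rw [hA.length_ext_one (by omega) (LinearMap.id : k⟦X⟧ →ₗ[A] k⟦X⟧) Function.injective_id (fun a : Fin (i + 1) => (a : ℕ))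
    Fin.val_injective rfl (fun a => a.2)
    (fun f => iff_of_true ⟨f, rfl⟩ fun m hm h => absurd ⟨⟨m, hm⟩, rfl⟩ h)
    (LinearMap.pi fun p : Fin i × Fin (i + 1) => (coeff (p.2 : ℕ)).comp (LinearMap.proj p.1))
    (fun v => by
      choose g hg _ using fun a : Fin i => exists_coeff_eq (fun q : Fin (i + 1) => (q : ℕ)) Fin.val_injective (fun q => v (a, q))
      exact ⟨g, fun a z => ⟨_, rfl⟩, funext fun p => hg p.1 p.2⟩)
    (fun y _ => funext fun p => by
      simp only [Pi.zero_apply, LinearMap.pi_apply, LinearMap.comp_apply, LinearMap.proj_apply]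
      rw [coeff_X_pow_mul', if_neg (by have := p.2.2; omega)])
    (fun g _ hg => by
      have hd : ∀ a, X ^ (i + 1) ∣ g a := fun a => X_pow_dvd_iff.2 fun m hm => congrFun hg (a, ⟨m, hm⟩)
      choose r hr using hd
      refine ⟨Fin.cons 0 r, fun a => ⟨_, rfl⟩, fun a => ?_⟩
      simp [hr a])]
  let E := k⟦X⟧ →ₗ[A] k⟦X⟧
  have hlin : ∀ (φ : E) (z : k⟦X⟧), φ z = z * φ 1 := by
    intro φ z
    have h1 : (⟨X ^ (i + 1), hA.mem_of_dvd dvd_rfl⟩ : A) • z =
        (⟨X ^ (i + 1) * z, hA.mem_of_dvd (dvd_mul_right _ _)⟩ : A) • (1 : k⟦X⟧) :=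
      (mul_one _).symm
    have h2 := congrArg φ h1
    rw [map_smul, map_smul] at h2
    exact mul_left_cancel₀ (pow_ne_zero _ X_ne_zero) (h2.trans (mul_assoc _ _ _))
  let Ψ : E →ₗ[k] (Fin i → k) := LinearMap.pi fun q => (coeff ((q : ℕ) + 1)).comp (
    { toFun := fun φ => φ 1
      map_add' := fun _ _ => rfl
      map_smul' := fun _ _ => rfl } : E →ₗ[k] k⟦X⟧)
  have hΨ : Function.Surjective Ψ := fun v => by
    obtain ⟨g, hg, -⟩ := exists_coeff_eq (fun q : Fin i => (q : ℕ) + 1) (fun a b h => Fin.ext (by simpa using h)) v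
    refine ⟨LinearMap.toSpanSingleton k⟦X⟧ k⟦X⟧ g |>.restrictScalars A, funext fun q => ?_⟩
    show coeff ((q : ℕ) + 1) ((1 : k⟦X⟧) • g) = v q
    rw [one_smul, hg q]
  let R := LinearMap.range (Algebra.lsmul A A k⟦X⟧ : A →ₐ[A] Module.End A k⟦X⟧).toLinearMap
  have hker : LinearMap.ker Ψ = R.restrictScalars k := by
    ext φ
    rw [LinearMap.mem_ker, Submodule.restrictScalars_mem]
    constructor
    · intro hφ
      have h1 : φ 1 ∈ A := (hA _).2 fun m hm => by
        by_contra h
        exact hm (by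
          have h2 : coeff ((⟨m - 1, by omega⟩ : Fin i) + 1 : ℕ) (φ 1) = 0 := congrFun hφ ⟨m - 1, by omega⟩
          simpa [show m - 1 + 1 = m by omega] using h2)
      exact ⟨⟨φ 1, h1⟩, LinearMap.ext fun z => ((hlin φ z).trans (mul_comm _ _)).symm⟩
    · rintro ⟨c, rfl⟩
      funext q
      show coeff ((q : ℕ) + 1) (c • (1 : k⟦X⟧)) = 0
      rw [hA.coeff_smul c 1 (by omega), coeff_one, if_neg (by omega), mul_zero]
  let e₁ : (E ⧸ R) ≃ₗ[k] (E ⧸ R.restrictScalars k) := (Submodule.Quotient.restrictScalarsEquiv k R).symm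
  let e₂ : (E ⧸ R.restrictScalars k) ≃ₗ[k] (E ⧸ LinearMap.ker Ψ) := Submodule.quotEquivOfEq _ _ hker.symm
  rw [hA.length_eq (E ⧸ R) (e₁.trans (e₂.trans (Ψ.quotKerEquivOfSurjective hΨ)))]
  simp only [Fintype.card_prod, Fintype.card_fin, Nat.add_sub_cancel]
  push_cast
  ring

/-- The first `Ext` of a partial normalisation with itself. -/
theorem length_ext_one_partialNormalization (hA : IsCub n A) (i : ℕ) (hi : i + 2 ≤ n)
    (M : Submodule A k⟦X⟧) (hM : M = Submodule.span A ((fun a : ℕ => (X : k⟦X⟧) ^ a) '' ({0} ∪ Set.Icc (n - i) (n - 1)))) :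
    Module.length A (Abelian.Ext (ModuleCat.of A M) (ModuleCat.of A M) 1) = ((i * (n - 1) : ℕ) : ℕ∞) := by
  classical
  have hmem : ∀ f : k⟦X⟧, f ∈ LinearMap.range M.subtype ↔ ∀ m, 0 < m → m < n - i → coeff m f = 0 := by
    intro f
    rw [Submodule.range_subtype, hM, hA.mem_span_monomial (Or.inl rfl)
      (fun m hm => by rcases hm with hm | hm <;> simp at hm <;> omega)]
    refine ⟨fun h m h1 h2 => h m (by omega) (by simp; omega), fun h m h1 h2 => ?_⟩
    simp at h2
    exact h m (by omega) (by omega)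
  let e : Fin (i + 1) → ℕ := fun a => if (a : ℕ) = 0 then 0 else n - i - 1 + a
  let pos : Fin (n - 1) → ℕ := fun p => if (p : ℕ) < i then n - i + p else n - i + p + 1
  have hlo : ∀ g : Fin i → k⟦X⟧, (∀ a z, g a * z ∈ LinearMap.range M.subtype) → ∀ a, ∀ m < n - i, coeff m (g a) = 0 := by
    intro g hg a m hm
    rcases Nat.eq_zero_or_pos m with rfl | hm0
    · have := (hmem _).1 (hg a X) 1 one_pos (by omega)
      rwa [← zero_add 1, coeff_succ_mul_X] at this
    · have := (hmem _).1 (hg a 1) m hm0 hm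
      rwa [mul_one] at this
  rw [hA.length_ext_one (by omega) M.subtype M.injective_subtype e
    (fun a b h => Fin.ext (by
      have := a.2; have := b.2
      simp only [e] at h
      split_ifs at h <;> omega))
    (by simp [e]) (fun a => by have := a.2; simp only [e]; split_ifs <;> omega)
    (fun f => (hmem f).trans
      ⟨fun h m hm hr => h m (Nat.pos_of_ne_zero fun h0 => hr ⟨0, by simp [e, h0]⟩) (by
          by_contra hlt
          exact hr ⟨⟨m + i + 1 - n, by omega⟩, by simp only [e]; split_ifs <;> omega⟩),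
        fun h m h1 h2 => h m (by omega) (by
          rintro ⟨a, ha⟩
          simp only [e] at ha
          split_ifs at ha <;> omega)⟩)
    (LinearMap.pi fun p : Fin i × Fin (n - 1) => (coeff (pos p.2)).comp (LinearMap.proj p.1))
    (fun v => by
      choose g hg hg0 using fun a : Fin i => exists_coeff_eq pos
        (fun p q h => Fin.ext (by simp only [pos] at h; split_ifs at h <;> omega)) (fun q => v (a, q))
      refine ⟨g, fun a z => (hmem _).2 fun m _ hm => ?_, funext fun p => hg p.1 p.2⟩
      obtain ⟨r, hr⟩ : X ^ (n - i) ∣ g a := X_pow_dvd_iff.2 fun m hm => hg0 a m (by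
        rintro ⟨q, hq⟩
        simp only [pos] at hq
        split_ifs at hq <;> omega)
      rw [hr, mul_assoc, coeff_X_pow_mul', if_neg (by omega)])
    (fun y hy => funext fun p => by
      simp only [Pi.zero_apply, LinearMap.pi_apply, LinearMap.comp_apply, LinearMap.proj_apply]
      have hp := p.2.2
      rw [coeff_X_pow_mul']
      simp only [pos]
      split_ifs <;> try rfl
      all_goals first
        | omega
        | (rw [map_sub, coeff_X_pow_mul', if_neg (by simp [e]; omega), sub_zero]
           exact (hmem _).1 (hy _) _ (by omega) (by omega)))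
    (fun g hg hΦ => by
      have h0 : ∀ a, ∀ m < 2 * n - i, m ≠ n → coeff m (g a) = 0 := by
        intro a m hm hne
        rcases lt_or_ge m (n - i) with hlt | hge
        · exact hlo g hg a m hlt
        rcases lt_or_gt_of_ne hne with h1 | h1
        · have h2 : coeff (pos ⟨m - (n - i), by omega⟩) (g a) = 0 := congrFun hΦ (a, ⟨m - (n - i), by omega⟩)
          simp only [pos] at h2
          rwa [if_pos (by omega), show n - i + (m - (n - i)) = m by omega] at h2
        · have h2 : coeff (pos ⟨m - (n - i) - 1, by omega⟩) (g a) = 0 := congrFun hΦ (a, ⟨m - (n - i) - 1, by omega⟩)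
          simp only [pos] at h2
          rwa [if_neg (by omega), show n - i + (m - (n - i) - 1) + 1 = m by omega] at h2
      have hd : ∀ a, X ^ n ∣ g a := fun a => X_pow_dvd_iff.2 fun m hm => h0 a m (by omega) (by omega)
      choose r hr using hd
      refine ⟨Fin.cons 0 r, fun a => ?_, fun a => by simp [hr a]⟩
      induction a using Fin.cases with
      | zero => exact zero_mem _
      | succ a =>
        refine (hmem _).2 fun m hm0 hm => ?_
        have h := h0 a (m + n) (by omega) (by omega)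
        rw [hr a, coeff_X_pow_mul] at h
        rw [Fin.cons_succ, h])]
  simp [Fintype.card_prod]

/-- The first `Ext` of a monomial module with itself. -/
theorem length_ext_one_monomialModule (hA : IsCub n A) (i : ℕ) (hi : i + 2 ≤ n)
    (M : Submodule A k⟦X⟧) (hM : M = Submodule.span A ((fun a : ℕ => (X : k⟦X⟧) ^ a) '' Set.Iic i)) :
    Module.length A (Abelian.Ext (ModuleCat.of A M) (ModuleCat.of A M) 1) = ((i * (n - 2 - i) : ℕ) : ℕ∞) := by
  classical
  have hmem : ∀ f : k⟦X⟧, f ∈ LinearMap.range M.subtype ↔ ∀ m, i < m → m < n → coeff m f = 0 := by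
    intro f
    rw [Submodule.range_subtype, hM, hA.mem_span_monomial (Set.mem_Iic.2 (Nat.zero_le i))
      (fun m hm => by simp at hm; omega)]
    refine ⟨fun h m h1 h2 => h m h2 (by simp; omega), fun h m h1 h2 => ?_⟩
    simp at h2
    exact h m h2 h1
  have hlo : ∀ g : Fin i → k⟦X⟧, (∀ a z, g a * z ∈ LinearMap.range M.subtype) → ∀ a, X ^ n ∣ g a := fun g hg a =>
    X_pow_dvd_iff.2 fun m hm => by
      have := (hmem _).1 (hg a (X ^ (n - 1 - m))) (n - 1) (by omega) (by omega)
      rwa [coeff_mul_X_pow', if_pos (by omega), show n - 1 - (n - 1 - m) = m by omega] at this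
  let Φ : (Fin i → k⟦X⟧) →ₗ[k] (Fin i × Fin (n - 2 - i) → k) := LinearMap.pi fun p =>
    (coeff (n + (i + 2 + p.2))).comp (LinearMap.proj p.1) -
      if h : (p.2 : ℕ) < p.1 then (coeff (n + (i + 1))).comp (LinearMap.proj (⟨p.1 - p.2 - 1, by omega⟩ : Fin i)) else 0
  have hΦ : ∀ (g : Fin i → k⟦X⟧) (a : Fin i) (q : Fin (n - 2 - i)), Φ g (a, q) = coeff (n + (i + 2 + q)) (g a) -
      if h : (q : ℕ) < a then coeff (n + (i + 1)) (g ⟨a - q - 1, by omega⟩) else 0 := by
    intro g a q
    simp only [Φ, LinearMap.pi_apply]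
    split_ifs with h <;> simp [h]
  rw [hA.length_ext_one (by omega) M.subtype M.injective_subtype (fun a : Fin (i + 1) => (a : ℕ))
    Fin.val_injective rfl (fun a => by have := a.2; show (a : ℕ) < n; omega)
    (fun f => (hmem f).trans
      ⟨fun h m hm hr => h m (by by_contra hle; exact hr ⟨⟨m, by omega⟩, rfl⟩) hm,
        fun h m h1 h2 => h m h2 (by rintro ⟨a, ha⟩; simp only at ha; have := a.2; omega)⟩)
    Φ
    (fun v => by
      choose f hf hf0 using fun a : Fin i => exists_coeff_eq (fun q : Fin (n - 2 - i) => i + 2 + (q : ℕ))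
        (fun p q h => Fin.ext (by simpa using h)) (fun q => v (a, q))
      refine ⟨fun a => X ^ n * f a, fun a z => (hmem _).2 fun m _ hm => ?_, funext fun p => ?_⟩
      · rw [mul_assoc, coeff_X_pow_mul', if_neg (by omega)]
      · rw [hΦ _ p.1 p.2]
        simp only [add_comm n, coeff_X_pow_mul, hf]
        split_ifs
        · rw [hf0 _ (i + 1) (by rintro ⟨q, hq⟩; simp only at hq; omega), sub_zero]
        · rw [sub_zero])
    (fun y hy => funext fun p => by
      obtain ⟨a, q⟩ := p
      have := a.2; have := q.2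
      rw [hΦ _ a q, Pi.zero_apply]
      simp only [add_comm n, coeff_X_pow_mul, map_sub, Fin.val_succ]
      rw [(hmem _).1 (hy a.succ) (i + 2 + q) (by omega) (by omega), coeff_X_pow_mul', if_pos (by omega)]
      split_ifs with h
      · rw [(hmem _).1 (hy _) (i + 1) (by omega) (by omega), coeff_X_pow_mul',
          if_pos (show (a : ℕ) - q - 1 + 1 ≤ i + 1 by omega),
          show i + 1 - ((a : ℕ) - q - 1 + 1) = i + 2 + q - (a + 1) by omega, sub_self]
      · rw [(hmem _).1 (hy 0) (i + 2 + q - (a + 1)) (by omega) (by omega), sub_zero, sub_zero])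
    (fun g hg hg0 => by
      choose f hf using hlo g hg
      let y₀ : k⟦X⟧ := PowerSeries.mk fun c =>
        if h : 1 ≤ c ∧ c ≤ i then -coeff (i + 1) (f ⟨i - c, by omega⟩) else 0
      refine ⟨Fin.cons y₀ fun a => f a + X ^ ((a : ℕ) + 1) * y₀, fun a => ?_, fun a => by
        simp [hf a]⟩
      refine (hmem _).2 fun p h1 h2 => ?_
      induction a using Fin.cases with
      | zero => rw [Fin.cons_zero, coeff_mk, dif_neg (by omega)]
      | succ a =>
        have := a.2
        rw [Fin.cons_succ, map_add, coeff_X_pow_mul', if_pos (by omega), coeff_mk]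
        rcases Nat.lt_or_ge p (i + 2) with hp | hp
        · obtain rfl : p = i + 1 := by omega
          rw [dif_pos (by omega)]
          have he : ∀ h', (⟨i - (i - (a : ℕ)), h'⟩ : Fin i) = a := fun _ => Fin.ext (show i - (i - (a : ℕ)) = a by omega)
          simp [he]
        · have h3 := congrFun hg0 (a, ⟨p - (i + 2), by omega⟩)
          rw [hΦ _ a _, Pi.zero_apply] at h3
          simp only [hf, add_comm n, coeff_X_pow_mul, show i + 2 + (p - (i + 2)) = p by omega] at h3
          split_ifs at h3 with h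
          · rw [dif_pos (by omega)]
            simp only [show i - (p - ((a : ℕ) + 1)) = (a : ℕ) - (p - (i + 2)) - 1 by omega]
            linear_combination h3
          · rw [dif_neg (by omega), add_zero]
            simpa using h3)]
  simp [Fintype.card_prod]

end GrothLib.TFCurv11
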