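import Groth.Agent.Lib.TFCurv11.TwoGen

/-!
# The normalisation over `E₆`
-/

set_option autoImplicit false
set_option linter.all false
set_option backward.isDefEq.respectTransparency false

universe u

open CategoryTheory PowerSeries

noncomputable section

namespace GrothLib.TFCurv11

variable {k : Type u} [Field k] {A : Subalgebra k k⟦X⟧}

/-- `Ext¹(C, Y)` from a presentation by its kernel. -/
theorem exists_cok_ker {O : Type u} [CommRing O] {B C : Type u} [AddCommGroup B] [Module O B] [AddCommGroup C] [Module O C]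
    (p : B →ₗ[O] C) (hp : Function.Surjective p) (Y : Type u) [AddCommGroup Y] [Module O Y]
    (hB : Subsingleton (Abelian.Ext (ModuleCat.of O B) (ModuleCat.of O Y) 1)) :
    ∃ δ : (LinearMap.ker p →ₗ[O] Y) →ₗ[O] Abelian.Ext (ModuleCat.of O C) (ModuleCat.of O Y) 1,
      Function.Surjective δ ∧ LinearMap.ker δ = LinearMap.range (LinearMap.lcomp O Y (LinearMap.ker p).subtype) :=
  exists_cok_pre_linear (LinearMap.ker p).subtype p (LinearMap.ker p).injective_subtype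
    (LinearMap.exact_subtype_ker_map p) hp Y hB

/-- `Ext¹` for the normalisation over `E₆`. -/
theorem length_ext_one_E6_normalization (hA : IsMono {m | m ≠ 1 ∧ m ≠ 2 ∧ m ≠ 5} A) {M : Type u} [AddCommGroup M]
    [Module A M] [Module k M] [IsScalarTower k A M] (j : M ≃ₗ[A] k⟦X⟧) :
    Module.length A (Abelian.Ext (ModuleCat.of A M) (ModuleCat.of A M) 1) = 6 := by
  classical
  have hbig : ∀ {f : k⟦X⟧}, X ^ 6 ∣ f → f ∈ A := fun h => (hA.mem _).2 fun m hm => by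
    by_contra hmem
    exact hm (X_pow_dvd_iff.1 h m (by simp only [Set.mem_setOf_eq] at hmem; omega))
  have hcov : ∀ f : k⟦X⟧, ∃ c : Fin 3 → A, f = ∑ a, (c a : k⟦X⟧) * X ^ (a : ℕ) := by
    intro f
    let a₀ : A := ⟨PowerSeries.mk fun q => if q ≠ 1 ∧ q ≠ 2 ∧ q ≠ 5 then coeff q f else 0, (hA.mem _).2 fun m hm => by
      rw [coeff_mk] at hm; split_ifs at hm with h
      · exact h
      · exact absurd rfl hm⟩
    let a₁ : A := ⟨C (coeff 1 f) + C (coeff 5 f) * X ^ 4, add_mem (A.algebraMap_mem _)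
      (mul_mem (A.algebraMap_mem _) (hA.monomial_mem (show (4 : ℕ) ≠ 1 ∧ 4 ≠ 2 ∧ 4 ≠ 5 by omega)))⟩
    refine ⟨![a₀, a₁, ⟨C (coeff 2 f), A.algebraMap_mem _⟩], ?_⟩
    ext m
    simp only [Fin.sum_univ_three, Matrix.cons_val, map_add, a₀, a₁, Fin.val_zero, Fin.val_one, pow_zero, mul_one]
    simp only [add_mul, mul_assoc, ← pow_add, map_add, coeff_mk, coeff_C_mul, coeff_X_pow]
    by_cases h : m = 1 ∨ m = 2 ∨ m = 5
    · rcases h with rfl | rfl | rfl <;> simp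
    · simp only [not_or] at h
      simp [h.1, h.2.1, h.2.2]
  let x : Fin 3 → M := fun a => j.symm (X ^ (a : ℕ))
  obtain ⟨p, hpdef⟩ : ∃ p : (Fin 3 → A) →ₗ[A] M, p = Fintype.linearCombination A x := ⟨_, rfl⟩
  have hpv : ∀ c, j (p c) = (c 0 : k⟦X⟧) + (c 1 : k⟦X⟧) * X + (c 2 : k⟦X⟧) * X ^ 2 := fun c => by
    simp only [hpdef, x, Fintype.linearCombination_apply, Fin.sum_univ_three, map_add, map_smul, LinearEquiv.apply_symm_apply]
    show (c 0 : k⟦X⟧) * X ^ 0 + (c 1 : k⟦X⟧) * X ^ 1 + (c 2 : k⟦X⟧) * X ^ 2 = _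
    rw [pow_zero, mul_one, pow_one]
  have hp : Function.Surjective p := fun z => by
    obtain ⟨c, hc⟩ := hcov (j z)
    refine ⟨c, j.injective ?_⟩
    rw [hpv, hc, Fin.sum_univ_three]
    simp
  let K := LinearMap.ker p
  obtain ⟨δ, hδ, hδk⟩ := exists_cok_ker (O := A) (B := Fin 3 → A) (C := M) p hp M (subsingleton_ext_one_free _ _)
  have hdiv : ∀ c : K, X ^ 3 ∣ ((c.1 1 : A) : k⟦X⟧) ∧ X ^ 3 ∣ ((c.1 2 : A) : k⟦X⟧) ∧
      ((c.1 0 : A) : k⟦X⟧) = -(((c.1 1 : A) : k⟦X⟧) * X + ((c.1 2 : A) : k⟦X⟧) * X ^ 2) := by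
    intro c
    have h0 : ((c.1 0 : A) : k⟦X⟧) + ((c.1 1 : A) : k⟦X⟧) * X + ((c.1 2 : A) : k⟦X⟧) * X ^ 2 = 0 := by
      rw [← hpv, LinearMap.mem_ker.1 c.2, map_zero]
    have hgap : ∀ (a : A) m, m = 1 ∨ m = 2 ∨ m = 5 → coeff m (a : k⟦X⟧) = 0 := fun a m hm => by
      by_contra h
      have := (hA.mem _).1 a.2 m h
      simp only [Set.mem_setOf_eq] at this
      omega
    have h1 : coeff 0 ((c.1 1 : A) : k⟦X⟧) = 0 := by
      have h := congrArg (coeff 1) h0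
      rw [map_add, map_add, map_zero, coeff_succ_mul_X, coeff_mul_X_pow', if_neg (by omega), add_zero,
        hgap _ 1 (Or.inl rfl), zero_add] at h
      exact h
    have h2 : coeff 0 ((c.1 2 : A) : k⟦X⟧) = 0 := by
      have h := congrArg (coeff 2) h0
      rw [map_add, map_add, map_zero, coeff_succ_mul_X, coeff_mul_X_pow', if_pos le_rfl,
        hgap _ 2 (by omega), hgap _ 1 (Or.inl rfl), zero_add, zero_add] at h
      exact h
    refine ⟨X_pow_dvd_iff.2 fun m hm => ?_, X_pow_dvd_iff.2 fun m hm => ?_, ?_⟩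
    · rcases Nat.eq_zero_or_pos m with rfl | h
      · exact h1
      · exact hgap _ m (by omega)
    · rcases Nat.eq_zero_or_pos m with rfl | h
      · exact h2
      · exact hgap _ m (by omega)
    · linear_combination h0
  choose r₁ hr₁ using fun c => (hdiv c).1
  choose r₂ hr₂ using fun c => (hdiv c).2.1
  have hX : ∀ {r : ℕ}, r ≠ 1 ∧ r ≠ 2 ∧ r ≠ 5 → (X : k⟦X⟧) ^ r ∈ A := fun h => hA.monomial_mem h
  let u : K := ⟨![⟨X ^ 4, hX (by omega)⟩, -⟨X ^ 3, hX (by omega)⟩, 0], LinearMap.mem_ker.2 (j.injective (by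
    rw [hpv, map_zero]
    show X ^ 4 + -(X ^ 3) * X + 0 * X ^ 2 = 0
    ring))⟩
  let v : K := ⟨![0, ⟨X ^ 4, hX (by omega)⟩, -⟨X ^ 3, hX (by omega)⟩], LinearMap.mem_ker.2 (j.injective (by
    rw [hpv, map_zero]
    show 0 + X ^ 4 * X + -(X ^ 3) * X ^ 2 = 0
    ring))⟩
  have hlin : ∀ (φ : K →ₗ[A] M) (c : K), (j (φ c)) = -(r₁ c + X * r₂ c) * (j (φ u)) - r₂ c * (j (φ v)) := by
    intro φ c
    have h1 : (⟨X ^ 6, hbig dvd_rfl⟩ : A) • c = (-⟨X ^ 6 * (r₁ c + X * r₂ c), hbig (dvd_mul_right _ _)⟩ : A) • u +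
        (-⟨X ^ 6 * r₂ c, hbig (dvd_mul_right _ _)⟩ : A) • v := by
      refine Subtype.ext (funext fun a => Subtype.ext ?_)
      fin_cases a
      · show X ^ 6 * ((c.1 0 : A) : k⟦X⟧) = -(X ^ 6 * (r₁ c + X * r₂ c)) * X ^ 4 + -(X ^ 6 * r₂ c) * 0
        rw [(hdiv c).2.2, hr₁ c, hr₂ c]; ring
      · show X ^ 6 * ((c.1 1 : A) : k⟦X⟧) = -(X ^ 6 * (r₁ c + X * r₂ c)) * -(X ^ 3) + -(X ^ 6 * r₂ c) * X ^ 4
        rw [hr₁ c]; ring
      · show X ^ 6 * ((c.1 2 : A) : k⟦X⟧) = -(X ^ 6 * (r₁ c + X * r₂ c)) * 0 + -(X ^ 6 * r₂ c) * -(X ^ 3)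
        rw [hr₂ c]; ring
    have h2 := congrArg (fun w => (j (φ w))) h1
    simp only [map_smul, map_add] at h2
    have h3 : X ^ 6 * (j (φ c)) = -(X ^ 6 * (r₁ c + X * r₂ c)) * (j (φ u)) + -(X ^ 6 * r₂ c) * (j (φ v)) := h2
    refine mul_left_cancel₀ (pow_ne_zero 6 X_ne_zero) (h3.trans ?_)
    ring
  let W := K →ₗ[A] M
  let Φ : W →ₗ[k] (Fin 3 ⊕ Fin 3 → k) :=
    { toFun := fun φ => Sum.elim (fun q => coeff (q : ℕ) (j (φ u))) (fun q => coeff (q : ℕ) (j (φ v)))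
      map_add' := fun a b => by ext (q | q) <;> simp only [Sum.elim_inl, Sum.elim_inr, Pi.add_apply] <;> rw [← map_add (coeff (q : ℕ)), ← map_add j] <;> rfl
      map_smul' := fun c a => by
        ext (q | q) <;> simp only [Sum.elim_inl, Sum.elim_inr, Pi.smul_apply, RingHom.id_apply, LinearMap.smul_apply] <;>
          rw [← map_smul] <;> exact congrArg _ (j.toLinearMap.map_smul_of_tower c _) }
  have hcancel : ∀ {a b : k⟦X⟧}, X ^ 3 * a = X ^ 3 * b → a = b := fun h => mul_left_cancel₀ (pow_ne_zero 3 X_ne_zero) h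
  have hΦ : Function.Surjective Φ := fun w => by
    obtain ⟨g, hg, -⟩ := exists_coeff_eq (fun q : Fin 3 => (q : ℕ)) Fin.val_injective (fun q => w (Sum.inl q))
    obtain ⟨h, hh, -⟩ := exists_coeff_eq (fun q : Fin 3 => (q : ℕ)) Fin.val_injective (fun q => w (Sum.inr q))
    have ha₁ : ∀ a b, r₁ (a + b) = r₁ a + r₁ b := fun a b => hcancel (by rw [mul_add, ← hr₁, ← hr₁, ← hr₁]; rfl)
    have ha₂ : ∀ a b, r₂ (a + b) = r₂ a + r₂ b := fun a b => hcancel (by rw [mul_add, ← hr₂, ← hr₂, ← hr₂]; rfl)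
    have hs₁ : ∀ (c : A) a, r₁ (c • a) = (c : k⟦X⟧) * r₁ a := fun c a => hcancel (by rw [← hr₁, mul_left_comm, ← hr₁]; rfl)
    have hs₂ : ∀ (c : A) a, r₂ (c • a) = (c : k⟦X⟧) * r₂ a := fun c a => hcancel (by rw [← hr₂, mul_left_comm, ← hr₂]; rfl)
    let φ : W :=
      { toFun := fun c => j.symm (-(r₁ c + X * r₂ c) * g - r₂ c * h)
        map_add' := fun a b => j.injective (by
          simp only [map_add, map_smul, RingHom.id_apply, LinearEquiv.apply_symm_apply]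
          show -(r₁ (a + b) + X * r₂ (a + b)) * g - r₂ (a + b) * h =
            (-(r₁ a + X * r₂ a) * g - r₂ a * h) + (-(r₁ b + X * r₂ b) * g - r₂ b * h)
          rw [ha₁, ha₂]; ring)
        map_smul' := fun c a => j.injective (by
          simp only [map_add, map_smul, RingHom.id_apply, LinearEquiv.apply_symm_apply]
          show -(r₁ (c • a) + X * r₂ (c • a)) * g - r₂ (c • a) * h = (c : k⟦X⟧) * (-(r₁ a + X * r₂ a) * g - r₂ a * h)
          rw [hs₁, hs₂]; ring) }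
    have hu₂ : r₂ u = 0 := hcancel ((hr₂ u).symm.trans (by rw [mul_zero]; rfl))
    have hu₁ : r₁ u = -1 := hcancel ((hr₁ u).symm.trans (by rw [mul_neg, mul_one]; rfl))
    have hv₂ : r₂ v = -1 := hcancel ((hr₂ v).symm.trans (by rw [mul_neg, mul_one]; rfl))
    have hv₁ : r₁ v = X := hcancel ((hr₁ v).symm.trans (by rw [← pow_succ]; rfl))
    refine ⟨φ, funext fun q => ?_⟩
    rcases q with q | q
    · show coeff (q : ℕ) (j (j.symm (-(r₁ u + X * r₂ u) * g - r₂ u * h))) = _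
      rw [LinearEquiv.apply_symm_apply]
      rw [hu₁, hu₂, ← hg q]; congr 1; ring
    · show coeff (q : ℕ) (j (j.symm (-(r₁ v + X * r₂ v) * g - r₂ v * h))) = _
      rw [LinearEquiv.apply_symm_apply]
      rw [hv₁, hv₂, ← hh q]; congr 1; ring
  have hkerΦ : LinearMap.ker Φ = (LinearMap.ker δ).restrictScalars k := by
    have hval : ∀ (ψ : (Fin 3 → A) →ₗ[A] M) (c : K), (j (ψ c.1)) = ((c.1 0 : A) : k⟦X⟧) * (j (ψ (Pi.single 0 1))) +
        ((c.1 1 : A) : k⟦X⟧) * (j (ψ (Pi.single 1 1))) + ((c.1 2 : A) : k⟦X⟧) * (j (ψ (Pi.single 2 1))) := by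
      intro ψ c
      conv_lhs => rw [pi_eq_sum_univ' c.1]
      rw [map_sum, Fin.sum_univ_three, map_smul, map_smul, map_smul, map_add, map_add, map_smul, map_smul, map_smul]
      rfl
    ext φ
    rw [LinearMap.mem_ker, Submodule.restrictScalars_mem, hδk]
    constructor
    · intro hφ
      obtain ⟨a, ha⟩ : X ^ 3 ∣ (j (φ u)) := X_pow_dvd_iff.2 fun m hm => congrFun hφ (Sum.inl ⟨m, hm⟩)
      obtain ⟨b, hb⟩ : X ^ 3 ∣ (j (φ v)) := X_pow_dvd_iff.2 fun m hm => congrFun hφ (Sum.inr ⟨m, hm⟩)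
      refine ⟨Fintype.linearCombination A ![(0 : M), j.symm (-a), j.symm (-(X * a) - b)], LinearMap.ext fun c => j.injective ?_⟩
      show j (Fintype.linearCombination A ![(0 : M), j.symm (-a), j.symm (-(X * a) - b)] c.1) = j (φ c)
      rw [hval, hlin φ c, ha, hb]
      simp only [Fintype.linearCombination_apply_single, one_smul, Matrix.cons_val, LinearEquiv.apply_symm_apply, map_zero]
      rw [hr₁ c, hr₂ c]
      ring
    · rintro ⟨ψ, rfl⟩
      funext q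
      rcases q with q | q
      · show coeff (q : ℕ) (j (ψ u.1)) = (0 : k)
        rw [hval]
        show coeff (q : ℕ) (X ^ 4 * _ + -(X ^ 3) * _ + 0 * _) = (0 : k)
        rw [show ∀ a b c : k⟦X⟧, X ^ 4 * a + -(X ^ 3) * b + 0 * c = X ^ 3 * (X * a - b) from fun _ _ _ => by ring,
          coeff_X_pow_mul', if_neg (by omega)]
      · show coeff (q : ℕ) (j (ψ v.1)) = (0 : k)
        rw [hval]
        show coeff (q : ℕ) (0 * _ + X ^ 4 * _ + -(X ^ 3) * _) = (0 : k)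
        rw [show ∀ a b c : k⟦X⟧, 0 * a + X ^ 4 * b + -(X ^ 3) * c = X ^ 3 * (X * b - c) from fun _ _ _ => by ring,
          coeff_X_pow_mul', if_neg (by omega)]
  letI : AddCommGroup (K →ₗ[A] M) := Module.addCommMonoidToAddCommGroup A
  rw [← LinearEquiv.length_eq (LinearMap.quotKerEquivOfSurjective (R := A) (M := K →ₗ[A] M)
    (M₂ := Abelian.Ext (ModuleCat.of A M) (ModuleCat.of A M) 1) δ hδ)]
  let e₁ : (W ⧸ LinearMap.ker δ) ≃ₗ[k] (W ⧸ (LinearMap.ker δ).restrictScalars k) :=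
    (Submodule.Quotient.restrictScalarsEquiv k (LinearMap.ker δ)).symm
  let e₂ : (W ⧸ (LinearMap.ker δ).restrictScalars k) ≃ₗ[k] (W ⧸ LinearMap.ker Φ) :=
    Submodule.quotEquivOfEq _ _ hkerΦ.symm
  refine (length_eq_of_units hA.isUnit_iff (W ⧸ LinearMap.ker δ) (e₁.trans (e₂.trans (Φ.quotKerEquivOfSurjective hΦ)))).trans ?_
  simp

theorem span_E6_eq_top (hA : IsMono {m | m ≠ 1 ∧ m ≠ 2 ∧ m ≠ 5} A) :
    Submodule.span A ({1, X, X ^ 2} : Set k⟦X⟧) = ⊤ := by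
  classical
  refine eq_top_iff.2 fun f _ => ?_
  have h1 : ∀ (a : A) (y : k⟦X⟧), y ∈ ({1, X, X ^ 2} : Set k⟦X⟧) → (a : k⟦X⟧) * y ∈ Submodule.span A ({1, X, X ^ 2} : Set k⟦X⟧) :=
    fun a y hy => Submodule.smul_mem _ a (Submodule.subset_span hy)
  let a₀ : A := ⟨PowerSeries.mk fun q => if q ≠ 1 ∧ q ≠ 2 ∧ q ≠ 5 then coeff q f else 0, (hA.mem _).2 fun m hm => by
    rw [coeff_mk] at hm; split_ifs at hm with h
    · exact h
    · exact absurd rfl hm⟩
  let a₁ : A := ⟨C (coeff 1 f) + C (coeff 5 f) * X ^ 4, add_mem (A.algebraMap_mem _)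
    (mul_mem (A.algebraMap_mem _) (hA.monomial_mem (show (4 : ℕ) ≠ 1 ∧ 4 ≠ 2 ∧ 4 ≠ 5 by omega)))⟩
  have hf : f = (a₀ : k⟦X⟧) * 1 + (a₁ : k⟦X⟧) * X ^ 1 + C (coeff 2 f) * X ^ 2 := by
    ext m
    simp only [a₀, a₁, mul_one, add_mul, mul_assoc, ← pow_add, map_add, coeff_mk, coeff_C_mul, coeff_X_pow]
    by_cases h : m = 1 ∨ m = 2 ∨ m = 5
    · rcases h with rfl | rfl | rfl <;> simp
    · simp only [not_or] at h
      simp [h.1, h.2.1, h.2.2]
  rw [hf, pow_one]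
  exact add_mem (add_mem (h1 a₀ 1 (by simp)) (h1 a₁ X (by simp)))
    (h1 ⟨C (coeff 2 f), A.algebraMap_mem _⟩ (X ^ 2) (by simp))

end GrothLib.TFCurv11
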