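import Groth.Agent.Lib.GorDimOne.Extend
import Groth.Agent.Lib.GorDimOne.Reduced
import Groth.Agent.Lib.Gor.Localization
import Mathlib.Algebra.Homology.DerivedCategory.Ext.ExactSequences
import Mathlib.Algebra.Homology.DerivedCategory.Ext.EnoughProjectives
import Mathlib.Algebra.Homology.DerivedCategory.Ext.Linear
import Mathlib.Algebra.Category.ModuleCat.Projective
import Mathlib.Algebra.Category.ModuleCat.Ext.HasExt
import Mathlib.Algebra.Homology.ShortComplex.ModuleCat

/-!
# First Ext over a one-dimensional Gorenstein domain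
-/

set_option autoImplicit false
set_option linter.all false
set_option backward.isDefEq.respectTransparency false

universe u

open CategoryTheory

noncomputable section

namespace GrothLib.TFCurv11

variable {O : Type u} [CommRing O]

section seq

variable {A B C : Type u} [AddCommGroup A] [Module O A] [AddCommGroup B] [Module O B] [AddCommGroup C] [Module O C]
  (f : A →ₗ[O] B) (g : B →ₗ[O] C) (hf : Function.Injective f) (hex : Function.Exact f g) (hg : Function.Surjective g)

/-- The short complex of a short exact sequence of modules. -/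
abbrev sesC : ShortComplex (ModuleCat.{u} O) :=
  ShortComplex.mk (ModuleCat.ofHom f) (ModuleCat.ofHom g) (ModuleCat.hom_ext hex.linearMap_comp_eq_zero)

/-- Composition with `g`. -/
def postC (X : Type u) [AddCommGroup X] [Module O X] : (X →ₗ[O] B) →ₗ[O] (X →ₗ[O] C) where
  toFun ψ := g.comp ψ
  map_add' a b := LinearMap.comp_add a b g
  map_smul' c a := LinearMap.comp_smul g c a

include hf hg in
theorem sesC_shortExact : (sesC f g hex).ShortExact :=
  { exact := (ShortComplex.moduleCat_exact_iff _).2 fun x hx => (hex x).1 hx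
    mono_f := (ModuleCat.mono_iff_injective _).2 hf
    epi_g := (ModuleCat.epi_iff_surjective _).2 hg }

include hf hex hg in
/-- `Ext¹(X, A)` as a cokernel. -/
theorem exists_cok_post (X : Type u) [AddCommGroup X] [Module O X]
    (hB : Subsingleton (Abelian.Ext (ModuleCat.of O X) (ModuleCat.of O B) 1)) :
    Nonempty (((X →ₗ[O] C) ⧸ LinearMap.range (postC g X)) ≃+
      Abelian.Ext (ModuleCat.of O X) (ModuleCat.of O A) 1) := by
  have hS := sesC_shortExact f g hf hex hg
  let δ : (X →ₗ[O] C) →+ Abelian.Ext (ModuleCat.of O X) (ModuleCat.of O A) 1 :=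
    { toFun := fun φ => (Abelian.Ext.mk₀ (ModuleCat.ofHom φ : ModuleCat.of O X ⟶ (sesC f g hex).X₃)).comp hS.extClass (zero_add 1)
      map_zero' := by
        rw [show (ModuleCat.ofHom (0 : X →ₗ[O] C) : ModuleCat.of O X ⟶ (sesC f g hex).X₃) = 0 from rfl,
          Abelian.Ext.mk₀_zero, Abelian.Ext.zero_comp]
      map_add' := fun a b => by
        rw [show (ModuleCat.ofHom (a + b) : ModuleCat.of O X ⟶ (sesC f g hex).X₃) = ModuleCat.ofHom a + ModuleCat.ofHom b from rfl,
          Abelian.Ext.mk₀_add, Abelian.Ext.add_comp] }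
  have hs : Function.Surjective δ := fun x => by
    obtain ⟨x₃, hx₃⟩ := Abelian.Ext.covariant_sequence_exact₁ (ModuleCat.of O X) hS x
      (@Subsingleton.elim _ hB _ _) (n₀ := 0) (zero_add 1)
    obtain ⟨φ, rfl⟩ := Abelian.Ext.addEquiv₀.symm.surjective x₃
    exact ⟨φ.hom, hx₃⟩
  have hk : (LinearMap.range (postC g X)).toAddSubgroup = δ.ker := by
    ext φ
    constructor
    · rintro ⟨ψ, rfl⟩
      show (Abelian.Ext.mk₀ ((ModuleCat.ofHom ψ : ModuleCat.of O X ⟶ (sesC f g hex).X₂) ≫ (sesC f g hex).g)).comp hS.extClass (zero_add 1) = 0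
      rw [← Abelian.Ext.mk₀_comp_mk₀, Abelian.Ext.comp_assoc_of_second_deg_zero, hS.comp_extClass,
        Abelian.Ext.comp_zero]
    · intro hφ
      obtain ⟨x₂, hx₂⟩ := Abelian.Ext.covariant_sequence_exact₃ (ModuleCat.of O X) hS
        (Abelian.Ext.mk₀ (ModuleCat.ofHom φ : ModuleCat.of O X ⟶ (sesC f g hex).X₃)) (zero_add 1) hφ
      obtain ⟨ψ, rfl⟩ := Abelian.Ext.addEquiv₀.symm.surjective x₂
      refine ⟨ψ.hom, ?_⟩
      have h1 : (Abelian.Ext.mk₀ (ψ ≫ (sesC f g hex).g)) =
          Abelian.Ext.mk₀ (ModuleCat.ofHom φ : ModuleCat.of O X ⟶ (sesC f g hex).X₃) := by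
        rw [← hx₂]; exact (Abelian.Ext.mk₀_comp_mk₀ _ _).symm
      exact congrArg ModuleCat.Hom.hom (Abelian.Ext.addEquiv₀.symm.injective h1)
  exact ⟨(QuotientAddGroup.quotientAddEquivOfEq hk).trans (QuotientAddGroup.quotientKerEquivOfSurjective δ hs)⟩

include hf hex hg in
/-- `Ext¹(C, Y)` as a cokernel. -/
theorem exists_cok_pre (Y : Type u) [AddCommGroup Y] [Module O Y]
    (hB : Subsingleton (Abelian.Ext (ModuleCat.of O B) (ModuleCat.of O Y) 1)) :
    Nonempty (((A →ₗ[O] Y) ⧸ LinearMap.range (LinearMap.lcomp O Y f)) ≃+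
      Abelian.Ext (ModuleCat.of O C) (ModuleCat.of O Y) 1) := by
  have hS := sesC_shortExact f g hf hex hg
  let δ : (A →ₗ[O] Y) →+ Abelian.Ext (ModuleCat.of O C) (ModuleCat.of O Y) 1 :=
    { toFun := fun φ => hS.extClass.comp (Abelian.Ext.mk₀ (ModuleCat.ofHom φ : (sesC f g hex).X₁ ⟶ ModuleCat.of O Y)) (add_zero 1)
      map_zero' := by
        rw [show (ModuleCat.ofHom (0 : A →ₗ[O] Y) : (sesC f g hex).X₁ ⟶ ModuleCat.of O Y) = 0 from rfl,
          Abelian.Ext.mk₀_zero, Abelian.Ext.comp_zero]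
      map_add' := fun a b => by
        rw [show (ModuleCat.ofHom (a + b) : (sesC f g hex).X₁ ⟶ ModuleCat.of O Y) = ModuleCat.ofHom a + ModuleCat.ofHom b from rfl,
          Abelian.Ext.mk₀_add, Abelian.Ext.comp_add] }
  have hs : Function.Surjective δ := fun x => by
    obtain ⟨x₁, hx₁⟩ := Abelian.Ext.contravariant_sequence_exact₃ hS (ModuleCat.of O Y) x
      (@Subsingleton.elim _ hB _ _) (n₀ := 0) (add_zero 1)
    obtain ⟨φ, rfl⟩ := Abelian.Ext.addEquiv₀.symm.surjective x₁
    exact ⟨φ.hom, hx₁⟩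
  have hk : (LinearMap.range (LinearMap.lcomp O Y f)).toAddSubgroup = δ.ker := by
    ext φ
    constructor
    · rintro ⟨ψ, rfl⟩
      show hS.extClass.comp (Abelian.Ext.mk₀ ((sesC f g hex).f ≫ (ModuleCat.ofHom ψ : (sesC f g hex).X₂ ⟶ ModuleCat.of O Y))) (add_zero 1) = 0
      rw [← Abelian.Ext.mk₀_comp_mk₀, ← Abelian.Ext.comp_assoc_of_second_deg_zero, hS.extClass_comp,
        Abelian.Ext.zero_comp]
    · intro hφ
      obtain ⟨x₂, hx₂⟩ := Abelian.Ext.contravariant_sequence_exact₁ hS (ModuleCat.of O Y)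
        (Abelian.Ext.mk₀ (ModuleCat.ofHom φ : (sesC f g hex).X₁ ⟶ ModuleCat.of O Y)) (add_zero 1) hφ
      obtain ⟨ψ, rfl⟩ := Abelian.Ext.addEquiv₀.symm.surjective x₂
      refine ⟨ψ.hom, ?_⟩
      have h1 : (Abelian.Ext.mk₀ ((sesC f g hex).f ≫ ψ)) =
          Abelian.Ext.mk₀ (ModuleCat.ofHom φ : (sesC f g hex).X₁ ⟶ ModuleCat.of O Y) := by
        rw [← hx₂]; exact (Abelian.Ext.mk₀_comp_mk₀ _ _).symm
      exact congrArg ModuleCat.Hom.hom (Abelian.Ext.addEquiv₀.symm.injective h1)
  exact ⟨(QuotientAddGroup.quotientAddEquivOfEq hk).trans (QuotientAddGroup.quotientKerEquivOfSurjective δ hs)⟩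

include hf hex hg in
/-- `Ext¹(C, Y)` as a cokernel, linearly. -/
theorem exists_cok_pre_linear (Y : Type u) [AddCommGroup Y] [Module O Y]
    (hB : Subsingleton (Abelian.Ext (ModuleCat.of O B) (ModuleCat.of O Y) 1)) :
    ∃ δ : (A →ₗ[O] Y) →ₗ[O] Abelian.Ext (ModuleCat.of O C) (ModuleCat.of O Y) 1,
      Function.Surjective δ ∧ LinearMap.ker δ = LinearMap.range (LinearMap.lcomp O Y f) := by
  have hS := sesC_shortExact f g hf hex hg
  let δ : (A →ₗ[O] Y) →ₗ[O] Abelian.Ext (ModuleCat.of O C) (ModuleCat.of O Y) 1 :=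
    { toFun := fun φ => hS.extClass.comp (Abelian.Ext.mk₀ (ModuleCat.ofHom φ : (sesC f g hex).X₁ ⟶ ModuleCat.of O Y)) (add_zero 1)
      map_smul' := fun r a => by
        rw [show (ModuleCat.ofHom (r • a) : (sesC f g hex).X₁ ⟶ ModuleCat.of O Y) =
          r • (ModuleCat.ofHom a : (sesC f g hex).X₁ ⟶ ModuleCat.of O Y) from rfl,
          Abelian.Ext.mk₀_smul, Abelian.Ext.comp_smul, RingHom.id_apply]
      map_add' := fun a b => by
        rw [show (ModuleCat.ofHom (a + b) : (sesC f g hex).X₁ ⟶ ModuleCat.of O Y) = ModuleCat.ofHom a + ModuleCat.ofHom b from rfl,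
          Abelian.Ext.mk₀_add, Abelian.Ext.comp_add] }
  refine ⟨δ, fun x => ?_, ?_⟩
  · obtain ⟨x₁, hx₁⟩ := Abelian.Ext.contravariant_sequence_exact₃ hS (ModuleCat.of O Y) x
      (@Subsingleton.elim _ hB _ _) (n₀ := 0) (add_zero 1)
    obtain ⟨φ, rfl⟩ := Abelian.Ext.addEquiv₀.symm.surjective x₁
    exact ⟨φ.hom, hx₁⟩
  · ext φ
    constructor
    · intro hφ
      obtain ⟨x₂, hx₂⟩ := Abelian.Ext.contravariant_sequence_exact₁ hS (ModuleCat.of O Y)
        (Abelian.Ext.mk₀ (ModuleCat.ofHom φ : (sesC f g hex).X₁ ⟶ ModuleCat.of O Y)) (add_zero 1) hφ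
      obtain ⟨ψ, rfl⟩ := Abelian.Ext.addEquiv₀.symm.surjective x₂
      refine ⟨ψ.hom, ?_⟩
      have h1 : (Abelian.Ext.mk₀ ((sesC f g hex).f ≫ ψ)) =
          Abelian.Ext.mk₀ (ModuleCat.ofHom φ : (sesC f g hex).X₁ ⟶ ModuleCat.of O Y) := by
        rw [← hx₂]; exact (Abelian.Ext.mk₀_comp_mk₀ _ _).symm
      exact congrArg ModuleCat.Hom.hom (Abelian.Ext.addEquiv₀.symm.injective h1)
    · rintro ⟨ψ, rfl⟩
      show hS.extClass.comp (Abelian.Ext.mk₀ ((sesC f g hex).f ≫ (ModuleCat.ofHom ψ : (sesC f g hex).X₂ ⟶ ModuleCat.of O Y))) (add_zero 1) = 0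
      rw [← Abelian.Ext.mk₀_comp_mk₀, ← Abelian.Ext.comp_assoc_of_second_deg_zero, hS.extClass_comp,
        Abelian.Ext.zero_comp]

end seq

theorem subsingleton_ext_one_free (F Y : Type u) [AddCommGroup F] [Module O F] [Module.Free O F] [AddCommGroup Y]
    [Module O Y] : Subsingleton (Abelian.Ext (ModuleCat.of O F) (ModuleCat.of O Y) 1) :=
  haveI : Projective (ModuleCat.of O F) := ModuleCat.projective_of_free (Module.Free.chooseBasis O F)
  ⟨fun a b => (Abelian.Ext.eq_zero_of_projective a).trans (Abelian.Ext.eq_zero_of_projective b).symm⟩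

/-- A subalgebra-free form of duality: maps into a reflexive module are transposes. -/
def dualHomEquiv (R M : Type u) [AddCommGroup R] [Module O R] [AddCommGroup M] [Module O M] [Module.IsReflexive O M] :
    (R →ₗ[O] M) ≃ₗ[O] (Module.Dual O M →ₗ[O] Module.Dual O R) where
  toFun φ := φ.dualMap
  map_add' a b := LinearMap.ext fun θ => LinearMap.ext fun r => map_add θ (a r) (b r)
  map_smul' c a := LinearMap.ext fun θ => LinearMap.ext fun r => map_smul θ c (a r)
  invFun ψ := (Module.evalEquiv O M).symm.toLinearMap.comp (ψ.dualMap.comp (Module.Dual.eval O R))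
  left_inv φ := LinearMap.ext fun r => by
    refine (Module.evalEquiv O M).injective ?_
    show Module.evalEquiv O M ((Module.evalEquiv O M).symm _) = _
    rw [LinearEquiv.apply_symm_apply]
    rfl
  right_inv ψ := LinearMap.ext fun θ => LinearMap.ext fun r => by
    show θ ((Module.evalEquiv O M).symm ((ψ.dualMap.comp (Module.Dual.eval O R)) r)) = ψ θ r
    rw [Module.apply_evalEquiv_symm_apply]
    rfl

variable [IsDomain O] [LocCoh.IsGorensteinLocalRing O]

/-- `Ext¹(N, O) = 0` for finite torsion-free `N` over a one-dimensional Gorenstein domain. -/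
theorem subsingleton_ext_one_self (hdim : ringKrullDim O ≤ 1) (N : Type u) [AddCommGroup N] [Module O N]
    {n : ℕ} (j : N →ₗ[O] (Fin n → O)) (hj : Function.Injective j) :
    Subsingleton (Abelian.Ext (ModuleCat.of O N) (ModuleCat.of O O) 1) := by
  have hinj := GrothLib.GorDimOne.hasInjDimLT_two O hdim
  have hex : Function.Exact j (LinearMap.range j).mkQ := LinearMap.exact_map_mkQ_range j
  have hS := sesC_shortExact j (LinearMap.range j).mkQ hj hex (Submodule.mkQ_surjective _)
  haveI : Projective (sesC j (LinearMap.range j).mkQ hex).X₂ :=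
    ModuleCat.projective_of_free (Module.Free.chooseBasis O (Fin n → O))
  refine ⟨fun a b => ?_⟩
  have key : ∀ x : Abelian.Ext (sesC j (LinearMap.range j).mkQ hex).X₁ (ModuleCat.of O O) 1, x = 0 := fun x => by
    haveI := hinj
    haveI : Subsingleton (Abelian.Ext (sesC j (LinearMap.range j).mkQ hex).X₃ (ModuleCat.of O O) 2) :=
      HasInjectiveDimensionLT.subsingleton _ 2 2 le_rfl _
    obtain ⟨x₂, hx₂⟩ := Abelian.Ext.contravariant_sequence_exact₁ hS (ModuleCat.of O O) x (n₁ := 2) (by omega)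
      (Subsingleton.elim _ _)
    rw [← hx₂, Abelian.Ext.eq_zero_of_projective x₂, Abelian.Ext.comp_zero]
  exact (key a).trans (key b).symm

/-- `Ext¹(N, Oⁿ) = 0`, in the form of the extension property, and as vanishing. -/
theorem subsingleton_ext_one_pi (hdim : ringKrullDim O ≤ 1) {R F N : Type u} [AddCommGroup R] [Module O R]
    [AddCommGroup F] [Module O F] [Module.Free O F] [AddCommGroup N] [Module O N] (i : R →ₗ[O] F) (p : F →ₗ[O] N)
    (hi : Function.Injective i) (hex : Function.Exact i p) (hp : Function.Surjective p)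
    {n : ℕ} (j : N →ₗ[O] (Fin n → O)) (hj : Function.Injective j) (m : ℕ) :
    Subsingleton (Abelian.Ext (ModuleCat.of O N) (ModuleCat.of O (Fin m → O)) 1) := by
  obtain ⟨e₁⟩ := exists_cok_pre i p hi hex hp O (subsingleton_ext_one_free F O)
  haveI := subsingleton_ext_one_self hdim N j hj
  haveI := e₁.toEquiv.subsingleton
  have hsurj : ∀ φ : R →ₗ[O] O, ∃ ψ : F →ₗ[O] O, ψ.comp i = φ := fun φ => by
    have h : (Submodule.Quotient.mk φ : (R →ₗ[O] O) ⧸ LinearMap.range (LinearMap.lcomp O O i)) = 0 :=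
      Subsingleton.elim _ _
    exact (Submodule.Quotient.mk_eq_zero _).1 h
  obtain ⟨e₂⟩ := exists_cok_pre i p hi hex hp (Fin m → O) (subsingleton_ext_one_free F _)
  refine e₂.symm.toEquiv.subsingleton_congr.2 ⟨fun a b => ?_⟩
  have hz : ∀ x : (R →ₗ[O] (Fin m → O)) ⧸ LinearMap.range (LinearMap.lcomp O (Fin m → O) i), x = 0 := fun x => by
    obtain ⟨φ, rfl⟩ := Submodule.Quotient.mk_surjective _ x
    choose ψ hψ using fun l => hsurj ((LinearMap.proj l).comp φ)
    refine (Submodule.Quotient.mk_eq_zero _).2 ⟨LinearMap.pi ψ, LinearMap.ext fun r => funext fun l => ?_⟩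
    exact LinearMap.congr_fun (hψ l) r
  rw [hz a, hz b]

end GrothLib.TFCurv11
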