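import Groth.Agent.S15013
import Groth.Agent.Lib.DimOneLen.Basic
import Groth.Prelude.Def_CAlg
import Mathlib.Algebra.Algebra.Operations
import Mathlib.RingTheory.Length
import Mathlib.RingTheory.Artinian.Module
import Mathlib.RingTheory.Ideal.Colon

/-!
# Duality of lattices into a canonical ideal of a one-dimensional local domain
-/

set_option autoImplicit false
set_option linter.all false

universe u

open CategoryTheory CategoryTheory.Abelian IsLocalRing

noncomputable section

namespace GrothLib.LatticeDual11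

variable {O : Type u} [CommRing O] {K : Type u} [Field K] [Algebra O K]

/-- The length of a quotient of lattices. -/
def qlen (A B : Submodule O K) : ℕ∞ := Module.length O (↥B ⧸ A.comap B.subtype)

theorem qlen_self (A : Submodule O K) : qlen A A = 0 := by
  rw [qlen, Module.length_eq_zero_iff, Submodule.Quotient.subsingleton_iff, Submodule.comap_subtype_self]

theorem qlen_eq_zero {A B : Submodule O K} (hAB : A ≤ B) (h : qlen A B = 0) : A = B := by
  rw [qlen, Module.length_eq_zero_iff, Submodule.Quotient.subsingleton_iff] at h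
  exact le_antisymm hAB fun b hb => (h ▸ Submodule.mem_top : (⟨b, hb⟩ : B) ∈ A.comap B.subtype)

theorem qlen_trans {A B C : Submodule O K} (hAB : A ≤ B) (hBC : B ≤ C) :
    qlen A C = qlen A B + qlen B C := by
  refine Module.length_eq_add_of_exact (Submodule.mapQ _ _ (Submodule.inclusion hBC) fun a ha => ha)
    (Submodule.factor (Submodule.comap_mono hAB)) ?_ ?_ ?_
  · rw [injective_iff_map_eq_zero]
    intro q hq
    obtain ⟨w, rfl⟩ := Submodule.Quotient.mk_surjective _ q
    rw [Submodule.mapQ_apply, Submodule.Quotient.mk_eq_zero] at hq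
    exact (Submodule.Quotient.mk_eq_zero _).2 hq
  · intro q
    obtain ⟨w, rfl⟩ := Submodule.Quotient.mk_surjective _ q
    exact ⟨Submodule.Quotient.mk w, rfl⟩
  · intro q
    obtain ⟨w, rfl⟩ := Submodule.Quotient.mk_surjective _ q
    constructor
    · intro hw
      have hw' : (w : K) ∈ B := (Submodule.Quotient.mk_eq_zero (B.comap C.subtype)).1 hw
      exact ⟨Submodule.Quotient.mk ⟨w.1, hw'⟩, rfl⟩
    · rintro ⟨q', hq'⟩
      obtain ⟨z, rfl⟩ := Submodule.Quotient.mk_surjective _ q'
      rw [← hq']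
      exact (Submodule.Quotient.mk_eq_zero _).2 z.2

theorem div_mono (ω : Submodule O K) {L M : Submodule O K} (h : L ≤ M) : ω / M ≤ ω / L :=
  fun _ hy => Submodule.mem_div_iff_forall_mul_mem.2 fun l hl => Submodule.mem_div_iff_forall_mul_mem.1 hy l (h hl)

theorem exists_socle_elem {C : Type*} [AddCommGroup C] [Module O C] [IsArtinian O C] [Nontrivial C]
    [IsLocalRing O] : ∃ q : C, q ≠ 0 ∧ ∀ μ ∈ maximalIdeal O, μ • q = 0 := by
  obtain ⟨P, hP, -⟩ := (eq_bot_or_exists_atom_le (⊤ : Submodule O C)).resolve_left top_ne_bot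
  obtain ⟨q, hqP, hq0⟩ := Submodule.exists_mem_ne_zero_of_ne_bot hP.1
  refine ⟨q, hq0, fun μ hμ => ?_⟩
  by_contra hne'
  have hspan : Submodule.span O {μ • q} = P := (hP.le_iff.1
    ((Submodule.span_singleton_le_iff_mem _ _).2 (P.smul_mem μ hqP))).resolve_left
      (by rw [Submodule.span_singleton_eq_bot]; exact hne')
  obtain ⟨c, hc⟩ := Submodule.mem_span_singleton.1 (hspan ▸ hqP : q ∈ Submodule.span O {μ • q})
  have h1 : (1 - c * μ) • q = 0 := by rw [sub_smul, one_smul, mul_smul, hc, sub_self]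
  exact hq0 ((isUnit_one_sub_self_of_mem_nonunits _ (Ideal.mul_mem_left _ c hμ)).smul_eq_zero.1 h1)

variable [IsDomain O] [IsNoetherianRing O] [IsLocalRing O] [IsFractionRing O K]

theorem algebraMap_ne_zero {a : O} (ha : a ≠ 0) : algebraMap O K a ≠ 0 :=
  (map_ne_zero_iff _ (IsFractionRing.injective O K)).2 ha

/-- Homomorphisms of lattices are multiplications. -/
theorem exists_eq_mul {M : Submodule O K} (g : M →ₗ[O] K) : ∃ y : K, ∀ m : M, g m = y * m := by
  by_cases h : ∀ m : M, (m : K) = 0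
  · exact ⟨0, fun m => by rw [show m = 0 from Subtype.ext (h m), map_zero, zero_mul]⟩
  · push Not at h
    obtain ⟨m₀, hm₀⟩ := h
    refine ⟨g m₀ / m₀, fun m => ?_⟩
    obtain ⟨a, b, hb, hab⟩ := IsFractionRing.div_surjective (A := O) ((m : K) / m₀)
    have hb0 : algebraMap O K b ≠ 0 := algebraMap_ne_zero (nonZeroDivisors.ne_zero hb)
    have h1 : b • m = a • m₀ := Subtype.ext (by
      show b • (m : K) = a • (m₀ : K)
      rw [Algebra.smul_def, Algebra.smul_def]
      field_simp at hab
      linear_combination -hab)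
    have h2 := congrArg g h1
    rw [map_smul, map_smul, Algebra.smul_def, Algebra.smul_def] at h2
    field_simp at hab ⊢
    refine mul_left_cancel₀ hb0 ?_
    linear_combination (m₀ : K) * h2 + g m₀ * hab

variable (ω : Submodule O K)

/-- The socle of `K / ω`. -/
def socle : Submodule O (K ⧸ ω) where
  carrier := {z | ∀ μ ∈ maximalIdeal O, μ • z = 0}
  add_mem' ha hb μ hμ := by rw [smul_add, ha μ hμ, hb μ hμ, add_zero]
  zero_mem' μ _ := smul_zero μ
  smul_mem' c z hz μ hμ := by rw [smul_comm, hz μ hμ, smul_zero]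

theorem mem_socle {z : K ⧸ ω} : z ∈ socle ω ↔ ∀ μ ∈ maximalIdeal O, μ • z = 0 := Iff.rfl

variable (hdim : ringKrullDim O = 1) [IsAlgClosed (ResidueField O)]
  (hfin : Module.Finite O ↥(integralClosure O K)) (hω0 : ω ≠ ⊥) (hωfg : ω.FG)
  (hωinj : HasInjectiveDimensionLT (ModuleCat.of O ↥ω) 2)

include hdim hfin hω0 hωfg hωinj in
/-- Maps to `K / ω` lift to `K`. -/
theorem exists_lift {M : Submodule O K} [Module.Finite O M] (f : M →ₗ[O] K ⧸ ω) :
    ∃ g : M →ₗ[O] K, ω.mkQ ∘ₗ g = f := by
  haveI : NoZeroSMulDivisors O M := by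
    refine ⟨fun {c m} h => ?_⟩
    have h' : algebraMap O K c * (m : K) = 0 := by
      rw [← Algebra.smul_def]; exact congrArg Subtype.val h
    rcases mul_eq_zero.1 h' with h1 | h1
    · exact Or.inl ((map_eq_zero_iff _ (IsFractionRing.injective O K)).1 h1)
    · exact Or.inr (Subtype.ext h1)
  haveI := Groth.Agent.S15013.result O hdim K hfin ω hω0 hωfg hωinj M 1 le_rfl
  let S : ShortComplex (ModuleCat.{u} O) := ShortComplex.mk (ModuleCat.ofHom ω.subtype)
    (ModuleCat.ofHom ω.mkQ) (by ext x; exact (Submodule.Quotient.mk_eq_zero ω).2 x.2)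
  have hS : S.ShortExact :=
    { exact := (ShortComplex.moduleCat_exact_iff_range_eq_ker _).2 (by simp [S])
      mono_f := (ModuleCat.mono_iff_injective _).2 Subtype.val_injective
      epi_g := (ModuleCat.epi_iff_surjective _).2 (Submodule.mkQ_surjective _) }
  obtain ⟨x₂, hx₂⟩ := Ext.covariant_sequence_exact₃ (ModuleCat.of O M) hS (n₀ := 0) (n₁ := 1)
    (Ext.mk₀ (ModuleCat.ofHom f : ModuleCat.of O M ⟶ S.X₃)) rfl
    (Subsingleton.elim (α := Ext (ModuleCat.of O M) (ModuleCat.of O ω) 1) _ _)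
  obtain ⟨g, rfl⟩ := Ext.homEquiv₀.symm.surjective x₂
  rw [Ext.homEquiv₀_symm_apply, Ext.mk₀_comp_mk₀] at hx₂
  have h := congrArg Ext.homEquiv₀ hx₂
  simp only [← Ext.homEquiv₀_symm_apply, Equiv.apply_symm_apply] at h
  exact ⟨g.hom, congrArg ModuleCat.Hom.hom h⟩

include hdim hfin hω0 hωfg hωinj in
/-- One simple step of the duality. -/
theorem qlen_div_simple {L M : Submodule O K} [Module.Finite O M] (hLM : L ≤ M) (m₁ : K) (hm₁ : m₁ ∈ M)
    (hm₁L : m₁ ∉ L) (hmax : ∀ μ ∈ maximalIdeal O, μ • m₁ ∈ L) (hgen : M = L ⊔ Submodule.span O {m₁}) :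
    qlen L M = 1 ∧ qlen (ω / M) (ω / L) = Module.length O (socle ω) := by
  classical
  let ρ : O →ₗ[O] ↥M ⧸ L.comap M.subtype :=
    LinearMap.toSpanSingleton O _ (Submodule.Quotient.mk ⟨m₁, hm₁⟩)
  have hρ : Function.Surjective ρ := by
    intro q
    obtain ⟨m, rfl⟩ := Submodule.Quotient.mk_surjective _ q
    obtain ⟨l, hl, z, hz, hlz⟩ := Submodule.mem_sup.1 (hgen.le m.2)
    obtain ⟨c, rfl⟩ := Submodule.mem_span_singleton.1 hz
    refine ⟨c, (Submodule.Quotient.eq _).2 ?_⟩
    show c • m₁ - (m : K) ∈ L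
    rw [← hlz, sub_add_cancel_right]
    exact neg_mem hl
  have hker : LinearMap.ker ρ = maximalIdeal O := by
    refine ((IsLocalRing.maximalIdeal.isMaximal O).eq_of_le (fun h => hm₁L ?_) fun μ hμ => ?_).symm
    swap
    · show Submodule.Quotient.mk (μ • (⟨m₁, hm₁⟩ : M)) = 0
      exact (Submodule.Quotient.mk_eq_zero _).2 (hmax μ hμ)
    have h1 : (1 : O) ∈ LinearMap.ker ρ := h ▸ Submodule.mem_top
    have h2 := (Submodule.Quotient.mk_eq_zero _).1 (show Submodule.Quotient.mk ((1 : O) • (⟨m₁, hm₁⟩ : M)) = 0 from h1)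
    rwa [one_smul] at h2
  let E := (LinearMap.quotKerEquivOfSurjective ρ hρ).symm.trans (Submodule.quotEquivOfEq _ _ hker)
  refine ⟨?_, ?_⟩
  · rw [qlen, E.length_eq, Module.length_eq_one_iff]
    exact isSimpleModule_iff_isCoatom.2 (Ideal.isMaximal_def.1 (IsLocalRing.maximalIdeal.isMaximal O))
  let Φ : ↥(ω / L) →ₗ[O] K ⧸ ω := ω.mkQ ∘ₗ (LinearMap.mulRight O m₁) ∘ₗ (ω / L).subtype
  have hker' : LinearMap.ker Φ = (ω / M).comap (ω / L).subtype := by
    ext y
    rw [LinearMap.mem_ker, Submodule.mem_comap, Submodule.coe_subtype, Submodule.mem_div_iff_forall_mul_mem]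
    show (Submodule.Quotient.mk ((y : K) * m₁) : K ⧸ ω) = 0 ↔ _
    rw [Submodule.Quotient.mk_eq_zero]
    refine ⟨fun h m hm => ?_, fun h => h m₁ hm₁⟩
    obtain ⟨l, hl, z, hz, rfl⟩ := Submodule.mem_sup.1 (hgen.le hm)
    obtain ⟨c, rfl⟩ := Submodule.mem_span_singleton.1 hz
    rw [mul_add, mul_smul_comm]
    exact add_mem (Submodule.mem_div_iff_forall_mul_mem.1 y.2 l hl) (ω.smul_mem c h)
  have hrange : LinearMap.range Φ = socle ω := by
    refine le_antisymm ?_ fun z hz => ?_
    · rintro _ ⟨y, rfl⟩ μ hμ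
      show μ • (Submodule.Quotient.mk ((y : K) * m₁) : K ⧸ ω) = 0
      rw [← Submodule.Quotient.mk_smul, Submodule.Quotient.mk_eq_zero, ← mul_smul_comm]
      exact Submodule.mem_div_iff_forall_mul_mem.1 y.2 _ (hmax μ hμ)
    · let q : (O ⧸ maximalIdeal O) →ₗ[O] K ⧸ ω :=
        Submodule.liftQ _ (LinearMap.toSpanSingleton O _ z) fun μ hμ => hz μ hμ
      obtain ⟨g, hg⟩ := exists_lift ω hdim hfin hω0 hωfg hωinj (q ∘ₗ E.toLinearMap ∘ₗ (L.comap M.subtype).mkQ)
      obtain ⟨y, hy⟩ := exists_eq_mul g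
      have hgy : ∀ m : M, (Submodule.Quotient.mk (y * (m : K)) : K ⧸ ω) = q (E (Submodule.Quotient.mk m)) :=
        fun m => (congrArg (fun w => (Submodule.Quotient.mk w : K ⧸ ω)) (hy m)).symm.trans
          (LinearMap.congr_fun hg m)
      have hyL : y ∈ ω / L := Submodule.mem_div_iff_forall_mul_mem.2 fun l hl => by
        have h0 : (Submodule.Quotient.mk (⟨l, hLM hl⟩ : M) : ↥M ⧸ L.comap M.subtype) = 0 :=
          (Submodule.Quotient.mk_eq_zero _).2 hl
        have h := hgy ⟨l, hLM hl⟩
        rw [h0, map_zero, map_zero] at h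
        exact (Submodule.Quotient.mk_eq_zero _).1 h
      refine ⟨⟨y, hyL⟩, ?_⟩
      show (Submodule.Quotient.mk (y * m₁) : K ⧸ ω) = z
      rw [hgy ⟨m₁, hm₁⟩]
      have hE : E (Submodule.Quotient.mk ⟨m₁, hm₁⟩) = Submodule.Quotient.mk 1 := by
        rw [show (Submodule.Quotient.mk ⟨m₁, hm₁⟩ : ↥M ⧸ L.comap M.subtype) = ρ 1 by simp [ρ]]
        show (Submodule.quotEquivOfEq _ _ hker) ((LinearMap.quotKerEquivOfSurjective ρ hρ).symm (ρ 1)) = _
        erw [LinearMap.quotKerEquivOfSurjective_symm_apply]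
        rfl
      rw [hE]
      show (1 : O) • z = z
      exact one_smul _ _
  rw [qlen, ← hker']
  exact ((LinearMap.quotKerEquivRange Φ).trans (LinearEquiv.ofEq _ _ hrange)).length_eq

include hdim in
theorem isFiniteLength_quot {L M : Submodule O K} [Module.Finite O M] (a : O) (ha : a ≠ 0)
    (h : ∀ m ∈ M, a • m ∈ L) : IsFiniteLength O (↥M ⧸ L.comap M.subtype) := by
  haveI : Ring.KrullDimLE 1 O := Ring.krullDimLE_iff.mpr hdim.le
  refine DimOneLen.isFiniteLength_of_smul_eq_zero ha fun q => ?_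
  obtain ⟨m, rfl⟩ := Submodule.Quotient.mk_surjective _ q
  exact (Submodule.Quotient.mk_eq_zero _).2 (h m m.2)

include hdim hfin hω0 hωfg hωinj in
/-- The duality of lattices. -/
theorem qlen_div (n : ℕ) : ∀ {L M : Submodule O K} [Module.Finite O M], L ≤ M → qlen L M = n →
    qlen (ω / M) (ω / L) = n * Module.length O (socle ω) := by
  induction n with
  | zero =>
    intro L M _ hLM h
    rw [qlen_eq_zero hLM (by simpa using h), qlen_self, Nat.cast_zero, zero_mul]
  | succ n ih =>
    intro L M _ hLM h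
    have hne : qlen L M ≠ ⊤ := by rw [h]; exact ENat.natCast_ne_top _
    have hfl := Module.length_ne_top_iff.1 hne
    obtain ⟨-, hA⟩ := isFiniteLength_iff_isNoetherian_isArtinian.1 hfl
    haveI := hA
    haveI : Nontrivial (↥M ⧸ L.comap M.subtype) := not_subsingleton_iff_nontrivial.1 fun hs => by
      have : qlen L M = 0 := Module.length_eq_zero_iff.2 hs
      rw [h] at this
      exact absurd this (by exact_mod_cast Nat.succ_ne_zero n)
    obtain ⟨q, hq0, hkill⟩ := exists_socle_elem (O := O) (C := ↥M ⧸ L.comap M.subtype)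
    obtain ⟨m₁, rfl⟩ := Submodule.Quotient.mk_surjective _ q
    let L' := L ⊔ Submodule.span O {(m₁ : K)}
    have hLL' : L ≤ L' := le_sup_left
    have hL'M : L' ≤ M := sup_le hLM ((Submodule.span_singleton_le_iff_mem _ _).2 m₁.2)
    haveI : Module.Finite O L' := Module.Finite.of_injective (Submodule.inclusion hL'M) (Submodule.inclusion_injective _)
    have hmax : ∀ μ ∈ maximalIdeal O, μ • (m₁ : K) ∈ L := fun μ hμ => by
      have := hkill μ hμ
      rw [← Submodule.Quotient.mk_smul, Submodule.Quotient.mk_eq_zero] at this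
      exact this
    obtain ⟨hone, hsoc⟩ := qlen_div_simple ω hdim hfin hω0 hωfg hωinj hLL' (m₁ : K)
      (Submodule.mem_sup_right (Submodule.mem_span_singleton_self _))
      (fun hm => hq0 ((Submodule.Quotient.mk_eq_zero _).2 hm)) hmax rfl
    have hsum := qlen_trans hLL' hL'M
    rw [h, hone] at hsum
    have hn : qlen L' M = n := by
      have h2 : ((n : ℕ∞) + 1) = qlen L' M + 1 := by rw [add_comm (qlen L' M)]; exact_mod_cast hsum
      exact (WithTop.add_right_cancel ENat.one_ne_top h2).symm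
    rw [qlen_trans (div_mono ω hL'M) (div_mono ω hLL'), ih hL'M hn, hsoc, Nat.cast_succ, add_mul, one_mul]

include hdim hωfg hω0 in
theorem socle_ne_bot : socle ω ≠ ⊥ := by
  classical
  haveI : Ring.KrullDimLE 1 O := Ring.krullDimLE_iff.mpr hdim.le
  intro hbot
  have hne : ω ≠ ⊤ := fun h => by
    haveI : Module.Finite O K := ⟨h ▸ hωfg⟩
    haveI : Algebra.IsIntegral O K := Algebra.IsIntegral.of_finite O K
    have hF : IsField O := isField_of_isIntegral_of_isField (IsFractionRing.injective O K) (Semifield.toIsField K)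
    rw [ringKrullDim_eq_zero_of_isField hF] at hdim
    exact zero_ne_one hdim
  obtain ⟨y, -, hy⟩ := SetLike.exists_of_lt hne.lt_top
  obtain ⟨w, hw, hw0⟩ := Submodule.exists_mem_ne_zero_of_ne_bot hω0
  obtain ⟨a, b, hb, hab⟩ := IsFractionRing.div_surjective (A := O) y
  obtain ⟨a', b', hb', hab'⟩ := IsFractionRing.div_surjective (A := O) w
  have hb0 : algebraMap O K b ≠ 0 := algebraMap_ne_zero (nonZeroDivisors.ne_zero hb)
  have hb0' : algebraMap O K b' ≠ 0 := algebraMap_ne_zero (nonZeroDivisors.ne_zero hb')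
  have ha' : a' ≠ 0 := fun h => hw0 (by rw [← hab', h, map_zero, zero_div])
  have hc : (b * a') • y ∈ ω := by
    have : (b * a') • y = (a * b') • w := by
      rw [Algebra.smul_def, Algebra.smul_def, map_mul, map_mul, ← hab, ← hab']
      field_simp
    rw [this]
    exact ω.smul_mem _ hw
  let P : Submodule O (K ⧸ ω) := Submodule.span O {Submodule.Quotient.mk y}
  have hfl : IsFiniteLength O P := DimOneLen.isFiniteLength_of_smul_eq_zero
    (mul_ne_zero (nonZeroDivisors.ne_zero hb) ha') fun q => by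
      obtain ⟨c, hc'⟩ := Submodule.mem_span_singleton.1 q.2
      refine Subtype.ext ?_
      show (b * a') • (q : K ⧸ ω) = 0
      rw [← hc', smul_comm, ← Submodule.Quotient.mk_smul, (Submodule.Quotient.mk_eq_zero _).2 hc, smul_zero]
  obtain ⟨-, hA⟩ := isFiniteLength_iff_isNoetherian_isArtinian.1 hfl
  haveI := hA
  haveI : Nontrivial P := by
    refine ⟨⟨⟨Submodule.Quotient.mk y, Submodule.mem_span_singleton_self _⟩, 0, fun h => hy ?_⟩⟩
    exact (Submodule.Quotient.mk_eq_zero _).1 (congrArg Subtype.val h)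
  obtain ⟨q, hq0, hkill⟩ := exists_socle_elem (O := O) (C := P)
  exact hq0 (Subtype.ext ((Submodule.eq_bot_iff _).1 hbot _
    ((mem_socle ω).2 fun μ hμ => congrArg Subtype.val (hkill μ hμ))))

include hdim hfin hωinj hωfg in
/-- For a canonical ideal between a non-Gorenstein ring and its normalization the socle is simple. -/
theorem socle_length_one (hG : ¬ LocCoh.IsGorensteinLocalRing O) (hω1 : (1 : Submodule O K) ≤ ω)
    (hω2 : ω ≤ Subalgebra.toSubmodule (integralClosure O K)) :
    ω / (1 : Submodule O K) = ω ∧ ω / ω = 1 ∧ Module.length O (socle ω) = 1 := by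
  classical
  let T : Submodule O K := Subalgebra.toSubmodule (integralClosure O K)
  haveI : Ring.KrullDimLE 1 O := Ring.krullDimLE_iff.mpr hdim.le
  haveI hT : Module.Finite O T := hfin
  haveI : Module.Finite O ω := Module.Finite.of_injective (Submodule.inclusion hω2) (Submodule.inclusion_injective _)
  have hω0 : ω ≠ ⊥ := fun h => by
    have h1 : (1 : K) ∈ (⊥ : Submodule O K) := h ▸ hω1 (Submodule.one_le.1 le_rfl)
    exact one_ne_zero ((Submodule.mem_bot O).1 h1)
  obtain ⟨a, ha, hM⟩ := DimOneLen.exists_smul_le (R := O) (K := K) (1 : Submodule O K) ω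
    (Module.Finite.iff_fg.1 inferInstance) (fun m _ => by
      rw [show m = m • (1 : K) from (mul_one m).symm]
      exact Submodule.smul_mem _ _ (Submodule.subset_span (Submodule.one_le.1 le_rfl)))
  have hne : qlen (1 : Submodule O K) ω ≠ ⊤ := Module.length_ne_top_iff.2
    (isFiniteLength_quot (L := (1 : Submodule O K)) (M := ω) hdim a ha hM)
  obtain ⟨n, hn⟩ : ∃ n : ℕ, qlen (1 : Submodule O K) ω = n := ⟨_, (ENat.coe_toNat hne).symm⟩
  have hdiv1 : ω / (1 : Submodule O K) = ω := by
    refine le_antisymm (fun y hy => ?_) fun y hy => Submodule.mem_div_iff_forall_mul_mem.2 fun z hz => ?_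
    · have := Submodule.mem_div_iff_forall_mul_mem.1 hy 1 (Submodule.one_le.1 le_rfl)
      rwa [mul_one] at this
    · obtain ⟨c, rfl⟩ := Submodule.mem_one.1 hz
      rw [mul_comm, ← Algebra.smul_def]
      exact ω.smul_mem c hy
  have h1ω : (1 : Submodule O K) ≤ ω / ω := fun z hz => Submodule.mem_div_iff_forall_mul_mem.2 fun y hy => by
    obtain ⟨c, rfl⟩ := Submodule.mem_one.1 hz
    rw [← Algebra.smul_def]
    exact ω.smul_mem c hy
  have hωω : ω / ω ≤ ω := (div_mono ω hω1).trans hdiv1.le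
  have hn0 : n ≠ 0 := fun h => by
    subst h
    have heq := qlen_eq_zero hω1 (by simpa using hn)
    refine hG ⟨2, ?_⟩
    subst heq
    let e : O ≃ₗ[O] ↥(1 : Submodule O K) :=
      (LinearEquiv.ofInjective (Algebra.linearMap O K) (IsFractionRing.injective O K)).trans
        (LinearEquiv.ofEq _ _ Submodule.one_eq_range.symm)
    haveI := hωinj
    exact hasInjectiveDimensionLT_of_iso e.toModuleIso.symm 2
  have hkey := qlen_div ω hdim hfin hω0 hωfg hωinj n hω1 hn
  rw [hdiv1] at hkey
  have hsum := qlen_trans h1ω hωω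
  rw [hn, hkey] at hsum
  have ht0 : Module.length O (socle ω) ≠ 0 := fun h => by
    have := Module.length_eq_zero_iff.1 h
    exact socle_ne_bot ω hdim hω0 hωfg Submodule.eq_bot_of_subsingleton
  have ht : Module.length O (socle ω) = 1 ∧ qlen 1 (ω / ω) = 0 := by
    revert hsum ht0
    generalize qlen 1 (ω / ω) = x
    generalize Module.length O (socle ω) = t
    intro hsum ht0
    induction t using ENat.recTopCoe with
    | top =>
      rw [ENat.mul_top (by exact_mod_cast hn0)] at hsum
      simp at hsum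
    | coe t =>
      induction x using ENat.recTopCoe with
      | top => simp at hsum
      | coe x =>
        have hs : n = x + n * t := by exact_mod_cast hsum
        have ht1 : 1 ≤ t := Nat.one_le_iff_ne_zero.2 (by exact_mod_cast ht0)
        have h2 : n * 1 ≤ n * t := Nat.mul_le_mul_left n ht1
        have hx : x = 0 := by omega
        subst hx
        have : n * t = n * 1 := by omega
        exact ⟨by exact_mod_cast Nat.eq_of_mul_eq_mul_left (Nat.pos_of_ne_zero hn0) this, by simp⟩
  exact ⟨hdiv1, (qlen_eq_zero h1ω ht.2).symm, ht.1⟩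

end GrothLib.LatticeDual11
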