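import Groth.Agent.Lib.TFCurv11.CubicalApps
import Mathlib.RingTheory.Localization.Integer
import Mathlib.RingTheory.Flat.Localization
import Mathlib.LinearAlgebra.Dimension.Constructions

/-!
# Rank-one lattices over monomial curve singularities
-/

set_option autoImplicit false
set_option linter.all false
set_option backward.isDefEq.respectTransparency false

universe u

open PowerSeries TensorProduct

noncomputable section

namespace GrothLib.TFCurv11

/-- A torsion-free module of rank one embeds into the ring. -/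
theorem exists_embedding_ring (A : Type u) [CommRing A] [IsDomain A] (M : Type u) [AddCommGroup M] [Module A M]
    [Module.Finite A M] [NoZeroSMulDivisors A M]
    (hrk : Module.finrank (FractionRing A) (FractionRing A ⊗[A] M) = 1) :
    ∃ j : M →ₗ[A] A, Function.Injective j ∧ j ≠ 0 := by
  classical
  let K := FractionRing A
  let φ : (K ⊗[A] M) ≃ₗ[K] (Fin 1 → K) := (Module.finBasisOfFinrankEq K (K ⊗[A] M) hrk).equivFun
  let j₁ : M →ₗ[A] (Fin 1 → K) := (φ.toLinearMap.restrictScalars A).comp (TensorProduct.mk A K M 1)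
  let j₀ : M →ₗ[A] K := (LinearMap.proj 0).comp j₁
  haveI hloc : IsLocalizedModule (nonZeroDivisors A) (TensorProduct.mk A K M 1) :=
    (isLocalizedModule_iff_isBaseChange (nonZeroDivisors A) K _).2 (TensorProduct.isBaseChange A M K)
  have hj₁ : Function.Injective j₁ := by
    refine φ.injective.comp ((injective_iff_map_eq_zero _).2 fun m hm => ?_)
    obtain ⟨c, hc⟩ := (IsLocalizedModule.eq_zero_iff (nonZeroDivisors A) (TensorProduct.mk A K M 1)).1 hm
    exact (smul_eq_zero.1 hc).resolve_left (nonZeroDivisors.coe_ne_zero c)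
  have hj₀ : Function.Injective j₀ := fun a b h => hj₁ (funext fun i => by fin_cases i; exact h)
  obtain ⟨G, hG⟩ := ‹Module.Finite A M›.fg_top
  obtain ⟨d, hd⟩ := IsLocalization.exist_integer_multiples_of_finite (nonZeroDivisors A) (S := K)
    (fun g : G => j₀ g)
  have hint : ∀ m, ∃ a : A, algebraMap A K a = (d : A) • j₀ m := by
    intro m
    have hm : m ∈ Submodule.span A (G : Set M) := hG ▸ Submodule.mem_top
    induction hm using Submodule.span_induction with
    | mem x hx => exact hd ⟨x, hx⟩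
    | zero => exact ⟨0, by rw [map_zero, map_zero, smul_zero]⟩
    | add x y _ _ hx hy =>
      obtain ⟨a, ha⟩ := hx; obtain ⟨b, hb⟩ := hy
      exact ⟨a + b, by rw [map_add, map_add, smul_add, ha, hb]⟩
    | smul c x _ hx =>
      obtain ⟨a, ha⟩ := hx
      refine ⟨c * a, ?_⟩
      rw [map_mul, ha, map_smul, Algebra.smul_def, Algebra.smul_def, Algebra.smul_def]; ring
  choose f hf using hint
  have hinj := IsFractionRing.injective A K
  let j : M →ₗ[A] A :=
    { toFun := f
      map_add' := fun a b => hinj (by rw [map_add, hf, hf, hf, map_add, smul_add])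
      map_smul' := fun c a => hinj (by
        rw [RingHom.id_apply, smul_eq_mul, map_mul, hf, hf, map_smul, smul_comm, Algebra.smul_def]) }
  have hj : Function.Injective j := fun a b h => hj₀ (by
    have h1 : (d : A) • j₀ a = (d : A) • j₀ b := by rw [← hf, ← hf]; exact congrArg _ h
    rw [Algebra.smul_def, Algebra.smul_def] at h1
    exact mul_left_cancel₀ (fun h0 => nonZeroDivisors.coe_ne_zero d (hinj (h0.trans (map_zero _).symm))) h1)
  refine ⟨j, hj, fun h0 => ?_⟩
  haveI : Subsingleton M := ⟨fun a b => hj (by rw [h0]; rfl)⟩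
  have hz : ∀ x : K ⊗[A] M, x = 0 := fun x => by
    induction x using TensorProduct.induction_on with
    | zero => rfl
    | add a b ha hb => rw [ha, hb, add_zero]
    | tmul a m => rw [Subsingleton.elim m 0, TensorProduct.tmul_zero]
  haveI : Subsingleton (K ⊗[A] M) := ⟨fun a b => (hz a).trans (hz b).symm⟩
  rw [Module.finrank_zero_of_subsingleton] at hrk
  exact zero_ne_one hrk

variable {k : Type u} [Field k] {A : Subalgebra k k⟦X⟧}

/-- The set of orders of a submodule. -/
def ordSet (N : Submodule A k⟦X⟧) : Set ℕ := {m | ∃ f ∈ N, PowerSeries.order f = m}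

/-- Colength from the order set. -/
theorem finrank_quot_ordSet (N : Submodule A k⟦X⟧) (b : ℕ) (hb : ∀ f : k⟦X⟧, X ^ b ∣ f → f ∈ N) :
    Module.finrank k (k⟦X⟧ ⧸ N.restrictScalars k) = (ordSet N)ᶜ.ncard := by
  classical
  have hlt : ∀ m, m ∉ ordSet N → m < b := fun m hm => by
    by_contra h
    exact hm ⟨X ^ m, hb _ (pow_dvd_pow X (by omega)), order_X_pow m⟩
  let F : Finset ℕ := (Finset.range b).filter fun m => m ∉ ordSet N
  have hF : (ordSet N)ᶜ = (F : Set ℕ) := Set.ext fun m => by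
    simp only [Set.mem_compl_iff, F, Finset.coe_filter, Finset.mem_range, Set.mem_setOf_eq]
    exact ⟨fun h => ⟨hlt m h, h⟩, fun h => h.2⟩
  let L : (F → k) →ₗ[k] k⟦X⟧ :=
    { toFun := fun v => ∑ g : F, C (v g) * X ^ (g : ℕ)
      map_add' := fun v w => by simp [Finset.sum_add_distrib, map_add, add_mul]
      map_smul' := fun c v => by simp [Finset.smul_sum, smul_eq_C_mul, mul_assoc] }
  let Q : (F → k) →ₗ[k] (k⟦X⟧ ⧸ N.restrictScalars k) := (N.restrictScalars k).mkQ.comp L
  have hcoeff : ∀ (v : F → k) (g : F), coeff (g : ℕ) (L v) = v g := fun v g => by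
    show coeff (g : ℕ) (∑ g : F, C (v g) * X ^ (g : ℕ)) = v g
    rw [map_sum, Finset.sum_eq_single g]
    · simp
    · intro c _ hc
      simp only [coeff_C_mul, coeff_X_pow]
      rw [if_neg (fun h => hc (Subtype.ext h.symm)), mul_zero]
    · simp
  have hinj : Function.Injective Q := (injective_iff_map_eq_zero Q).2 fun v hv => by
    by_contra hne
    have hmem : L v ∈ N := (Submodule.Quotient.mk_eq_zero _).1 hv
    have hne' : L v ≠ 0 := fun h => hne (funext fun g => by rw [← hcoeff v g, h, map_zero]; rfl)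
    obtain ⟨m, hm⟩ : ∃ m : ℕ, PowerSeries.order (L v) = m := ⟨_, (ENat.coe_toNat (order_eq_top.not.2 hne')).symm⟩
    have hmv : m ∈ ordSet N := ⟨_, hmem, hm⟩
    refine (order_eq_nat.1 hm).1 ?_
    show coeff m (∑ g : F, C (v g) * X ^ (g : ℕ)) = 0
    rw [map_sum]
    refine Finset.sum_eq_zero fun g _ => ?_
    simp only [coeff_C_mul, coeff_X_pow]
    rw [if_neg, mul_zero]
    rintro rfl
    exact (Finset.mem_filter.1 g.2).2 hmv
  have hsurj : Function.Surjective Q := by
    have key : ∀ t f, t ≤ b → X ^ (b - t) ∣ f → f ∈ N.restrictScalars k ⊔ LinearMap.range L := by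
      intro t
      induction t with
      | zero => intro f _ hf; exact Submodule.mem_sup_left (hb f hf)
      | succ t ih =>
        intro f ht hf
        obtain ⟨h, hh, hhc⟩ : ∃ h ∈ N.restrictScalars k ⊔ LinearMap.range L,
            X ^ (b - (t + 1)) ∣ h ∧ coeff (b - (t + 1)) h = coeff (b - (t + 1)) f := by
          by_cases hm : b - (t + 1) ∈ ordSet N
          · obtain ⟨w, hw, hwo⟩ := hm
            obtain ⟨hw1, hw2⟩ := order_eq_nat.1 hwo
            refine ⟨(coeff (b - (t + 1)) f * (coeff (b - (t + 1)) w)⁻¹) • w, Submodule.mem_sup_left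
              (Submodule.smul_mem (N.restrictScalars k) _ hw),
              X_pow_dvd_iff.2 fun i hi => by rw [map_smul, hw2 i hi, smul_zero], ?_⟩
            rw [map_smul, smul_eq_mul, mul_assoc, inv_mul_cancel₀ hw1, mul_one]
          · refine ⟨L (Pi.single ⟨b - (t + 1), Finset.mem_filter.2 ⟨Finset.mem_range.2 (by omega), hm⟩⟩
              (coeff (b - (t + 1)) f)), Submodule.mem_sup_right ⟨_, rfl⟩, ?_, ?_⟩
            · show _ ∣ ∑ g : F, _
              refine Finset.dvd_sum fun g _ => ?_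
              by_cases hg : g = ⟨b - (t + 1), Finset.mem_filter.2 ⟨Finset.mem_range.2 (by omega), hm⟩⟩
              · subst hg; exact dvd_mul_left _ _
              · rw [Pi.single_eq_of_ne hg, map_zero, zero_mul]; exact dvd_zero _
            · rw [hcoeff _ ⟨b - (t + 1), Finset.mem_filter.2 ⟨Finset.mem_range.2 (by omega), hm⟩⟩, Pi.single_eq_same]
        have h1 := ih (f - h) (by omega) (X_pow_dvd_iff.2 fun i hi => by
          rcases Nat.lt_or_ge i (b - (t + 1)) with h' | h'
          · rw [map_sub, X_pow_dvd_iff.1 hf i h', X_pow_dvd_iff.1 hhc.1 i h', sub_zero]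
          · obtain rfl : i = b - (t + 1) := by omega
            rw [map_sub, hhc.2, sub_self])
        simpa using add_mem h1 hh
    intro y
    obtain ⟨f, rfl⟩ := Submodule.Quotient.mk_surjective _ y
    obtain ⟨a, ha, _, ⟨v, rfl⟩, hav⟩ := Submodule.mem_sup.1 (key b f le_rfl (by simp))
    exact ⟨v, ((Submodule.Quotient.eq _).2 (by rw [← hav, sub_add_cancel_right]; exact neg_mem ha))⟩
  rw [← (LinearEquiv.ofBijective Q ⟨hinj, hsurj⟩).finrank_eq, Module.finrank_fintype_fun_eq_card, hF,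
    Set.ncard_coe_finset, Fintype.card_coe]

/-- A rank-one module has a lattice of colength `δ` over `X^{2δ}`. -/
theorem exists_lattice_two_delta [Module.Finite A k⟦X⟧] (hbir : ∀ f : k⟦X⟧, ∃ a ∈ A, a ≠ 0 ∧ a * f ∈ A)
    (Γ : Set ℕ) (hΓ : ∀ n : ℕ, n ∈ Γ ↔ ∃ f ∈ A, PowerSeries.order f = n)
    (hmono : ∀ f : k⟦X⟧, f ∈ A ↔ ∀ n : ℕ, coeff n f ≠ 0 → n ∈ Γ)
    (M : Type u) [AddCommGroup M] [Module A M] [Module.Finite A M] [NoZeroSMulDivisors A M]
    (hrk : Module.finrank (FractionRing A) (FractionRing A ⊗[A] M) = 1) :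
    ∃ M' : Submodule A k⟦X⟧, (Ideal.span {(X : k⟦X⟧) ^ (2 * Γᶜ.ncard)}).restrictScalars A ≤ M' ∧
      Nonempty (M ≃ₗ[A] M') ∧ Module.finrank k (k⟦X⟧ ⧸ M'.restrictScalars k) = Γᶜ.ncard := by
  classical
  -- the conductor
  obtain ⟨G, hG⟩ := ‹Module.Finite A k⟦X⟧›.fg_top
  choose a ha ha0 haf using hbir
  let q : k⟦X⟧ := ∏ g ∈ G, a g
  have hq0 : q ≠ 0 := Finset.prod_ne_zero_iff.2 fun g _ => ha0 g
  have hqP : ∀ f, q * f ∈ A := fun f => by
    have hf : f ∈ Submodule.span A (G : Set k⟦X⟧) := hG ▸ Submodule.mem_top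
    induction hf using Submodule.span_induction with
    | mem g hg =>
      show (∏ g ∈ G, a g) * g ∈ A
      rw [← Finset.prod_erase_mul G _ (Finset.mem_coe.1 hg), mul_assoc]
      exact mul_mem (prod_mem fun x _ => ha x) (haf g)
    | zero => rw [mul_zero]; exact zero_mem _
    | add x y _ _ hx hy => rw [mul_add]; exact add_mem hx hy
    | smul c x _ hx =>
      show q * ((c : k⟦X⟧) * x) ∈ A
      rw [mul_left_comm]; exact mul_mem c.2 hx
  obtain ⟨b, hb⟩ : ∃ b : ℕ, PowerSeries.order q = b := ⟨_, (ENat.coe_toNat (order_eq_top.not.2 hq0)).symm⟩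
  have hbΓ : ∀ m, b ≤ m → m ∈ Γ := fun m hm => (hΓ m).2 ⟨q * X ^ (m - b), hqP _, by
    rw [order_mul, hb, order_X_pow, ← Nat.cast_add, Nat.add_sub_cancel' hm]⟩
  have hbA : ∀ f : k⟦X⟧, X ^ b ∣ f → f ∈ A := fun f hf => (hmono f).2 fun m hm => hbΓ m (by
    by_contra h; exact hm (X_pow_dvd_iff.1 hf m (by omega)))
  have hfinΓ : Γᶜ.Finite := (Set.finite_Iio b).subset fun m hm => by
    by_contra h; exact hm (hbΓ m (by simpa using h))
  -- the normalised lattice
  obtain ⟨j, hj, hj0⟩ := exists_embedding_ring A M hrk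
  let jP : M →ₗ[A] k⟦X⟧ := (Algebra.linearMap A k⟦X⟧).comp j
  have hjP : Function.Injective jP := (Subtype.val_injective.comp hj : Function.Injective fun m => ((j m : A) : k⟦X⟧))
  have hne : ∃ o : ℕ, ∃ m, PowerSeries.order (jP m) = (o : ℕ∞) := by
    obtain ⟨m, hm⟩ : ∃ m, j m ≠ 0 := by
      by_contra h; push Not at h; exact hj0 (LinearMap.ext h)
    have h1 : jP m ≠ 0 := fun h => hm (Subtype.ext h)
    exact ⟨_, m, (ENat.coe_toNat (order_eq_top.not.2 h1)).symm⟩
  let o := Nat.find hne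
  obtain ⟨m₀, hm₀⟩ := Nat.find_spec hne
  have hdiv : ∀ m, X ^ o ∣ jP m := fun m => by
    by_cases h : jP m = 0
    · rw [h]; exact dvd_zero _
    refine X_pow_dvd_iff.2 fun i hi => coeff_of_lt_order i ?_
    rw [← ENat.coe_toNat (order_eq_top.not.2 h)]
    have h2 : o ≤ (PowerSeries.order (jP m)).toNat := Nat.find_min' hne ⟨m, (ENat.coe_toNat (order_eq_top.not.2 h)).symm⟩
    exact_mod_cast lt_of_lt_of_le hi h2
  choose f hf using hdiv
  have hcancel : ∀ {x y : k⟦X⟧}, X ^ o * x = X ^ o * y → x = y := fun h => mul_left_cancel₀ (pow_ne_zero o X_ne_zero) h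
  let fL : M →ₗ[A] k⟦X⟧ :=
    { toFun := f
      map_add' := fun x y => hcancel (by rw [mul_add, ← hf, ← hf, ← hf, map_add])
      map_smul' := fun c x => hcancel (by
        rw [RingHom.id_apply, mul_smul_comm, ← hf, ← hf, map_smul]) }
  let M₀ : Submodule A k⟦X⟧ := LinearMap.range fL
  have hfinj : Function.Injective fL := fun x y h => hjP (by rw [hf x, hf y]; exact congrArg _ h)
  obtain ⟨u, hu⟩ : IsUnit (f m₀) := PowerSeries.isUnit_iff_constantCoeff.2 (isUnit_iff_ne_zero.2 (by
    have h1 := (order_eq_nat.1 hm₀).1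
    rw [hf m₀] at h1
    rw [coeff_X_pow_mul', if_pos le_rfl, Nat.sub_self, coeff_zero_eq_constantCoeff_apply] at h1
    exact h1))
  have hbM : ∀ g : k⟦X⟧, X ^ b ∣ g → g ∈ M₀ := fun g hg => by
    refine ⟨(⟨g * ((u⁻¹ : k⟦X⟧ˣ) : k⟦X⟧), hbA _ (dvd_mul_of_dvd_left hg _)⟩ : A) • m₀, ?_⟩
    rw [map_smul]
    show g * ((u⁻¹ : k⟦X⟧ˣ) : k⟦X⟧) * f m₀ = g
    rw [← hu, mul_assoc, Units.inv_mul, mul_one]
  let V := ordSet M₀
  have hVadd : ∀ γ v, γ ∈ Γ → v ∈ V → γ + v ∈ V := fun γ v hγ hv => by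
    obtain ⟨c, hc, hco⟩ := (hΓ γ).1 hγ
    obtain ⟨w, hw, hwo⟩ := hv
    refine ⟨c * w, M₀.smul_mem (⟨c, hc⟩ : A) hw, ?_⟩
    rw [order_mul, hco, hwo, Nat.cast_add]
  have hV0 : (0 : ℕ) ∈ V := ⟨f m₀, ⟨m₀, rfl⟩, by rw [Nat.cast_zero, ← hu, order_zero_of_unit u.isUnit]⟩
  have hΓV : Γ ⊆ V := fun γ hγ => by simpa using hVadd γ 0 hγ hV0
  have hfinV : Vᶜ.Finite := hfinΓ.subset (Set.compl_subset_compl.2 hΓV)
  have hℓ : Vᶜ.ncard ≤ Γᶜ.ncard := Set.ncard_le_ncard (Set.compl_subset_compl.2 hΓV) hfinΓ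
  have hex : ∃ c, ∀ m, c ≤ m → m ∈ V := ⟨b, fun m hm => hΓV (hbΓ m hm)⟩
  let c := Nat.find hex
  have hc := Nat.find_spec hex
  -- the conductor bound
  have hcb : c ≤ Vᶜ.ncard + Γᶜ.ncard := by
    rcases Nat.eq_zero_or_pos c with h | h
    · omega
    have hc1 : c - 1 ∉ V := fun hmem => Nat.find_min hex (show c - 1 < c by omega) fun m hm => by
      rcases Nat.eq_or_lt_of_le hm with h' | h'
      · exact h' ▸ hmem
      · exact hc m (show c ≤ m by omega)
    have h1 : ((Finset.range c).filter fun m => m ∈ Γ).card ≤ Vᶜ.ncard := by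
      rw [← Set.ncard_coe_finset]
      refine Set.ncard_le_ncard_of_injOn (fun γ => c - 1 - γ) (fun γ hγ => ?_) (fun x hx y hy hxy => ?_) hfinV
      · simp only [Finset.coe_filter, Finset.mem_range, Set.mem_setOf_eq] at hγ
        intro hmem
        have := hVadd γ _ hγ.2 hmem
        rw [Nat.add_sub_cancel' (show γ ≤ c - 1 by omega)] at this
        exact hc1 this
      · simp only [Finset.coe_filter, Finset.mem_range, Set.mem_setOf_eq] at hx hy hxy
        omega
    have h2 : ((Finset.range c).filter fun m => m ∉ Γ).card ≤ Γᶜ.ncard := by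
      rw [← Set.ncard_coe_finset]
      exact Set.ncard_le_ncard (fun m hm => (Finset.mem_filter.1 (Finset.mem_coe.1 hm)).2) hfinΓ
    have h3 := Finset.card_filter_add_card_filter_not (s := Finset.range c) (fun m => m ∈ Γ)
    rw [Finset.card_range] at h3
    omega
  have hcM : ∀ t (g : k⟦X⟧), c ≤ b - t → X ^ (b - t) ∣ g → g ∈ M₀ := by
    intro t
    induction t with
    | zero => intro g _ hg; exact hbM g hg
    | succ t ih =>
      intro g hct hg
      rcases Nat.lt_or_ge t b with htb | htb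
      · obtain ⟨w, hw, hwo⟩ := hc (b - (t + 1)) hct
        obtain ⟨hw1, hw2⟩ := order_eq_nat.1 hwo
        set r : k := coeff (b - (t + 1)) g * (coeff (b - (t + 1)) w)⁻¹
        have hrw : r • w ∈ M₀ := by
          have h := M₀.smul_mem (⟨C r, A.algebraMap_mem r⟩ : A) hw
          rw [smul_eq_C_mul]
          exact h
        have h1 := ih (g - r • w) (by omega) (X_pow_dvd_iff.2 fun i hi => by
          rcases Nat.lt_or_ge i (b - (t + 1)) with h' | h'
          · rw [map_sub, X_pow_dvd_iff.1 hg i h', map_smul, hw2 i h', smul_zero, sub_zero]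
          · obtain rfl : i = b - (t + 1) := by omega
            rw [map_sub, map_smul, smul_eq_mul, mul_assoc, inv_mul_cancel₀ hw1, mul_one, sub_self])
        simpa using add_mem h1 hrw
      · exact ih g (by omega) (by rwa [show b - t = b - (t + 1) by omega])
  -- shifting
  set δ := Γᶜ.ncard
  let s := δ - Vᶜ.ncard
  let σ : k⟦X⟧ →ₗ[A] k⟦X⟧ := LinearMap.mulLeft A (X ^ s)
  let M' : Submodule A k⟦X⟧ := LinearMap.range (σ.comp fL)
  have hbig : ∀ g : k⟦X⟧, X ^ (2 * δ) ∣ g → g ∈ M' := by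
    rintro g ⟨r, rfl⟩
    have hmem : X ^ (2 * δ - s) * r ∈ M₀ := by
      rcases Nat.lt_or_ge (2 * δ - s) b with h | h
      · refine hcM (b - (2 * δ - s)) _ (show c ≤ _ by omega) ?_
        rw [show b - (b - (2 * δ - s)) = 2 * δ - s by omega]
        exact dvd_mul_right _ _
      · exact hbM _ ((pow_dvd_pow X h).mul_right r)
    obtain ⟨m, hm⟩ := hmem
    refine ⟨m, ?_⟩
    show X ^ s * fL m = _
    rw [hm, ← mul_assoc, ← pow_add, Nat.add_sub_cancel' (show s ≤ 2 * δ by omega)]
  refine ⟨M', fun g hg => hbig g (Ideal.mem_span_singleton.1 hg), ⟨LinearEquiv.ofInjective (σ.comp fL)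
    fun x y h => hfinj (mul_left_cancel₀ (pow_ne_zero s X_ne_zero) h)⟩, ?_⟩
  rw [finrank_quot_ordSet M' (2 * δ) hbig]
  have hV' : (ordSet M')ᶜ = ↑(Finset.range s) ∪ (fun v => s + v) '' Vᶜ := by
    ext m
    simp only [Set.mem_compl_iff, Set.mem_union, Finset.coe_range, Set.mem_Iio, Set.mem_image]
    constructor
    · intro hm
      rcases Nat.lt_or_ge m s with h | h
      · exact Or.inl h
      · refine Or.inr ⟨m - s, ?_, Nat.add_sub_cancel' h⟩
        rintro ⟨w, ⟨x, rfl⟩, hwo⟩
        exact hm ⟨X ^ s * fL x, ⟨x, rfl⟩, by rw [order_mul, order_X_pow, hwo, ← Nat.cast_add, Nat.add_sub_cancel' h]⟩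
    · rintro (h | ⟨v, hv, rfl⟩) ⟨w, ⟨x, rfl⟩, hwo⟩
      · exact (order_eq_nat.1 hwo).1 (X_pow_dvd_iff.1 (show X ^ s ∣ X ^ s * fL x from dvd_mul_right _ _) m h)
      · refine hv ⟨fL x, ⟨x, rfl⟩, ?_⟩
        rw [show (σ.comp fL) x = X ^ s * fL x from rfl, order_mul, order_X_pow, Nat.cast_add] at hwo
        exact WithTop.add_left_cancel (ENat.coe_ne_top s) hwo
  rw [hV', Set.ncard_union_eq ?_ (Finset.finite_toSet _) (hfinV.image _),
    Set.ncard_image_of_injective _ (add_right_injective s), Set.ncard_coe_finset, Finset.card_range]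
  · omega
  · rw [Set.disjoint_left]
    rintro m hm ⟨v, -, rfl⟩
    simp at hm

end GrothLib.TFCurv11
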