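import Groth.Agent.Lib.NodeEt.Form
import Mathlib.RingTheory.Length
import Mathlib.RingTheory.Ideal.Cotangent

/-!
# The cokernel of a module of node type in its extension to the normalization: algebra
-/

set_option autoImplicit false
set_option linter.all false

universe u

open IsLocalRing

noncomputable section

namespace GrothLib.NodePush11

variable {R : Type u} [CommRing R] [IsLocalRing R]
variable {M N : Type u} [AddCommGroup M] [Module R M] [AddCommGroup N] [Module R N]
variable (η : M →ₗ[R] N) (T : N →ₗ[R] N)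

theorem psi_surjective (hspan : ∀ w, ∃ v₁ v₂, w = η v₁ + T (η v₂)) :
    Function.Surjective ((LinearMap.range η).mkQ ∘ₗ T ∘ₗ η) := by
  intro q
  obtain ⟨w, rfl⟩ := Submodule.Quotient.mk_surjective _ q
  obtain ⟨v₁, v₂, rfl⟩ := hspan w
  refine ⟨v₂, ?_⟩
  refine ((Submodule.Quotient.eq _).2 ?_)
  exact ⟨-v₁, by simp⟩

theorem smul_top_le_ker_psi (hmT : ∀ μ ∈ maximalIdeal R, ∃ c ∈ maximalIdeal R, ∀ w, μ • T w = c • w) :
    maximalIdeal R • (⊤ : Submodule R M) ≤ LinearMap.ker ((LinearMap.range η).mkQ ∘ₗ T ∘ₗ η) := by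
  refine Submodule.smul_le.2 fun μ hμ v _ => ?_
  obtain ⟨c, -, hc⟩ := hmT μ hμ
  rw [LinearMap.mem_ker, LinearMap.comp_apply, LinearMap.comp_apply, map_smul, map_smul, hc,
    Submodule.mkQ_apply, Submodule.Quotient.mk_eq_zero]
  exact ⟨c • v, map_smul _ _ _⟩

/-- The cokernel is the reduction of the module, given a functional detecting it. -/
theorem nonempty_coker_equiv (hspan : ∀ w, ∃ v₁ v₂, w = η v₁ + T (η v₂))
    (hmT : ∀ μ ∈ maximalIdeal R, ∃ c ∈ maximalIdeal R, ∀ w, μ • T w = c • w)
    (Φ : N →ₗ[R] M ⧸ maximalIdeal R • (⊤ : Submodule R M))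
    (hΦ₀ : ∀ v, Φ (η v) = 0) (hΦ₁ : ∀ v, Φ (T (η v)) = Submodule.Quotient.mk v) :
    Nonempty ((N ⧸ LinearMap.range η) ≃ₗ[R] M ⧸ maximalIdeal R • (⊤ : Submodule R M)) := by
  have hker : LinearMap.ker ((LinearMap.range η).mkQ ∘ₗ T ∘ₗ η) = maximalIdeal R • (⊤ : Submodule R M) := by
    refine le_antisymm (fun v hv => ?_) (smul_top_le_ker_psi η T hmT)
    rw [LinearMap.mem_ker, LinearMap.comp_apply, LinearMap.comp_apply, Submodule.mkQ_apply,
      Submodule.Quotient.mk_eq_zero] at hv
    obtain ⟨v', hv'⟩ := hv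
    rw [← Submodule.Quotient.mk_eq_zero, ← hΦ₁, ← hv', hΦ₀]
  exact ⟨((Submodule.quotEquivOfEq _ _ hker.symm).trans
    (LinearMap.quotKerEquivOfSurjective _ (psi_surjective η T hspan))).symm⟩

theorem length_pi_residue (a : ℕ) :
    Module.length R (Fin a → R ⧸ maximalIdeal R) = a := NodeEt.length_fin

/-- The cokernel for the torsion free quotient. -/
theorem length_coker_torsionFree (hspan : ∀ w, ∃ v₁ v₂, w = η v₁ + T (η v₂))
    (hmT : ∀ μ ∈ maximalIdeal R, ∃ c ∈ maximalIdeal R, ∀ w, μ • T w = c • w)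
    (hη : Function.Injective η) (s r₁ : R) (hs : ∀ w : N, s • w = 0 → w = 0)
    (hr : ∀ w, s • T w = r₁ • w)
    (hr₀ : ∀ t t' : R, r₁ * t = s * t' → t ∈ maximalIdeal R)
    (hr₁ : ∀ μ ∈ maximalIdeal R, ∃ c ∈ maximalIdeal R, r₁ * μ = s * c)
    {a b : ℕ} (e : M ≃ₗ[R] (Fin a → R) × (Fin b → maximalIdeal R)) :
    Module.length R (N ⧸ LinearMap.range η) = a := by
  classical
  let θ : (Fin a → R) →ₗ[R] N ⧸ LinearMap.range η :=
    ((LinearMap.range η).mkQ ∘ₗ T ∘ₗ η) ∘ₗ e.symm.toLinearMap ∘ₗ LinearMap.inl R _ _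
  have hsurj : Function.Surjective θ := by
    intro q
    obtain ⟨v, rfl⟩ := psi_surjective η T hspan q
    refine ⟨(e v).1, ?_⟩
    choose c hcm hc using fun j => hr₁ _ ((e v).2 j).2
    have h2 : T (η (e.symm (0, (e v).2))) = η (e.symm (0, fun j => ⟨c j, hcm j⟩)) := by
      refine sub_eq_zero.1 (hs _ ?_)
      rw [smul_sub, hr, ← map_smul η, ← map_smul η, ← map_sub, ← map_smul e.symm, ← map_smul e.symm, ← map_sub]
      convert map_zero η
      convert map_zero e.symm
      refine Prod.ext (funext fun i => by simp) (funext fun j => Subtype.ext ?_)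
      simp [hc j]
    have h1 : v = e.symm ((e v).1, 0) + e.symm (0, (e v).2) := by
      rw [← map_add]; simp
    conv_rhs => rw [h1]
    simp only [θ, LinearMap.comp_apply, LinearMap.inl_apply, LinearEquiv.coe_coe, map_add, h2,
      Submodule.mkQ_apply]
    exact (left_eq_add.2 ((Submodule.Quotient.mk_eq_zero _).2 ⟨_, rfl⟩))
  let π : (Fin a → R) →ₗ[R] (Fin a → R ⧸ maximalIdeal R) :=
    LinearMap.pi fun i => Submodule.mkQ _ ∘ₗ LinearMap.proj i
  have hπ : Function.Surjective π := fun q => by
    choose u hu using fun i => Submodule.Quotient.mk_surjective _ (q i)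
    exact ⟨u, funext hu⟩
  have hker : LinearMap.ker θ = LinearMap.ker π := by
    ext u
    have hπu : π u = 0 ↔ ∀ i, u i ∈ maximalIdeal R := by
      rw [funext_iff]
      exact forall_congr' fun i => Submodule.Quotient.mk_eq_zero _
    rw [LinearMap.mem_ker, LinearMap.mem_ker, hπu]
    constructor
    · intro h i
      simp only [θ, LinearMap.comp_apply, LinearMap.inl_apply, LinearEquiv.coe_coe, Submodule.mkQ_apply,
        Submodule.Quotient.mk_eq_zero] at h
      obtain ⟨v', hv'⟩ := h
      have h0 : r₁ • e.symm (u, 0) = s • v' := hη (by rw [map_smul, map_smul, hv', hr])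
      have h1 := congrArg (fun w => (e w).1 i) h0
      simp only [map_smul, e.apply_symm_apply, Prod.smul_fst, Pi.smul_apply, smul_eq_mul] at h1
      exact hr₀ _ _ h1
    · intro h
      have hu : e.symm (u, (0 : Fin b → maximalIdeal R)) ∈ maximalIdeal R • (⊤ : Submodule R M) := by
        have : (u, (0 : Fin b → maximalIdeal R)) = ∑ i, u i • (Pi.single i (1 : R), (0 : Fin b → maximalIdeal R)) := by
          refine Prod.ext (funext fun j => ?_) (by simp [Prod.snd_sum])
          simp [Prod.fst_sum, Finset.sum_apply, Pi.single_apply]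
        rw [this, map_sum]
        exact sum_mem fun i _ => by
          rw [map_smul]; exact Submodule.smul_mem_smul (h i) Submodule.mem_top
      exact smul_top_le_ker_psi η T hmT hu
  rw [((LinearMap.quotKerEquivOfSurjective θ hsurj).symm.trans
    ((Submodule.quotEquivOfEq _ _ hker).trans (LinearMap.quotKerEquivOfSurjective π hπ))).length_eq]
  exact length_pi_residue a

omit [IsLocalRing R] in
theorem length_coker_comp {N' : Type u} [AddCommGroup N'] [Module R N'] (l : N →ₗ[R] N')
    (hl : Function.Injective l) :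
    Module.length R (N' ⧸ LinearMap.range (l ∘ₗ η)) =
      Module.length R (N ⧸ LinearMap.range η) + Module.length R (N' ⧸ LinearMap.range l) := by
  have h1 : LinearMap.range η ≤ (LinearMap.range (l ∘ₗ η)).comap l := by
    rintro _ ⟨v, rfl⟩; exact ⟨v, rfl⟩
  have h2 : LinearMap.range (l ∘ₗ η) ≤ LinearMap.range l := LinearMap.range_comp_le_range η l
  refine Module.length_eq_add_of_exact (Submodule.mapQ _ _ l h1)
    (Submodule.factor h2) ?_ ?_ ?_
  · rw [injective_iff_map_eq_zero]
    intro q hq
    obtain ⟨w, rfl⟩ := Submodule.Quotient.mk_surjective _ q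
    rw [Submodule.mapQ_apply, Submodule.Quotient.mk_eq_zero] at hq
    obtain ⟨v, hv⟩ := hq
    exact (Submodule.Quotient.mk_eq_zero _).2 ⟨v, hl hv⟩
  · intro q
    obtain ⟨w, rfl⟩ := Submodule.Quotient.mk_surjective _ q
    exact ⟨Submodule.Quotient.mk w, rfl⟩
  · intro q
    obtain ⟨w, rfl⟩ := Submodule.Quotient.mk_surjective _ q
    constructor
    · intro hw
      obtain ⟨z, rfl⟩ := (Submodule.Quotient.mk_eq_zero _).1 hw
      exact ⟨Submodule.Quotient.mk z, rfl⟩
    · rintro ⟨q', hq'⟩
      obtain ⟨z, rfl⟩ := Submodule.Quotient.mk_surjective _ q'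
      rw [← hq']
      exact (Submodule.Quotient.mk_eq_zero _).2 ⟨z, rfl⟩

/-- The reduction of a module of node type. -/
theorem length_quot_smul_top {a b : ℕ} (e : M ≃ₗ[R] (Fin a → R) × (Fin b → maximalIdeal R))
    (h2 : NodeEt.lev R 2 = 3) :
    Module.length R (M ⧸ maximalIdeal R • (⊤ : Submodule R M)) = (a + 2 * b : ℕ) := by
  classical
  let m := maximalIdeal R
  -- the cotangent space
  have hcot : Module.length R m.Cotangent = 2 := by
    have hle : m ^ 2 ≤ m := Ideal.pow_le_self (by norm_num)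
    have h := Module.length_eq_add_of_exact (m.cotangentToQuotientSquare) (Submodule.factor hle)
      (m.cotangentToQuotientSquare_injective)
      (fun q => by
        obtain ⟨w, rfl⟩ := Submodule.Quotient.mk_surjective _ q
        exact ⟨Submodule.Quotient.mk w, rfl⟩)
      (fun q => by
        obtain ⟨w, rfl⟩ := Submodule.Quotient.mk_surjective _ q
        constructor
        · intro hw
          exact ⟨m.toCotangent ⟨w, (Submodule.Quotient.mk_eq_zero _).1 hw⟩, rfl⟩
        · rintro ⟨c, hc⟩
          obtain ⟨z, rfl⟩ := m.toCotangent_surjective c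
          rw [← hc]
          exact (Submodule.Quotient.mk_eq_zero _).2 z.2)
    have h1 : Module.length R (R ⧸ m) = 1 := by rw [← NodeEt.lev_one (A := R), NodeEt.lev, pow_one]
    have h3 : Module.length R (R ⧸ m ^ 2) = 3 := h2
    rw [h1, h3, show (3 : ℕ∞) = 2 + 1 from rfl] at h
    exact (WithTop.add_right_cancel ENat.one_ne_top h).symm
  let q : ((Fin a → R) × (Fin b → m)) →ₗ[R] (Fin a → R ⧸ m) × (Fin b → m.Cotangent) :=
    LinearMap.prodMap (LinearMap.pi fun i => Submodule.mkQ _ ∘ₗ LinearMap.proj i)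
      (LinearMap.pi fun i => m.toCotangent ∘ₗ LinearMap.proj i)
  let qe := q ∘ₗ e.toLinearMap
  have hq : Function.Surjective qe := by
    rintro ⟨x, y⟩
    choose u hu using fun i => Submodule.Quotient.mk_surjective _ (x i)
    choose w hw using fun i => m.toCotangent_surjective (y i)
    refine ⟨e.symm (u, w), ?_⟩
    show q (e (e.symm (u, w))) = (x, y)
    rw [e.apply_symm_apply]
    exact Prod.ext (funext hu) (funext hw)
  have hker : LinearMap.ker qe = m • (⊤ : Submodule R M) := by
    refine le_antisymm (fun v hv => ?_) (Submodule.smul_le.2 fun μ hμ v _ => ?_)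
    · have h : (∀ i, (e v).1 i ∈ m) ∧ ∀ j, (e v).2 j ∈ m • (⊤ : Submodule R m) := by
        have h1 : q (e v) = 0 := hv
        rw [Prod.ext_iff] at h1
        exact ⟨fun i => (Submodule.Quotient.mk_eq_zero _).1 (congrFun h1.1 i),
          fun j => (Submodule.Quotient.mk_eq_zero _).1 (congrFun h1.2 j)⟩
      suffices hmem : e v ∈ m • (⊤ : Submodule R ((Fin a → R) × (Fin b → m))) by
        have := Submodule.mem_map_of_mem (f := e.symm.toLinearMap) hmem
        rw [Submodule.map_smul''] at this
        simpa using Submodule.smul_mono le_rfl le_top this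
      have hdec : e v = (∑ i, LinearMap.inl R _ (Fin b → m) (LinearMap.single R (fun _ : Fin a => R) i ((e v).1 i))) +
          ∑ j, LinearMap.inr R (Fin a → R) _ (LinearMap.single R (fun _ : Fin b => ↥m) j ((e v).2 j)) := by
        simp only [LinearMap.single_apply]
        rw [← map_sum, ← map_sum, Finset.univ_sum_single, Finset.univ_sum_single]
        simp
      rw [hdec]
      refine add_mem (sum_mem fun i _ => ?_) (sum_mem fun j _ => ?_)
      · have h1 : (e v).1 i = (e v).1 i • (1 : R) := (mul_one _).symm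
        rw [h1, map_smul, map_smul]
        exact Submodule.smul_mem_smul (h.1 i) Submodule.mem_top
      · have hm := Submodule.mem_map_of_mem
          (f := LinearMap.inr R (Fin a → R) _ ∘ₗ LinearMap.single R (fun _ : Fin b => ↥m) j) (h.2 j)
        rw [Submodule.map_smul''] at hm
        exact Submodule.smul_mono le_rfl le_top hm
    · rw [LinearMap.mem_ker, map_smul]
      refine Prod.ext (funext fun i => ?_) (funext fun j => ?_)
      · show μ • (Submodule.Quotient.mk ((e v).1 i) : R ⧸ m) = 0
        rw [← Submodule.Quotient.mk_smul, Submodule.Quotient.mk_eq_zero]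
        exact m.mul_mem_right _ hμ
      · show μ • m.toCotangent ((e v).2 j) = 0
        rw [← map_smul, Ideal.toCotangent_eq_zero, pow_two]
        exact Ideal.mul_mem_mul hμ ((e v).2 j).2
  rw [((Submodule.quotEquivOfEq _ _ hker.symm).trans (LinearMap.quotKerEquivOfSurjective qe hq)).length_eq,
    Module.length_prod, Module.length_pi_of_fintype, Module.length_pi_of_fintype, hcot]
  have h1 : Module.length R (R ⧸ m) = 1 := by rw [← NodeEt.lev_one (A := R), NodeEt.lev, pow_one]
  simp only [h1, Finset.sum_const, Finset.card_univ, Fintype.card_fin, nsmul_eq_mul]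
  push_cast
  ring

end GrothLib.NodePush11

namespace GrothLib.NodePush11

open IsLocalRing in
theorem exists_pow_smul_eq_zero_of_finiteLength {R : Type u} [CommRing R] [IsLocalRing R] {C : Type u}
    [AddCommGroup C] [Module R C] (h : IsFiniteLength R C) (s : R) (hs : s ∈ maximalIdeal R) (z : C) :
    ∃ n : ℕ, s ^ n • z = 0 := by
  obtain ⟨hN, hA⟩ := isFiniteLength_iff_isNoetherian_isArtinian.1 h
  have hanti : Antitone fun n : ℕ => Submodule.span R {s ^ n • z} := fun i j hij => by
    refine (Submodule.span_singleton_le_iff_mem _ _).2 (Submodule.mem_span_singleton.2 ⟨s ^ (j - i), ?_⟩)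
    rw [smul_smul, ← pow_add, Nat.sub_add_cancel hij]
  obtain ⟨n, hn⟩ := IsArtinian.monotone_stabilizes (R := R) (M := C)
    ⟨fun n => OrderDual.toDual (Submodule.span R {s ^ n • z}), hanti⟩
  refine ⟨n, ?_⟩
  have hn' : Submodule.span R {s ^ n • z} = Submodule.span R {s ^ (n + 1) • z} := hn (n + 1) n.le_succ
  have h1 : s ^ n • z ∈ Submodule.span R {s ^ (n + 1) • z} := hn' ▸ Submodule.mem_span_singleton_self _
  obtain ⟨c, hc⟩ := Submodule.mem_span_singleton.1 h1
  have h2 : (1 - c * s) • (s ^ n • z) = 0 := by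
    rw [sub_smul, one_smul, mul_smul, smul_smul s, ← pow_succ', hc, sub_self]
  exact (isUnit_one_sub_self_of_mem_nonunits _ (Ideal.mul_mem_left _ c hs)).smul_eq_zero.1 h2

end GrothLib.NodePush11
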