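import Groth.Agent.Lib.TFCurv11.NodePush

/-!
# The cokernel of a module of node type in the direct image from the normalization
-/

set_option autoImplicit false
set_option linter.all false
set_option backward.isDefEq.respectTransparency false

universe u

open CategoryTheory CategoryTheory.Limits Opposite AlgebraicGeometry TopologicalSpace
open GrothLib.QCoh (stalkLin)

noncomputable section

namespace GrothLib.NodePush11

variable {X Y : Scheme.{u}}

/-- Off the nodes the unit is bijective on stalks. -/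
theorem bijective_unit_stalk (π : Y ⟶ X) [IsAffineHom π] (U : X.Opens) [IsIso (π ∣_ U)] (F : X.Modules)
    [F.IsQuasicoherent] {x : X} (hxU : x ∈ U) :
    Function.Bijective (stalkLin ((Scheme.Modules.pullbackPushforwardAdjunction π).unit.app F) x) := by
  haveI : ((Scheme.Modules.pullback π).obj F).IsQuasicoherent := FittSheaf.isQuasicoherent_pullback π F
  let η : F.presheaf.stalk x →ₗ[X.presheaf.stalk x] ((Scheme.Modules.pushforward π).obj ((Scheme.Modules.pullback π).obj F)).presheaf.stalk x := stalkLin ((Scheme.Modules.pullbackPushforwardAdjunction π).unit.app F) x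
  show Function.Bijective η
  obtain ⟨V, hV, hx, hVU⟩ := exists_isAffineOpen_mem_and_subset (x := x) (U := U) hxU
  have hbO := bijective_unitToPush π U hxU
  have hr := range_unitToPush π hx
  rw [LinearMap.range_eq_top.2 hbO.2] at hr
  have hone := oneGerm_faithful π hx hbO.1
  let ε := LinearMap.toSpanSingleton (X.presheaf.stalk x) _ (oneGerm π hx 1)
  have hε : Function.Bijective ε :=
    ⟨(injective_iff_map_eq_zero ε).2 hone, fun w => by
      obtain ⟨r, hr'⟩ := Submodule.mem_span_singleton.1 (hr ▸ Submodule.mem_top : w ∈ Submodule.span _ {oneGerm π hx 1})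
      exact ⟨r, hr'⟩⟩
  let εe := LinearEquiv.ofBijective ε hε
  obtain ⟨act, hact, hact1, hactr⟩ := exists_actions π hV hx ((Scheme.Modules.pullback π).obj F)
  have hscal : ∀ b w, act b w = εe.symm (oneGerm π hx b) • w := fun b w => by
    have h : oneGerm π hx b = εe.symm (oneGerm π hx b) • oneGerm π hx 1 + (0 : X.presheaf.stalk x) • oneGerm π hx 1 := by
      rw [zero_smul, add_zero]; exact (εe.apply_symm_apply _).symm
    rw [hactr b 1 _ _ h, hact1, zero_smul, add_zero]
  have hsurj := LinearMap.range_eq_top.1 (pullback_germ_span π hV hx F act hact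
    (LinearMap.range η)
    fun b v => by rw [hscal]; exact Submodule.smul_mem _ _ ⟨v, rfl⟩)
  obtain ⟨Φ, hΦ⟩ := exists_pairing_desc π hV hx F
    ((LinearMap.lsmul (X.presheaf.stalk x) (F.presheaf.stalk x)) ∘ₗ εe.symm.toLinearMap)
  have hleft : Φ ∘ₗ η = LinearMap.id := by
    refine stalk_hom_ext hV hx fun s => ?_
    show Φ (η _) = _
    simp only [η]
    erw [QCoh.stalkLin_germ]
    have h := hΦ 1 s
    rw [one_smul] at h
    refine h.trans ?_
    show εe.symm (oneGerm π hx 1) • F.presheaf.germ V x hx s = F.presheaf.germ V x hx s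
    rw [show εe.symm (oneGerm π hx 1) = 1 from εe.symm_apply_eq.2 (by show _ = ε 1; exact (one_smul _ _).symm), one_smul]
  exact ⟨fun v v' h => (LinearMap.congr_fun hleft v).symm.trans
    ((congrArg Φ h).trans (LinearMap.congr_fun hleft v')), hsurj⟩

/-- A map of locally free quotient type is bijective on stalks where the module is free. -/
theorem bijective_stalk_of_free (π : Y ⟶ X) [IsLocallyNoetherian X] {r : ℕ} {F : X.Modules} (hF : Coh.IsCoh F)
    {E₀ : Y.Modules} (hE₀ : FlatMod.IsFinLocFreeOfRank r E₀) (p : (Scheme.Modules.pullback π).obj F ⟶ E₀) [Epi p]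
    (y : Y) (ψ : F.presheaf.stalk (π y) ≃ₗ[X.presheaf.stalk (π y)] (Fin r → X.presheaf.stalk (π y))) :
    Function.Bijective (stalkLin p y) := by
  haveI := hF.1
  obtain ⟨D, e, hxD, he⟩ := Euler.exists_frame_of_stalk_basis hF (Module.Basis.ofEquivFun ψ)
  have hp : y ∈ π ⁻¹ᵁ D := hxD
  obtain ⟨bs⟩ := Euler.stalk_basis_of_frame (DescLocus6.isFrame_pullRes π F he (le_refl (π ⁻¹ᵁ D))) hp
  obtain ⟨D', e', hyD', he'⟩ := FinCov.exists_frame_nhd_of_rank hE₀ y
  obtain ⟨b'⟩ := Euler.stalk_basis_of_frame he' hyD'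
  have hsurj := QCoh.stalkLin_surjective p y
  let L := (b'.equivFun.trans bs.equivFun.symm).toLinearMap ∘ₗ stalkLin p y
  haveI : Module.Finite (Y.presheaf.stalk y) (((Scheme.Modules.pullback π).obj F).presheaf.stalk y) :=
    Module.Finite.of_basis bs
  have hL : Function.Bijective L := OrzechProperty.bijective_of_surjective_endomorphism _
    ((b'.equivFun.trans bs.equivFun.symm).surjective.comp hsurj)
  exact ⟨fun a b h => hL.1 (show L a = L b from congrArg (b'.equivFun.trans bs.equivFun.symm) h), hsurj⟩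

theorem isFinLocFree_structure' (Y : Scheme.{u}) : FlatMod.IsFinLocFree (Coh.structureModule Y) := fun y => by
  obtain ⟨V, hy, e⟩ := Euler.isFinLocFreeOfRank_one' (X := Y) Euler.isInvertible_structure y
  exact ⟨V, 1, hy, e⟩

theorem injective_push_map_stalk (π : Y ⟶ X) {U : X.Opens} {G G' : Y.Modules} (φ : G ⟶ G')
    (hφ : ∀ y : Y, π y ∈ U → Function.Injective (stalkLin φ y)) {x : X} (hxU : x ∈ U) :
    Function.Injective (stalkLin ((Scheme.Modules.pushforward π).map φ) x) := by
  rw [injective_iff_map_eq_zero]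
  intro w hw
  obtain ⟨T, hxT, z, rfl⟩ := TopCat.Presheaf.exists_germ_eq ((Scheme.Modules.pushforward π).obj G).presheaf w
  rw [QCoh.stalkLin_germ] at hw
  obtain ⟨E, hxE, i, j, heq⟩ := TopCat.Presheaf.germ_eq ((Scheme.Modules.pushforward π).obj G').presheaf x hxT hxT
    _ 0 (hw.trans (map_zero _).symm)
  rw [← TopCat.Presheaf.germ_res_apply _ (homOfLE ((inf_le_left : E ⊓ U ≤ E).trans (leOfHom i))) x ⟨hxE, hxU⟩ z]
  suffices hz : (show Γ(G, π ⁻¹ᵁ (E ⊓ U)) from ((Scheme.Modules.pushforward π).obj G).presheaf.map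
      (homOfLE ((inf_le_left : E ⊓ U ≤ E).trans (leOfHom i))).op z) = 0 by
    exact (congrArg _ hz).trans (map_zero _)
  refine QCoh.section_eq_zero_of_germ G _ fun y hy => hφ y hy.2 ?_
  rw [map_zero, QCoh.stalkLin_germ]
  have hyT : π y ∈ T := leOfHom i hy.1
  have hyE : π y ∈ E := hy.1
  have h1 : G'.presheaf.germ (π ⁻¹ᵁ T) y hyT (φ.app (π ⁻¹ᵁ T) (show Γ(G, π ⁻¹ᵁ T) from z)) = 0 := by
    have h2 := congrArg (G'.presheaf.germ (π ⁻¹ᵁ E) y hyE) heq
    refine Eq.trans ?_ (h2.trans ((congrArg _ (map_zero _)).trans (map_zero _)))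
    exact (TopCat.Presheaf.germ_res_apply G'.presheaf (homOfLE (π.preimage_mono (leOfHom i))) y hyE _).symm
  refine Eq.trans ?_ h1
  rw [← QCoh.stalkLin_germ φ, ← QCoh.stalkLin_germ φ]
  exact congrArg _ (TopCat.Presheaf.germ_res_apply G.presheaf
    (homOfLE (π.preimage_mono ((inf_le_left : E ⊓ U ≤ E).trans (leOfHom i)))) y hy _)

variable {k : Type u} [Field k] [IsAlgClosed k] [X.Over (Spec (CommRingCat.of k))]
  [IsProper (X ↘ Spec (CommRingCat.of k))] [ConnectedSpace X] [AlgebraicGeometry.IsReduced X]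
  (hdim : topologicalKrullDim X = 1) (π : Y ⟶ X) [IsFinite π] [Smooth (π ≫ (X ↘ Spec (CommRingCat.of k)))]
  (U : X.Opens) (hU : ∀ x : X, x ∈ U ↔ ¬ Curv2.IsNode k X x) [IsIso (π ∣_ U)]
  (hUd : Dense ((π ⁻¹ᵁ U : Y.Opens) : Set Y))
  {r : ℕ} {F : X.Modules} (hF : Coh.IsCoh F) (a : X → ℕ)

include hdim hU hUd hF in
/-- The unit at a node. -/
theorem unit_node {x : X} (hxn : Curv2.IsNode k X x) (ha : a x ≤ r)
    (e : F.presheaf.stalk x ≃ₗ[X.presheaf.stalk x]
      ((Fin (a x) → X.presheaf.stalk x) × (Fin (r - a x) → IsLocalRing.maximalIdeal (X.presheaf.stalk x)))) :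
    Function.Injective (stalkLin ((Scheme.Modules.pullbackPushforwardAdjunction π).unit.app F) x) ∧
      Module.length (X.presheaf.stalk x)
        ((cokernel ((Scheme.Modules.pullbackPushforwardAdjunction π).unit.app F)).presheaf.stalk x) =
          ((2 * r - a x : ℕ) : ℕ∞) := by
  haveI := hF.1
  haveI := Euler.isNoetherian_of_proper (X := X) k
  haveI : IsLocallyNoetherian X := LocallyOfFiniteType.isLocallyNoetherian (X ↘ Spec (CommRingCat.of k))
  haveI : ((Scheme.Modules.pullback π).obj F).IsQuasicoherent := FittSheaf.isQuasicoherent_pullback π F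
  let η : F.presheaf.stalk x →ₗ[X.presheaf.stalk x] ((Scheme.Modules.pushforward π).obj ((Scheme.Modules.pullback π).obj F)).presheaf.stalk x := stalkLin ((Scheme.Modules.pullbackPushforwardAdjunction π).unit.app F) x
  obtain ⟨V, hV, hx, -⟩ := exists_isAffineOpen_mem_and_subset (x := x) (U := (⊤ : X.Opens)) trivial
  obtain ⟨b₀, hone, hspan, hind, hm⟩ := exists_node_stalk hdim π U hU hUd hxn hV hx
  obtain ⟨act, hact, hact1, hactr⟩ := exists_actions π hV hx ((Scheme.Modules.pullback π).obj F)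
  -- injectivity
  have hinj : Function.Injective η := by
    obtain ⟨W, hxW, -, -, -, -, hWU, -⟩ := NodeLattice11.exists_node_data k a hdim.le hF U hU hxn e
    obtain ⟨s, hsm, hs⟩ := NodeLattice11.exists_nzd_node k hxn
    refine (injective_iff_map_eq_zero η).2 fun v hv => ?_
    refine eq_zero_of_map_zero (F := F) hdim.le _ U (fun y hy => (bijective_unit_stalk π U F hy).1) hxn.1 hxW hWU
      s hsm hs (fun w hw => e.injective ?_) v hv
    have h := congrArg e hw
    rw [map_smul, map_zero] at h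
    rw [map_zero]
    refine Prod.ext (funext fun i => ?_) (funext fun j => Subtype.ext ?_)
    · exact (mul_right_mem_nonZeroDivisors_eq_zero_iff hs).1 (by
        rw [mul_comm]; exact congrArg (fun q => q.1 i) h)
    · exact (mul_right_mem_nonZeroDivisors_eq_zero_iff hs).1 (by
        rw [mul_comm]; exact congrArg (fun q => ((q.2 j : X.presheaf.stalk x))) h)
  refine ⟨hinj, ?_⟩
  -- the functional
  let L := Submodule.span (X.presheaf.stalk x) {oneGerm π hx 1}
  let m := IsLocalRing.maximalIdeal (X.presheaf.stalk x)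
  let ρ := L.mkQ ∘ₗ LinearMap.toSpanSingleton (X.presheaf.stalk x) _ (oneGerm π hx b₀)
  have hρ : Function.Surjective ρ := fun q => by
    obtain ⟨w, rfl⟩ := Submodule.Quotient.mk_surjective _ q
    obtain ⟨u, u', rfl⟩ := hspan w
    exact ⟨u, (Submodule.Quotient.eq _).2 (Submodule.mem_span_singleton.2 ⟨-u', by simp⟩)⟩
  have hker : LinearMap.ker ρ = m := by
    ext u
    rw [LinearMap.mem_ker]
    show (Submodule.Quotient.mk (u • oneGerm π hx b₀) : _ ⧸ L) = 0 ↔ _
    rw [Submodule.Quotient.mk_eq_zero, Submodule.mem_span_singleton]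
    exact ⟨fun ⟨u', hu'⟩ => hind u u' hu'.symm, fun hu => (hm u hu).imp fun c hc => hc.2.symm⟩
  let ε := ((LinearMap.quotKerEquivOfSurjective ρ hρ).symm.trans (Submodule.quotEquivOfEq _ _ hker)).toLinearMap ∘ₗ L.mkQ
  have hε₁ : ε (oneGerm π hx 1) = 0 := by
    show (Submodule.quotEquivOfEq _ _ hker) ((LinearMap.quotKerEquivOfSurjective ρ hρ).symm (L.mkQ (oneGerm π hx 1))) = 0
    rw [show L.mkQ (oneGerm π hx 1) = 0 from
      (Submodule.Quotient.mk_eq_zero _).2 (Submodule.mem_span_singleton_self _), map_zero, map_zero]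
  have hε₀ : ε (oneGerm π hx b₀) = Submodule.Quotient.mk 1 := by
    show (Submodule.quotEquivOfEq _ _ hker) ((LinearMap.quotKerEquivOfSurjective ρ hρ).symm (L.mkQ (oneGerm π hx b₀))) = _
    rw [show L.mkQ (oneGerm π hx b₀) = ρ 1 by simp [ρ]]
    erw [LinearMap.quotKerEquivOfSurjective_symm_apply]
    rfl
  let K := F.presheaf.stalk x ⧸ m • (⊤ : Submodule (X.presheaf.stalk x) (F.presheaf.stalk x))
  let mult : (X.presheaf.stalk x ⧸ m) →ₗ[X.presheaf.stalk x] F.presheaf.stalk x →ₗ[X.presheaf.stalk x] K :=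
    Submodule.liftQ m (LinearMap.toSpanSingleton _ _ (Submodule.mkQ _)) fun u hu => by
      rw [LinearMap.mem_ker]
      exact LinearMap.ext fun v => (Submodule.Quotient.mk_smul _ u v).symm.trans
        ((Submodule.Quotient.mk_eq_zero _).2 (Submodule.smul_mem_smul hu Submodule.mem_top))
  obtain ⟨Φ, hΦ⟩ := exists_pairing_desc π hV hx F (mult ∘ₗ ε)
  have h1 : Φ ∘ₗ η = 0 := by
    refine stalk_hom_ext hV hx fun s => ?_
    show Φ (η _) = _
    simp only [η]
    erw [QCoh.stalkLin_germ]
    have h := hΦ 1 s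
    rw [one_smul] at h
    refine h.trans ?_
    show mult (ε (oneGerm π hx 1)) _ = _
    rw [hε₁, map_zero]
  have h2 : Φ ∘ₗ act b₀ ∘ₗ η = Submodule.mkQ _ := by
    refine stalk_hom_ext hV hx fun s => ?_
    show Φ (act b₀ (η _)) = _
    simp only [η]
    erw [QCoh.stalkLin_germ]
    refine (congrArg Φ (hact b₀ _)).trans ((hΦ b₀ s).trans ?_)
    show mult (ε (oneGerm π hx b₀)) _ = _
    rw [hε₀]
    show ((1 : X.presheaf.stalk x) • Submodule.mkQ _) _ = _
    rw [one_smul]
  have hspanN : ∀ w, ∃ v₁ v₂, w = η v₁ + act b₀ (η v₂) := by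
    have hP := pullback_germ_span π hV hx F act hact (LinearMap.range η ⊔ LinearMap.range (act b₀ ∘ₗ η))
      fun b v => by
        obtain ⟨u, u', hu⟩ := hspan (oneGerm π hx b)
        rw [hactr b b₀ u u' hu]
        exact add_mem (Submodule.smul_mem _ _ (Submodule.mem_sup_right ⟨v, rfl⟩))
          (Submodule.smul_mem _ _ (Submodule.mem_sup_left ⟨v, rfl⟩))
    intro w
    obtain ⟨_, ⟨v₁, rfl⟩, _, ⟨v₂, rfl⟩, h⟩ := Submodule.mem_sup.1 (hP ▸ Submodule.mem_top : w ∈ _)
    exact ⟨v₁, v₂, h.symm⟩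
  have hmT : ∀ μ ∈ m, ∃ c ∈ m, ∀ w, μ • act b₀ w = c • w := fun μ hμ => by
    obtain ⟨c, hcm, hc⟩ := hm μ hμ
    refine ⟨c, hcm, fun w => ?_⟩
    exact smul_act π hV hx ((Scheme.Modules.pullback π).obj F) act hact hact1 b₀ μ c hc w
  obtain ⟨E⟩ := nonempty_coker_equiv η (act b₀) hspanN hmT Φ (fun v => LinearMap.congr_fun h1 v)
    (fun v => LinearMap.congr_fun h2 v)
  refine ((nonempty_cokernel_stalk_equiv _ x).some.length_eq.trans E.length_eq).trans ?_
  rw [length_quot_smul_top e (((NodeEt.isNode_iff_nodeForm (X ↘ Spec (CommRingCat.of k)) x).1 hxn).2.2.1 2)]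
  congr 1
  omega

include hdim hU hUd hF in
/-- The map to the torsion free quotient at a node. -/
theorem beta_node {x : X} (hxn : Curv2.IsNode k X x)
    (hfree : ∀ y ∈ U, Nonempty (F.presheaf.stalk y ≃ₗ[X.presheaf.stalk y] (Fin r → X.presheaf.stalk y)))
    (e : F.presheaf.stalk x ≃ₗ[X.presheaf.stalk x]
      ((Fin (a x) → X.presheaf.stalk x) × (Fin (r - a x) → IsLocalRing.maximalIdeal (X.presheaf.stalk x))))
    {E₀ : Y.Modules} (hE₀ : FlatMod.IsFinLocFreeOfRank r E₀) (p : (Scheme.Modules.pullback π).obj F ⟶ E₀) [Epi p] :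
    Function.Injective (stalkLin ((Scheme.Modules.pullbackPushforwardAdjunction π).unit.app F ≫
        (Scheme.Modules.pushforward π).map p) x) ∧
      Module.length (X.presheaf.stalk x) ((cokernel ((Scheme.Modules.pullbackPushforwardAdjunction π).unit.app F ≫
        (Scheme.Modules.pushforward π).map p)).presheaf.stalk x) = (a x : ℕ∞) := by
  haveI := hF.1
  haveI := Euler.isNoetherian_of_proper (X := X) k
  haveI : IsLocallyNoetherian X := LocallyOfFiniteType.isLocallyNoetherian (X ↘ Spec (CommRingCat.of k))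
  haveI : AlgebraicGeometry.IsReduced Y := RedSmooth.isReduced_of_smooth (π ≫ (X ↘ Spec (CommRingCat.of k)))
  have hlf : FlatMod.IsFinLocFree E₀ := fun y => by obtain ⟨V, hy, e⟩ := hE₀ y; exact ⟨V, r, hy, e⟩
  haveI : ((Scheme.Modules.pullback π).obj F).IsQuasicoherent := FittSheaf.isQuasicoherent_pullback π F
  haveI : E₀.IsQuasicoherent := Euler.isQuasicoherent_of_isFinLocFree hlf
  let β : F ⟶ (Scheme.Modules.pushforward π).obj E₀ :=
    (Scheme.Modules.pullbackPushforwardAdjunction π).unit.app F ≫ (Scheme.Modules.pushforward π).map p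
  let η : F.presheaf.stalk x →ₗ[X.presheaf.stalk x]
    ((Scheme.Modules.pushforward π).obj ((Scheme.Modules.pullback π).obj F)).presheaf.stalk x :=
      stalkLin ((Scheme.Modules.pullbackPushforwardAdjunction π).unit.app F) x
  let p' := stalkLin ((Scheme.Modules.pushforward π).map p) x
  let η' : F.presheaf.stalk x →ₗ[X.presheaf.stalk x]
    ((Scheme.Modules.pushforward π).obj E₀).presheaf.stalk x := stalkLin β x
  have hcomp : ∀ v, η' v = p' (η v) := fun v => QCoh.stalkLin_comp _ _ x v
  obtain ⟨V, hV, hx, -⟩ := exists_isAffineOpen_mem_and_subset (x := x) (U := (⊤ : X.Opens)) trivial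
  obtain ⟨b₀, hone, hspan, hind, hm⟩ := exists_node_stalk hdim π U hU hUd hxn hV hx
  obtain ⟨act, hact, hact1, hactr⟩ := exists_actions π hV hx ((Scheme.Modules.pullback π).obj F)
  obtain ⟨act', hact', hact1', -⟩ := exists_actions π hV hx E₀
  have hnat := act_natural π hV hx p b₀ (act b₀) (hact b₀) (act' b₀) (hact' b₀)
  obtain ⟨s, hsm, hs⟩ := NodeLattice11.exists_nzd_node k hxn
  have hinj : Function.Injective η' := by
    obtain ⟨W, hxW, -, -, -, -, hWU, -⟩ := NodeLattice11.exists_node_data k a hdim.le hF U hU hxn e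
    refine (injective_iff_map_eq_zero η').2 fun v hv => ?_
    refine eq_zero_of_map_zero (F := F) hdim.le β U (fun y hy => ?_) hxn.1 hxW hWU
      s hsm hs (fun w hw => e.injective ?_) v hv
    · intro v v' h
      have h' := ((QCoh.stalkLin_comp ((Scheme.Modules.pullbackPushforwardAdjunction π).unit.app F)
        ((Scheme.Modules.pushforward π).map p) y v).symm.trans h).trans
        (QCoh.stalkLin_comp ((Scheme.Modules.pullbackPushforwardAdjunction π).unit.app F)
          ((Scheme.Modules.pushforward π).map p) y v')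
      refine (bijective_unit_stalk π U F hy).1 (injective_push_map_stalk π p (fun z hz => ?_) hy h')
      exact (bijective_stalk_of_free π hF hE₀ p z (hfree _ hz).some).1
    · have h := congrArg e hw
      rw [map_smul, map_zero] at h
      rw [map_zero]
      refine Prod.ext (funext fun i => ?_) (funext fun j => Subtype.ext ?_)
      · exact (mul_right_mem_nonZeroDivisors_eq_zero_iff hs).1 (by
          rw [mul_comm]; exact congrArg (fun q => q.1 i) h)
      · exact (mul_right_mem_nonZeroDivisors_eq_zero_iff hs).1 (by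
          rw [mul_comm]; exact congrArg (fun q => ((q.2 j : X.presheaf.stalk x))) h)
  refine ⟨hinj, ?_⟩
  have hspanN : ∀ w, ∃ v₁ v₂, w = η' v₁ + act' b₀ (η' v₂) := by
    have hP := pullback_germ_span π hV hx F act hact (LinearMap.range η ⊔ LinearMap.range (act b₀ ∘ₗ η))
      fun b v => by
        obtain ⟨u, u', hu⟩ := hspan (oneGerm π hx b)
        rw [hactr b b₀ u u' hu]
        exact add_mem (Submodule.smul_mem _ _ (Submodule.mem_sup_right ⟨v, rfl⟩))
          (Submodule.smul_mem _ _ (Submodule.mem_sup_left ⟨v, rfl⟩))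
    intro w
    obtain ⟨z, rfl⟩ := push_map_stalk_surjective π hV hx p w
    obtain ⟨_, ⟨v₁, rfl⟩, _, ⟨v₂, rfl⟩, h⟩ := Submodule.mem_sup.1 (hP ▸ Submodule.mem_top : z ∈ _)
    refine ⟨v₁, v₂, ?_⟩
    rw [← h, map_add, hcomp, hcomp]
    exact congrArg (_ + ·) (hnat _)
  have hmT : ∀ μ ∈ IsLocalRing.maximalIdeal (X.presheaf.stalk x),
      ∃ c ∈ IsLocalRing.maximalIdeal (X.presheaf.stalk x), ∀ w, μ • act' b₀ w = c • w := fun μ hμ => by
    obtain ⟨c, hcm, hc⟩ := hm μ hμ
    exact ⟨c, hcm, fun w => smul_act π hV hx E₀ act' hact' hact1' b₀ μ c hc w⟩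
  obtain ⟨r₁, -, hr₁⟩ := hm s hsm
  have hY : ∀ w : ((Scheme.Modules.pushforward π).obj (Coh.structureModule Y)).presheaf.stalk x,
      s • w = 0 → w = 0 := smul_injective_push π U hU hUd hxn (isFinLocFree_structure' Y) hdim.le s hs
  refine (nonempty_cokernel_stalk_equiv β x).some.length_eq.trans
    (length_coker_torsionFree η' (act' b₀) hspanN hmT hinj s r₁
      (smul_injective_push π U hU hUd hxn hlf hdim.le s hs)
      (fun w => smul_act π hV hx E₀ act' hact' hact1' b₀ s r₁ hr₁ w) (fun t t' h => ?_) (fun μ hμ => ?_) e)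
  · refine hind t t' (sub_eq_zero.1 (hY _ ?_))
    rw [smul_sub, smul_comm s t, hr₁, smul_smul, smul_smul, mul_comm t, h, sub_self]
  · obtain ⟨c, hcm, hc⟩ := hm μ hμ
    refine ⟨c, hcm, sub_eq_zero.1 (hone _ ?_)⟩
    rw [sub_smul, mul_comm, ← smul_smul μ r₁, ← hr₁, ← smul_smul s c, ← hc, smul_comm μ s, sub_self]

include hF in
/-- Off the nodes the map to the torsion free quotient is bijective. -/
theorem beta_off [IsLocallyNoetherian X] {x : X} (hxU : x ∈ U)
    (hfree : ∀ y ∈ U, Nonempty (F.presheaf.stalk y ≃ₗ[X.presheaf.stalk y] (Fin r → X.presheaf.stalk y)))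
    {E₀ : Y.Modules} (hE₀ : FlatMod.IsFinLocFreeOfRank r E₀) (p : (Scheme.Modules.pullback π).obj F ⟶ E₀) [Epi p] :
    Function.Bijective (stalkLin ((Scheme.Modules.pullbackPushforwardAdjunction π).unit.app F ≫
        (Scheme.Modules.pushforward π).map p) x) := by
  haveI := hF.1
  have hlf : FlatMod.IsFinLocFree E₀ := fun y => by obtain ⟨V, hy, e⟩ := hE₀ y; exact ⟨V, r, hy, e⟩
  haveI : ((Scheme.Modules.pullback π).obj F).IsQuasicoherent := FittSheaf.isQuasicoherent_pullback π F
  haveI : E₀.IsQuasicoherent := Euler.isQuasicoherent_of_isFinLocFree hlf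
  obtain ⟨V, hV, hx, -⟩ := exists_isAffineOpen_mem_and_subset (x := x) (U := U) hxU
  have h2 : Function.Bijective (stalkLin ((Scheme.Modules.pushforward π).map p) x) :=
    ⟨injective_push_map_stalk π p (fun z hz => (bijective_stalk_of_free π hF hE₀ p z (hfree _ hz).some).1) hxU,
      push_map_stalk_surjective π hV hx p⟩
  convert h2.comp (bijective_unit_stalk π U F hxU) using 1
  exact funext fun v => QCoh.stalkLin_comp _ _ x v

theorem subsingleton_cokernel_stalk {M N : X.Modules} (φ : M ⟶ N) (x : X)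
    (h : Function.Surjective (stalkLin φ x)) : Subsingleton ((cokernel φ).presheaf.stalk x) := by
  obtain ⟨E⟩ := nonempty_cokernel_stalk_equiv φ x
  haveI : Subsingleton (N.presheaf.stalk x ⧸ LinearMap.range (stalkLin φ x)) :=
    Submodule.Quotient.subsingleton_iff.2 (LinearMap.range_eq_top.2 h)
  exact E.toEquiv.subsingleton

end GrothLib.NodePush11
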