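import Groth.Agent.Lib.TFCurv11.NodePushAlg
import Groth.Agent.Lib.QCoh.PullbackSections
import Groth.Agent.Lib.QCoh.Extension
import Groth.Agent.Lib.Euler.Coh
import Groth.Agent.Lib.TFCurv11.NormPush
import Groth.Prelude.Def_ClSub2

/-!
# Stalks of direct images along affine maps as modules over sections of the source
-/

set_option autoImplicit false
set_option linter.all false
set_option backward.isDefEq.respectTransparency false

universe u

open CategoryTheory CategoryTheory.Limits Opposite AlgebraicGeometry TopologicalSpace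
open GrothLib.QCoh (stalkLin)

noncomputable section

namespace GrothLib.NodePush11

variable {X Y : Scheme.{u}}

/-- Linear maps out of a stalk are given on the sections over an affine neighbourhood. -/
theorem stalk_hom_ext {H : X.Modules} [H.IsQuasicoherent] {V : X.Opens} (hV : IsAffineOpen V) {x : X}
    (hx : x ∈ V) {K : Type u} [AddCommGroup K] [Module (X.presheaf.stalk x) K]
    {φ ψ : H.presheaf.stalk x →ₗ[X.presheaf.stalk x] K}
    (h : ∀ z : Γ(H, V), φ (H.presheaf.germ V x hx z) = ψ (H.presheaf.germ V x hx z)) : φ = ψ := by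
  refine LinearMap.ext fun w => ?_
  obtain ⟨c, z, hc, hz⟩ := WeakAss.exists_smul_eq_germ hV hx w
  have hu : IsUnit (X.presheaf.germ V x hx c) :=
    (Scheme.mem_basicOpen _ c x hx).mp (WeakAss.notMem_primeAt_iff.mp hc)
  exact hu.smul_left_cancel.1 (by rw [← map_smul, ← map_smul, hz, h])

theorem exists_stalk_desc {H : X.Modules} [H.IsQuasicoherent] {V : X.Opens} (hV : IsAffineOpen V) {x : X}
    (hx : x ∈ V) {K : Type u} [AddCommGroup K] [Module (X.presheaf.stalk x) K]
    (φ : Γ(H, V) →+ K) (hφ : ∀ (a : Γ(X, V)) (z : Γ(H, V)), φ (a • z) = X.presheaf.germ V x hx a • φ z) :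
    ∃ Φ : H.presheaf.stalk x →ₗ[X.presheaf.stalk x] K, ∀ z, Φ (H.presheaf.germ V x hx z) = φ z := by
  letI := X.presheaf.algebra_section_stalk ⟨x, hx⟩
  haveI := FlatFP.isLocalization_stalk_primeAt hV hx
  letI : Module Γ(X, V) (H.presheaf.stalk x) := Module.compHom _ (X.presheaf.germ V x hx).hom
  letI : Module Γ(X, V) K := Module.compHom _ (X.presheaf.germ V x hx).hom
  obtain ⟨g, hg, hg'⟩ := FlatFP.isLocalizedModule_germ H hV hx
  haveI := hg
  let φ' : Γ(H, V) →ₗ[Γ(X, V)] K := { φ with map_smul' := hφ }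
  have hu : ∀ t : (WeakAss.primeAt x hx).primeCompl, IsUnit (X.presheaf.germ V x hx (t : Γ(X, V))) := fun t =>
    IsLocalization.map_units (X.presheaf.stalk x) t
  have hunit : ∀ t : (WeakAss.primeAt x hx).primeCompl, IsUnit (algebraMap Γ(X, V) (Module.End Γ(X, V) K) t) :=
    fun t => (Module.End.isUnit_iff _).2 ⟨fun p q h => (hu t).smul_left_cancel.1
        (show X.presheaf.germ V x hx (t : Γ(X, V)) • p = X.presheaf.germ V x hx (t : Γ(X, V)) • q from h),
      fun p => ⟨(↑(hu t).unit⁻¹ : X.presheaf.stalk x) • p, by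
        show X.presheaf.germ V x hx (t : Γ(X, V)) • ((↑(hu t).unit⁻¹ : X.presheaf.stalk x) • p) = p
        rw [smul_smul, IsUnit.mul_val_inv, one_smul]⟩⟩
  let L := IsLocalizedModule.lift (WeakAss.primeAt x hx).primeCompl g φ' hunit
  have hL : ∀ z, L (H.presheaf.germ V x hx z) = φ z := fun z => by
    rw [← hg' z]; exact IsLocalizedModule.lift_apply _ g φ' hunit z
  have hA : ∀ (a : Γ(X, V)) w, L (X.presheaf.germ V x hx a • w) = X.presheaf.germ V x hx a • L w :=
    fun a w => L.map_smul a w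
  refine ⟨⟨L.toAddHom, fun r w => ?_⟩, hL⟩
  obtain ⟨⟨a, t⟩, ha⟩ := IsLocalization.surj (WeakAss.primeAt x hx).primeCompl r
  have ha' : X.presheaf.germ V x hx (t : Γ(X, V)) * r = X.presheaf.germ V x hx a := by rw [mul_comm]; exact ha
  refine (hu t).smul_left_cancel.1 ?_
  show X.presheaf.germ V x hx (t : Γ(X, V)) • L (r • w) = X.presheaf.germ V x hx (t : Γ(X, V)) • (r • L w)
  rw [← hA, smul_smul, smul_smul, ha', hA]

variable (π : Y ⟶ X) [IsAffineHom π] {V : X.Opens} {x : X}


/-- The germ of a section of the source in the stalk of the direct image of the structure sheaf. -/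
def oneGerm (π : Y ⟶ X) {V : X.Opens} {x : X} (hx : x ∈ V) (b : Γ(Y, π ⁻¹ᵁ V)) :
    ((Scheme.Modules.pushforward π).obj (Coh.structureModule Y)).presheaf.stalk x :=
  ((Scheme.Modules.pushforward π).obj (Coh.structureModule Y)).presheaf.germ V x hx b

theorem exists_actions (hV : IsAffineOpen V) (hx : x ∈ V) (G : Y.Modules) [G.IsQuasicoherent] :
    ∃ act : Γ(Y, π ⁻¹ᵁ V) → (((Scheme.Modules.pushforward π).obj G).presheaf.stalk x →ₗ[X.presheaf.stalk x]
        ((Scheme.Modules.pushforward π).obj G).presheaf.stalk x),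
      (∀ b (z : Γ(G, π ⁻¹ᵁ V)), act b (((Scheme.Modules.pushforward π).obj G).presheaf.germ V x hx z) =
        ((Scheme.Modules.pushforward π).obj G).presheaf.germ V x hx (b • z : Γ(G, π ⁻¹ᵁ V))) ∧
      (∀ w, act 1 w = w) ∧
      (∀ b b' (r r' : X.presheaf.stalk x), oneGerm π hx b = r • oneGerm π hx b' + r' • oneGerm π hx 1 →
        ∀ w, act b w = r • act b' w + r' • w) := by
  haveI : ((Scheme.Modules.pushforward π).obj G).IsQuasicoherent := QCoh.isQuasicoherent_pushforward π G
  haveI : (Coh.structureModule Y).IsQuasicoherent :=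
    InvExt.isQuasicoherent_of_isInvertible Euler.isInvertible_structure
  haveI : ((Scheme.Modules.pushforward π).obj (Coh.structureModule Y)).IsQuasicoherent :=
    QCoh.isQuasicoherent_pushforward π _
  let g : Γ(G, π ⁻¹ᵁ V) →+ ((Scheme.Modules.pushforward π).obj G).presheaf.stalk x :=
    { toFun := fun z => ((Scheme.Modules.pushforward π).obj G).presheaf.germ V x hx z
      map_zero' := map_zero _
      map_add' := fun p q => map_add _ p q }
  have hgs : ∀ (a : Γ(X, V)) (z : Γ(G, π ⁻¹ᵁ V)), g (π.app V a • z) = X.presheaf.germ V x hx a • g z :=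
    fun a z => WeakAss.germ_smul (F := (Scheme.Modules.pushforward π).obj G) hx a z
  let φb : Γ(Y, π ⁻¹ᵁ V) → Γ(G, π ⁻¹ᵁ V) →+ ((Scheme.Modules.pushforward π).obj G).presheaf.stalk x := fun b =>
    AddMonoidHom.mk' (fun z : Γ(G, π ⁻¹ᵁ V) => g (b • z)) fun p q => by rw [smul_add, map_add]
  choose act hact using fun b : Γ(Y, π ⁻¹ᵁ V) => exists_stalk_desc
    (H := (Scheme.Modules.pushforward π).obj G) hV hx (φb b)
    fun a z => by
      show g (b • (π.app V a • (show Γ(G, π ⁻¹ᵁ V) from z))) = _ • g (b • (show Γ(G, π ⁻¹ᵁ V) from z))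
      rw [smul_comm, hgs]
  have hact' : ∀ b (z : Γ(G, π ⁻¹ᵁ V)), act b (g z) = g (b • z) := hact
  refine ⟨act, hact', fun w => ?_, fun b b' r r' hb w => ?_⟩
  · refine LinearMap.congr_fun (stalk_hom_ext hV hx (ψ := LinearMap.id) fun z => ?_) w
    show act 1 (g z) = g z
    rw [hact', one_smul]
  · refine LinearMap.congr_fun (stalk_hom_ext hV hx (φ := act b)
      (ψ := r • act b' + r' • LinearMap.id) fun z => ?_) w
    let φz : Γ(Y, π ⁻¹ᵁ V) →+ ((Scheme.Modules.pushforward π).obj G).presheaf.stalk x :=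
      AddMonoidHom.mk' (fun c : Γ(Y, π ⁻¹ᵁ V) => g (c • (show Γ(G, π ⁻¹ᵁ V) from z))) fun p q => by rw [add_smul, map_add]
    obtain ⟨κ, hκ⟩ := exists_stalk_desc (H := (Scheme.Modules.pushforward π).obj (Coh.structureModule Y)) hV hx φz
      fun a c => by
        show g ((π.app V a * (show Γ(Y, π ⁻¹ᵁ V) from c)) • (show Γ(G, π ⁻¹ᵁ V) from z)) =
          _ • g ((show Γ(Y, π ⁻¹ᵁ V) from c) • (show Γ(G, π ⁻¹ᵁ V) from z))
        rw [mul_smul, hgs]
    have hκ' : ∀ c, κ (oneGerm π hx c) = g (c • (show Γ(G, π ⁻¹ᵁ V) from z)) := hκ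
    show act b (g z) = r • act b' (g z) + r' • g z
    rw [hact', hact', ← hκ', hb, map_add, map_smul, map_smul, hκ', hκ', one_smul]

/-- A scalar relation in the stalk of the structure sheaf gives one between the actions. -/
theorem smul_act (hV : IsAffineOpen V) (hx : x ∈ V) (G : Y.Modules) [G.IsQuasicoherent]
    (act : Γ(Y, π ⁻¹ᵁ V) → (((Scheme.Modules.pushforward π).obj G).presheaf.stalk x →ₗ[X.presheaf.stalk x]
        ((Scheme.Modules.pushforward π).obj G).presheaf.stalk x))
    (hact : ∀ b (z : Γ(G, π ⁻¹ᵁ V)), act b (((Scheme.Modules.pushforward π).obj G).presheaf.germ V x hx z) =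
        ((Scheme.Modules.pushforward π).obj G).presheaf.germ V x hx (b • z : Γ(G, π ⁻¹ᵁ V)))
    (hact1 : ∀ w, act 1 w = w)
    (b : Γ(Y, π ⁻¹ᵁ V)) (μ c : X.presheaf.stalk x) (h : μ • oneGerm π hx b = c • oneGerm π hx 1)
    (w : ((Scheme.Modules.pushforward π).obj G).presheaf.stalk x) : μ • act b w = c • w := by
  haveI : ((Scheme.Modules.pushforward π).obj G).IsQuasicoherent := QCoh.isQuasicoherent_pushforward π G
  haveI : (Coh.structureModule Y).IsQuasicoherent :=
    InvExt.isQuasicoherent_of_isInvertible Euler.isInvertible_structure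
  haveI : ((Scheme.Modules.pushforward π).obj (Coh.structureModule Y)).IsQuasicoherent :=
    QCoh.isQuasicoherent_pushforward π _
  refine LinearMap.congr_fun (stalk_hom_ext hV hx (φ := μ • act b) (ψ := c • LinearMap.id) fun z => ?_) w
  let φz : Γ(Y, π ⁻¹ᵁ V) →+ ((Scheme.Modules.pushforward π).obj G).presheaf.stalk x :=
    AddMonoidHom.mk' (fun d : Γ(Y, π ⁻¹ᵁ V) => act d (((Scheme.Modules.pushforward π).obj G).presheaf.germ V x hx z))
      fun p q => by
        rw [hact, hact, hact, add_smul]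
        exact map_add (((Scheme.Modules.pushforward π).obj G).presheaf.germ V x hx).hom _ _
  obtain ⟨κ, hκ⟩ := exists_stalk_desc (H := (Scheme.Modules.pushforward π).obj (Coh.structureModule Y)) hV hx φz
    fun a d => by
      show act (π.app V a * (show Γ(Y, π ⁻¹ᵁ V) from d)) _ = _ • act (show Γ(Y, π ⁻¹ᵁ V) from d) _
      rw [hact, hact, mul_smul]
      exact WeakAss.germ_smul (F := (Scheme.Modules.pushforward π).obj G) hx a _
  have hκ' : ∀ d, κ (oneGerm π hx d) = φz d := hκ
  have h' := congrArg κ h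
  rw [map_smul, map_smul, hκ', hκ'] at h'
  exact h'.trans (congrArg (c • ·) (hact1 _))

/-- Functoriality of the action. -/
theorem act_natural (hV : IsAffineOpen V) (hx : x ∈ V) {G G' : Y.Modules} [G.IsQuasicoherent]
    (φ : G ⟶ G') (b : Γ(Y, π ⁻¹ᵁ V))
    (T : ((Scheme.Modules.pushforward π).obj G).presheaf.stalk x →ₗ[X.presheaf.stalk x]
      ((Scheme.Modules.pushforward π).obj G).presheaf.stalk x)
    (hT : ∀ z : Γ(G, π ⁻¹ᵁ V), T (((Scheme.Modules.pushforward π).obj G).presheaf.germ V x hx z) =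
      ((Scheme.Modules.pushforward π).obj G).presheaf.germ V x hx (b • z : Γ(G, π ⁻¹ᵁ V)))
    (T' : ((Scheme.Modules.pushforward π).obj G').presheaf.stalk x →ₗ[X.presheaf.stalk x]
      ((Scheme.Modules.pushforward π).obj G').presheaf.stalk x)
    (hT' : ∀ z : Γ(G', π ⁻¹ᵁ V), T' (((Scheme.Modules.pushforward π).obj G').presheaf.germ V x hx z) =
      ((Scheme.Modules.pushforward π).obj G').presheaf.germ V x hx (b • z : Γ(G', π ⁻¹ᵁ V))) :
    ∀ w, stalkLin ((Scheme.Modules.pushforward π).map φ) x (T w) =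
      T' (stalkLin ((Scheme.Modules.pushforward π).map φ) x w) := by
  haveI : ((Scheme.Modules.pushforward π).obj G).IsQuasicoherent := QCoh.isQuasicoherent_pushforward π G
  refine LinearMap.congr_fun (stalk_hom_ext hV hx (φ := stalkLin ((Scheme.Modules.pushforward π).map φ) x ∘ₗ T)
    (ψ := T' ∘ₗ stalkLin ((Scheme.Modules.pushforward π).map φ) x) fun z => ?_)
  show stalkLin _ x (T _) = T' (stalkLin _ x _)
  rw [hT, QCoh.stalkLin_germ, QCoh.stalkLin_germ]
  refine Eq.trans (congrArg _ ?_) (hT' _).symm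
  exact Scheme.Modules.Hom.app_smul φ b (show Γ(G, π ⁻¹ᵁ V) from z)

/-- The sections of the inverse image, over the source, are generated by inverse images of sections. -/
theorem pullback_germ_span (hV : IsAffineOpen V) (hx : x ∈ V) (F : X.Modules) [F.IsQuasicoherent]
    (act : Γ(Y, π ⁻¹ᵁ V) → (((Scheme.Modules.pushforward π).obj ((Scheme.Modules.pullback π).obj F)).presheaf.stalk x
      →ₗ[X.presheaf.stalk x] ((Scheme.Modules.pushforward π).obj ((Scheme.Modules.pullback π).obj F)).presheaf.stalk x))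
    (hact : ∀ b (z : Γ((Scheme.Modules.pullback π).obj F, π ⁻¹ᵁ V)),
      act b (((Scheme.Modules.pushforward π).obj ((Scheme.Modules.pullback π).obj F)).presheaf.germ V x hx z) =
        ((Scheme.Modules.pushforward π).obj ((Scheme.Modules.pullback π).obj F)).presheaf.germ V x hx
          (b • z : Γ((Scheme.Modules.pullback π).obj F, π ⁻¹ᵁ V)))
    (P : Submodule (X.presheaf.stalk x)
      (((Scheme.Modules.pushforward π).obj ((Scheme.Modules.pullback π).obj F)).presheaf.stalk x))
    (hP : ∀ b v, act b (stalkLin ((Scheme.Modules.pullbackPushforwardAdjunction π).unit.app F) x v) ∈ P) :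
    P = ⊤ := by
  haveI : ((Scheme.Modules.pullback π).obj F).IsQuasicoherent := FittSheaf.isQuasicoherent_pullback π F
  haveI : ((Scheme.Modules.pushforward π).obj ((Scheme.Modules.pullback π).obj F)).IsQuasicoherent :=
    QCoh.isQuasicoherent_pushforward π _
  letI : Algebra Γ(X, V) Γ(Y, π ⁻¹ᵁ V) := (π.app V).hom.toAlgebra
  have halg : algebraMap Γ(X, V) Γ(Y, π ⁻¹ᵁ V) = (π.appLE V (π ⁻¹ᵁ V) le_rfl).hom :=
    congrArg (fun g : Γ(X, V) ⟶ Γ(Y, π ⁻¹ᵁ V) => g.hom) π.app_eq_appLE
  have hb := QCoh.bijective_sectionsMap π F (le_rfl : π ⁻¹ᵁ V ≤ π ⁻¹ᵁ V) halg hV (hV.preimage π)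
  have key : ∀ z : Γ((Scheme.Modules.pullback π).obj F, π ⁻¹ᵁ V),
      ((Scheme.Modules.pushforward π).obj ((Scheme.Modules.pullback π).obj F)).presheaf.germ V x hx z ∈ P := by
    intro z
    obtain ⟨t, rfl⟩ := hb.2 z
    induction t using TensorProduct.induction_on with
    | zero => rw [map_zero]; exact (map_zero (((Scheme.Modules.pushforward π).obj
        ((Scheme.Modules.pullback π).obj F)).presheaf.germ V x hx).hom).symm ▸ zero_mem P
    | add p q hp hq =>
      rw [map_add]
      exact (map_add (((Scheme.Modules.pushforward π).obj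
        ((Scheme.Modules.pullback π).obj F)).presheaf.germ V x hx).hom _ _).symm ▸ add_mem hp hq
    | tmul b s =>
      rw [QCoh.sectionsMap_tmul, ← hact]
      convert hP b (F.presheaf.germ V x hx s) using 2
      refine Eq.trans ?_ (QCoh.stalkLin_germ _ hx s).symm
      exact congrArg _ (Cohom.map_self_apply ((Scheme.Modules.pullback π).obj F) _ _)
  refine eq_top_iff.2 fun w _ => ?_
  obtain ⟨c, z, hc, hz⟩ := WeakAss.exists_smul_eq_germ hV hx w
  have hu : IsUnit (X.presheaf.germ V x hx c) :=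
    (Scheme.mem_basicOpen _ c x hx).mp (WeakAss.notMem_primeAt_iff.mp hc)
  exact (Submodule.smul_mem_iff_of_isUnit P hu).1 (hz ▸ key z)

/-- Pairings with the stalk of the direct image of the structure sheaf give functionals. -/
theorem exists_pairing_desc (hV : IsAffineOpen V) (hx : x ∈ V) (F : X.Modules) [F.IsQuasicoherent]
    {K : Type u} [AddCommGroup K] [Module (X.presheaf.stalk x) K]
    (p : ((Scheme.Modules.pushforward π).obj (Coh.structureModule Y)).presheaf.stalk x →ₗ[X.presheaf.stalk x]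
      F.presheaf.stalk x →ₗ[X.presheaf.stalk x] K) :
    ∃ Φ : ((Scheme.Modules.pushforward π).obj ((Scheme.Modules.pullback π).obj F)).presheaf.stalk x
        →ₗ[X.presheaf.stalk x] K,
      ∀ (b : Γ(Y, π ⁻¹ᵁ V)) (s : Γ(F, V)),
        Φ (((Scheme.Modules.pushforward π).obj ((Scheme.Modules.pullback π).obj F)).presheaf.germ V x hx
          (b • (show Γ((Scheme.Modules.pullback π).obj F, π ⁻¹ᵁ V) from
            ((Scheme.Modules.pullbackPushforwardAdjunction π).unit.app F).app V s))) =
          p (oneGerm π hx b) (F.presheaf.germ V x hx s) := by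
  haveI : ((Scheme.Modules.pullback π).obj F).IsQuasicoherent := FittSheaf.isQuasicoherent_pullback π F
  haveI : ((Scheme.Modules.pushforward π).obj ((Scheme.Modules.pullback π).obj F)).IsQuasicoherent :=
    QCoh.isQuasicoherent_pushforward π _
  letI : Algebra Γ(X, V) Γ(Y, π ⁻¹ᵁ V) := (π.app V).hom.toAlgebra
  have halg : algebraMap Γ(X, V) Γ(Y, π ⁻¹ᵁ V) = (π.appLE V (π ⁻¹ᵁ V) le_rfl).hom :=
    congrArg (fun g : Γ(X, V) ⟶ Γ(Y, π ⁻¹ᵁ V) => g.hom) π.app_eq_appLE
  let σ := LinearEquiv.ofBijective _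
    (QCoh.bijective_sectionsMap π F (le_rfl : π ⁻¹ᵁ V ≤ π ⁻¹ᵁ V) halg hV (hV.preimage π))
  let θ : TensorProduct Γ(X, V) Γ(Y, π ⁻¹ᵁ V) Γ(F, V) →+ K := TensorProduct.liftAddHom
    (AddMonoidHom.mk' (fun b : Γ(Y, π ⁻¹ᵁ V) => AddMonoidHom.mk'
        (fun s : Γ(F, V) => p (oneGerm π hx b) (F.presheaf.germ V x hx s)) fun _ _ => by rw [map_add, map_add])
      fun b b' => AddMonoidHom.ext fun s => by
        show p (oneGerm π hx (b + b')) _ = p (oneGerm π hx b) _ + p (oneGerm π hx b') _
        rw [show oneGerm π hx (b + b') = oneGerm π hx b + oneGerm π hx b' from map_add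
          (((Scheme.Modules.pushforward π).obj (Coh.structureModule Y)).presheaf.germ V x hx).hom b b',
          map_add, LinearMap.add_apply])
    fun a b s => by
      show p (oneGerm π hx (π.app V a * b)) (F.presheaf.germ V x hx s) =
        p (oneGerm π hx b) (F.presheaf.germ V x hx (a • s))
      rw [show oneGerm π hx (π.app V a * b) = X.presheaf.germ V x hx a • oneGerm π hx b from
        WeakAss.germ_smul (F := (Scheme.Modules.pushforward π).obj (Coh.structureModule Y)) hx a b,
        WeakAss.germ_smul, map_smul, map_smul, LinearMap.smul_apply]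
  obtain ⟨Φ, hΦ⟩ := exists_stalk_desc
    (H := (Scheme.Modules.pushforward π).obj ((Scheme.Modules.pullback π).obj F)) hV hx (K := K)
    (θ.comp σ.symm.toAddMonoidHom) fun a z => by
      show θ (σ.symm (π.app V a • (show Γ((Scheme.Modules.pullback π).obj F, π ⁻¹ᵁ V) from z))) =
        _ • θ (σ.symm (show Γ((Scheme.Modules.pullback π).obj F, π ⁻¹ᵁ V) from z))
      rw [map_smul]
      induction σ.symm (show Γ((Scheme.Modules.pullback π).obj F, π ⁻¹ᵁ V) from z) using TensorProduct.induction_on with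
      | zero => rw [smul_zero, map_zero, smul_zero]
      | add _ _ h h' => rw [smul_add, map_add, map_add, h, h', smul_add]
      | tmul b s =>
        show θ ((π.app V a * b) ⊗ₜ s) = _ • θ (b ⊗ₜ s)
        simp only [θ, TensorProduct.liftAddHom_tmul, AddMonoidHom.mk'_apply]
        rw [show oneGerm π hx (π.app V a * b) = X.presheaf.germ V x hx a • oneGerm π hx b from
          WeakAss.germ_smul (F := (Scheme.Modules.pushforward π).obj (Coh.structureModule Y)) hx a b,
          map_smul, LinearMap.smul_apply]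
  refine ⟨Φ, fun b s => ?_⟩
  refine (hΦ _).trans ?_
  show θ (σ.symm (b • _)) = _
  have hσ : σ (b ⊗ₜ s) = b • (show Γ((Scheme.Modules.pullback π).obj F, π ⁻¹ᵁ V) from
      ((Scheme.Modules.pullbackPushforwardAdjunction π).unit.app F).app V s) := by
    show QCoh.sectionsMap π F _ halg _ = _
    rw [QCoh.sectionsMap_tmul]
    exact congrArg (b • ·) (Cohom.map_self_apply ((Scheme.Modules.pullback π).obj F) _ _)
  rw [← hσ, σ.symm_apply_apply]
  rfl

theorem push_map_stalk_surjective (hV : IsAffineOpen V) (hx : x ∈ V) {G G' : Y.Modules} [G.IsQuasicoherent]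
    [G'.IsQuasicoherent] (φ : G ⟶ G') [Epi φ] :
    Function.Surjective (stalkLin ((Scheme.Modules.pushforward π).map φ) x) := by
  haveI : ((Scheme.Modules.pushforward π).obj G').IsQuasicoherent := QCoh.isQuasicoherent_pushforward π G'
  intro w
  obtain ⟨c, z, hc, hz⟩ := WeakAss.exists_smul_eq_germ hV hx w
  have hu : IsUnit (X.presheaf.germ V x hx c) :=
    (Scheme.mem_basicOpen _ c x hx).mp (WeakAss.notMem_primeAt_iff.mp hc)
  have hS : (ShortComplex.mk (kernel.ι φ) φ (kernel.condition φ)).ShortExact :=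
    { exact := ShortComplex.exact_kernel φ }
  haveI : (kernel φ).IsQuasicoherent := QCoh.isQuasicoherent_kernel φ
  obtain ⟨z', hz'⟩ := QCoh.app_surjective_of_isAffineOpen hS (hV.preimage π) (show Γ(G', π ⁻¹ᵁ V) from z)
  refine ⟨(↑hu.unit⁻¹ : X.presheaf.stalk x) •
    ((Scheme.Modules.pushforward π).obj G).presheaf.germ V x hx z', ?_⟩
  rw [map_smul, QCoh.stalkLin_germ]
  refine hu.smul_left_cancel.1 ?_
  rw [smul_smul, IsUnit.mul_val_inv, one_smul, hz]
  exact congrArg _ hz'

end GrothLib.NodePush11
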