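import Groth.Agent.Lib.TFCurv11.NormPush
import Groth.Agent.Lib.InvExt.FiniteFibre
import Groth.Agent.Lib.CurveMult.TwistHom
import Groth.Agent.Lib.Algz56.Sheaves

/-!
# Invertible modules on the normalization come from the curve
-/

set_option autoImplicit false
set_option linter.all false
set_option backward.isDefEq.respectTransparency false

universe u

open CategoryTheory CategoryTheory.Limits Opposite AlgebraicGeometry TopologicalSpace
open GrothLib.QCoh (stalkLin rr)
open GrothLib.SubGerm11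
open GrothLib.InvExt (mres IsGen)

noncomputable section

namespace GrothLib.NormPush11

section Generic

variable {X Y : Scheme.{u}} (π : Y ⟶ X) [IsFinite π]

theorem exists_gen_over_nhd {N : Y.Modules} (hN : PicF.IsInvertible N) (y : X) :
    ∃ (V : X.Opens) (z : Γ(N, π ⁻¹ᵁ V)), y ∈ V ∧ IsGen N (π ⁻¹ᵁ V) z := by
  obtain ⟨U, hU, hyU, -⟩ := exists_isAffineOpen_mem_and_subset (U := (⊤ : X.Opens)) (x := y) trivial
  have hanti : ∀ a ∈ π ⁻¹' {y}, ∀ b ∈ π ⁻¹' {y}, a ⤳ b → a = b := fun a ha b hb h =>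
    Japanese.eq_of_specializes_of_isIntegralHom π h ((ha : π a = y).trans (hb : π b = y).symm)
  obtain ⟨W, s, hSW, hs⟩ := InvExt.exists_gen_nhd_of_finite hN (hU.preimage π) (π ⁻¹' {y})
    (π.finite_preimage_singleton y) (fun a ha => by
      show π a ∈ U
      rw [show π a = y from ha]; exact hyU) hanti
  let V : X.Opens := ⟨(π '' (W : Set Y)ᶜ)ᶜ, (π.isClosedMap _ W.2.isClosed_compl).isOpen_compl⟩
  have hVW : π ⁻¹ᵁ V ≤ W := fun x hx => by
    by_contra h
    exact hx ⟨x, h, rfl⟩
  refine ⟨V, mres N hVW s, ?_, hs.restrict hVW⟩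
  rintro ⟨x, hx, hxy⟩
  exact hx (hSW hxy)

theorem app_bijective_of_isIso (O : X.Opens) [IsIso (π ∣_ O)] {T : X.Opens} (hT : T ≤ O) :
    Function.Bijective (π.app T) := by
  have key : ∀ (A B : X.Opens), A = B → IsIso (π.app A) → IsIso (π.app B) := fun A B h hA => h ▸ hA
  haveI : IsIso ((π ∣_ O).app (O.ι ⁻¹ᵁ T)) := inferInstance
  haveI := key (O.ι ''ᵁ O.ι ⁻¹ᵁ T) T
    (by rw [Scheme.Hom.image_preimage_eq_opensRange_inf, Scheme.Opens.opensRange_ι, inf_eq_right.2 hT])
    (by
      have h := morphismRestrict_app π O (O.ι ⁻¹ᵁ T)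
      exact @IsIso.of_isIso_comp_right _ _ _ _ _ (π.app (O.ι ''ᵁ O.ι ⁻¹ᵁ T))
        (Y.presheaf.map (eqToHom (image_morphismRestrict_preimage π O (O.ι ⁻¹ᵁ T))).op) inferInstance
        (h ▸ (inferInstance : IsIso ((π ∣_ O).app (O.ι ⁻¹ᵁ T)))))
  exact ConcreteCategory.bijective_of_isIso (π.app T)

end Generic

variable {X : Scheme.{u}} [IsIntegral X] [QuasiCompact (X.fromSpecStalk (genericPoint X))]
  [QuasiSeparated (X.fromSpecStalk (genericPoint X))] [IsNoetherian X] [IsFinite (Curv2.normalizationι X)]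

theorem exists_invertible_pullback (hd : topologicalKrullDim X ≤ 1)
    {N : (Curv2.normalization X).Modules} (hN : PicF.IsInvertible N) :
    ∃ L : X.Modules, PicF.IsInvertible L ∧
      Nonempty ((Scheme.Modules.pullback (Curv2.normalizationι X)).obj L ≅ N) := by
  classical
  haveI : IsLocallyNoetherian (Curv2.normalization X) :=
    LocallyOfFiniteType.isLocallyNoetherian (Curv2.normalizationι X)
  have hNf := Euler.isFinLocFree_of_isInvertible hN
  have hNc := Euler.isCoh_of_isFinLocFree hNf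
  haveI := hNc.1
  have hNt : TorSh.IsTorsionFree N := Euler.isTorsionFree_of_mono (𝟙 N) hNf
  let G := (Scheme.Modules.pushforward (Curv2.normalizationι X)).obj N
  haveI : G.IsQuasicoherent := (isCoh_push hNc).1
  have hGt : TorSh.IsTorsionFree G := isTorsionFree_push _ NormFib.map_genericPoint hNt
  obtain ⟨O, hOne, hiso⟩ := NormFib.exists_isIso_of_finite (X := X) inferInstance
  haveI := hiso
  have hηO : genericPoint X ∈ O := by
    obtain ⟨y, hy⟩ := hOne
    exact (genericPoint_specializes y).mem_open O.2 hy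
  choose V₀ z₀ hV₀ hz₀ using fun x : X => exists_gen_over_nhd (Curv2.normalizationι X) hN x
  let D : X.Opens := O ⊓ V₀ (genericPoint X)
  have hηD : genericPoint X ∈ D := ⟨hηO, hV₀ _⟩
  have hBfin : ((D : Set X)ᶜ).Finite :=
    CurvePoints.finite_of_isClosed hd D.isOpen.isClosed_compl fun h => h hηD
  have punct : ∀ x : X, x ∉ D → ∃ W : X.Opens, W ≤ V₀ x ∧ x ∈ W ∧ ∀ y ∈ W, y ≠ x → y ∈ D := fun x hx => by
    have hB : IsClosed ((D : Set X)ᶜ \ {x}) := by
      rw [← Set.biUnion_of_singleton ((D : Set X)ᶜ \ {x})]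
      exact hBfin.sdiff.isClosed_biUnion fun y hy => CurvePoints.isClosed_singleton hd fun h => hy.1 (h ▸ hηD)
    exact ⟨V₀ x ⊓ ⟨_, hB.isOpen_compl⟩, inf_le_left, ⟨hV₀ x, fun h => h.2 rfl⟩,
      fun y hy hne => by_contra fun h => hy.2 ⟨h, hne⟩⟩
  choose W hWV hxW hWD using punct
  let κ := Option ((D : Set X)ᶜ : Set X)
  let Wk : κ → X.Opens := fun a => a.elim D fun x => W x.1 x.2
  let base : κ → X := fun a => a.elim (genericPoint X) fun x => x.1
  have hle : ∀ a, Wk a ≤ V₀ (base a) := fun a => by cases a with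
    | none => exact inf_le_right
    | some x => exact hWV x.1 x.2
  let z : ∀ a, Γ(G, Wk a) := fun a => rr (F := G) (hle a) (z₀ (base a))
  have hzgen : ∀ a, IsGen N (Curv2.normalizationι X ⁻¹ᵁ Wk a) (z a) := fun a =>
    (hz₀ (base a)).restrict ((Opens.map (Curv2.normalizationι X).base).monotone (hle a))
  have hcov : ∀ y : X, ∃ a, y ∈ Wk a := fun y =>
    if h : y ∈ D then ⟨none, h⟩ else ⟨some ⟨y, h⟩, hxW y h⟩
  have hmeet : ∀ (a b : κ) (y : X), y ∈ Wk a → y ∈ Wk b → a = b ∨ y ∈ D := by
    intro a b y ha hb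
    cases a with
    | none => exact Or.inr ha
    | some x =>
      cases b with
      | none => exact Or.inr hb
      | some x' =>
        by_cases h : y = x.1
        · by_cases h' : y = x'.1
          · exact Or.inl (congrArg some (Subtype.ext (h.symm.trans h')))
          · exact Or.inr (hWD x'.1 x'.2 y hb h')
        · exact Or.inr (hWD x.1 x.2 y ha h)
  -- inside the locus where the normalization is an isomorphism all generators agree
  have hcmp : ∀ (a b : κ) (y : X) (ha : y ∈ Wk a) (hb : y ∈ Wk b), y ∈ D →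
      G.presheaf.germ (Wk a) y ha (z a) ∈ germSpan ({z b} : Set Γ(G, Wk b)) y hb := by
    intro a b y ha hb hy
    let T := Wk a ⊓ Wk b ⊓ O
    have hTa : T ≤ Wk a := inf_le_left.trans inf_le_left
    have hTb : T ≤ Wk b := inf_le_left.trans inf_le_right
    obtain ⟨c, hc⟩ := ((hzgen b) (Curv2.normalizationι X ⁻¹ᵁ T)
      ((Opens.map (Curv2.normalizationι X).base).monotone hTb)).2 (rr (F := G) hTa (z a))
    obtain ⟨β, rfl⟩ := (app_bijective_of_isIso (Curv2.normalizationι X) O (inf_le_right : T ≤ O)).2 c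
    have h : β • rr (F := G) hTb (z b) = rr (F := G) hTa (z a) := hc
    have hyT : y ∈ T := ⟨⟨ha, hb⟩, hy.1⟩
    rw [← germ_rr hTa y hyT, ← h, GrothLib.WeakAss.germ_smul, germ_rr]
    exact Submodule.smul_mem _ _ (Submodule.subset_span ⟨_, rfl, rfl⟩)
  obtain ⟨P, hP, -, hrange⟩ := exists_sub Wk (fun a => ({z a} : Set Γ(G, Wk a)))
    (fun a => Set.finite_singleton _) hcov (fun a b y ha hb => by
      rcases hmeet a b y ha hb with rfl | hy
      · rfl
      · exact le_antisymm
          (Submodule.span_le.2 (by rintro _ ⟨_, rfl, rfl⟩; exact hcmp a b y ha hb hy))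
          (Submodule.span_le.2 (by rintro _ ⟨_, rfl, rfl⟩; exact hcmp b a y hb ha hy)))
  haveI : Mono P.ι := QCoh.mono_of_app_injective _ P.ι_app_injective
  have hrank : FlatMod.IsFinLocFreeOfRank 1 P.obj := by
    refine OmegaFree.isFinLocFreeOfRank_of_free_stalks hP 1 fun y => ?_
    obtain ⟨a, ha⟩ := hcov y
    have hηW : genericPoint X ∈ Wk a := (genericPoint_specializes y).mem_open (Wk a).2 ha
    haveI := hGt (genericPoint X)
    have hne : G.presheaf.germ (Wk a) (genericPoint X) hηW (z a) ≠ 0 := fun h => by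
      obtain ⟨T, hT, i₁, i₂, he⟩ := TopCat.Presheaf.germ_eq G.presheaf (genericPoint X) hηW hηW (z a) 0
        (h.trans (map_zero _).symm)
      rw [map_zero] at he
      have hp : genericPoint (Curv2.normalization X) ∈ Curv2.normalizationι X ⁻¹ᵁ T := by
        show Curv2.normalizationι X (genericPoint _) ∈ T
        rw [NormFib.map_genericPoint]; exact hT
      haveI : Nonempty ↥(Curv2.normalizationι X ⁻¹ᵁ T) := ⟨⟨_, hp⟩⟩
      exact one_ne_zero ((hzgen a).smul_left_injective ((Opens.map (Curv2.normalizationι X).base).monotone i₁.le)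
        (c := 1) (d := 0) (by rw [one_smul, zero_smul]; exact he))
    refine Sandwich11.exists_basis_of_range P.ι (fun _ : Fin 1 => z a) ha
      (linearIndependent_germ _ ha hηW (Fintype.linearIndependent_iff.2 fun c hc i => ?_)) ?_
    · rw [Fin.sum_univ_one] at hc
      rw [Subsingleton.elim i 0]
      by_contra hc0
      exact hne ((smul_eq_zero_iff_right hc0).1 hc)
    · rw [hrange a y ha]
      congr 1
      exact Set.range_const.symm
  let φ := ((Scheme.Modules.pullbackPushforwardAdjunction (Curv2.normalizationι X)).homEquiv P.obj N).symm P.ι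
  have hLinv := CurveMult.isInvertible_of_rank_one hrank
  haveI : Epi φ := by
    refine (OX.epi_iff _).2 fun p => (ModuleCat.epi_iff_surjective _).2 fun w => ?_
    obtain ⟨a, ha⟩ := hcov (Curv2.normalizationι X p)
    have hp : p ∈ Curv2.normalizationι X ⁻¹ᵁ Wk a := ha
    have hbij := Euler.bijective_germ_comb
      ((InvExt.isGen_iff_isFrame (M := N) (V := Curv2.normalizationι X ⁻¹ᵁ Wk a) (fun _ : Fin 1 => z a)).2 (hzgen a)) hp
    obtain ⟨c, rfl⟩ := hbij.2 w
    -- the generator is the image of a germ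
    have hzP : G.presheaf.germ (Wk a) _ ha (z a) ∈ LinearMap.range (stalkLin P.ι (Curv2.normalizationι X p)) := by
      rw [hrange a _ ha]; exact Submodule.subset_span ⟨_, rfl, rfl⟩
    obtain ⟨l, hl⟩ := hzP
    obtain ⟨T, hT, s, rfl⟩ := TopCat.Presheaf.exists_germ_eq P.obj.presheaf l
    rw [QCoh.stalkLin_germ] at hl
    obtain ⟨A, hA, i₁, i₂, he⟩ := TopCat.Presheaf.germ_eq G.presheaf _ hT ha _ _ hl
    have hpA : p ∈ Curv2.normalizationι X ⁻¹ᵁ A := hA
    let sA := P.obj.presheaf.map i₁.op s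
    refine ⟨c 0 • ((Scheme.Modules.pullback (Curv2.normalizationι X)).obj P.obj).presheaf.germ _ p hpA
      (((Scheme.Modules.pullbackPushforwardAdjunction (Curv2.normalizationι X)).unit.app P.obj).app A sA), ?_⟩
    show stalkLin φ p _ = _
    rw [map_smul, QCoh.stalkLin_germ]
    have h2 : (((Scheme.Modules.pullbackPushforwardAdjunction (Curv2.normalizationι X)).homEquiv P.obj N) φ).app A sA =
        G.presheaf.map i₂.op (z a) := by
      rw [show ((Scheme.Modules.pullbackPushforwardAdjunction (Curv2.normalizationι X)).homEquiv P.obj N) φ = P.ι from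
        Equiv.apply_symm_apply _ _, ← QCoh.map_app P.ι i₁ s]
      exact he
    rw [Adjunction.homEquiv_unit] at h2
    show c 0 • N.presheaf.germ _ p hpA _ = _
    rw [show φ.app (Curv2.normalizationι X ⁻¹ᵁ A) (((Scheme.Modules.pullbackPushforwardAdjunction
      (Curv2.normalizationι X)).unit.app P.obj).app A sA) = N.presheaf.map
        ((Opens.map (Curv2.normalizationι X).base).map i₂).op (z a) from h2]
    rw [TopCat.Presheaf.germ_res_apply]
    exact (Fin.sum_univ_one (fun i => c i • N.presheaf.germ _ p hp (z a))).symm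
  haveI := Algz56.isIso_of_epi_invertible (Ample.isInvertible_pullback _ hLinv) hN φ
  exact ⟨P.obj, hLinv, ⟨asIso φ⟩⟩

end GrothLib.NormPush11
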