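import Groth.Agent.Lib.TFCurv11.NormPush

/-!
# A direct image from the normalization determines the module
-/

set_option autoImplicit false
set_option linter.all false
set_option backward.isDefEq.respectTransparency false

universe u

open CategoryTheory CategoryTheory.Limits Opposite AlgebraicGeometry TopologicalSpace
open GrothLib.QCoh (stalkLin rr)

noncomputable section

namespace GrothLib.NormPush11

variable {X : Scheme.{u}} [IsIntegral X] [QuasiCompact (X.fromSpecStalk (genericPoint X))]
  [QuasiSeparated (X.fromSpecStalk (genericPoint X))] [IsFinite (Curv2.normalizationι X)]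


theorem push_smul_frac {M : (Curv2.normalization X).Modules} {V : X.Opens} {c α : Γ(X, V)}
    {b : Γ(Curv2.normalization X, Curv2.normalizationι X ⁻¹ᵁ V)}
    (h : (Curv2.normalizationι X).app V α = (Curv2.normalizationι X).app V c * b)
    (s : Γ(M, Curv2.normalizationι X ⁻¹ᵁ V)) :
    α • (show Γ((Scheme.Modules.pushforward (Curv2.normalizationι X)).obj M, V) from s) = c • (show Γ((Scheme.Modules.pushforward (Curv2.normalizationι X)).obj M, V) from (b • s : Γ(M, Curv2.normalizationι X ⁻¹ᵁ V))) := by
  show (Curv2.normalizationι X).app V α • s = (Curv2.normalizationι X).app V c • (b • s)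
  rw [h, mul_smul]

theorem push_hom_linear {M M' : (Curv2.normalization X).Modules} (hM' : TorSh.IsTorsionFree M')
    (ψ : (Scheme.Modules.pushforward (Curv2.normalizationι X)).obj M ⟶ (Scheme.Modules.pushforward (Curv2.normalizationι X)).obj M') {V : X.Opens} (hV : IsAffineOpen V)
    (b : Γ(Curv2.normalization X, Curv2.normalizationι X ⁻¹ᵁ V)) (s : Γ(M, Curv2.normalizationι X ⁻¹ᵁ V)) :
    (show Γ(M', Curv2.normalizationι X ⁻¹ᵁ V) from ψ.app V (b • s : Γ(M, Curv2.normalizationι X ⁻¹ᵁ V))) =
      b • (show Γ(M', Curv2.normalizationι X ⁻¹ᵁ V) from ψ.app V s) := by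
  by_cases hne : Nonempty V
  swap
  · exact TopCat.Presheaf.section_ext ⟨M'.presheaf, M'.isSheaf⟩ _ _ _ fun p hp => (hne ⟨⟨_, hp⟩⟩).elim
  obtain ⟨c, α, hc, hcα, -⟩ := exists_frac hV b
  let s0 : Γ((Scheme.Modules.pushforward (Curv2.normalizationι X)).obj M, V) := s
  let m : Γ((Scheme.Modules.pushforward (Curv2.normalizationι X)).obj M, V) := (b • s : Γ(M, Curv2.normalizationι X ⁻¹ᵁ V))
  let m' : Γ((Scheme.Modules.pushforward (Curv2.normalizationι X)).obj M', V) := (b • (show Γ(M', Curv2.normalizationι X ⁻¹ᵁ V) from ψ.app V s) :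
    Γ(M', Curv2.normalizationι X ⁻¹ᵁ V))
  have h1 : α • s0 = c • m := push_smul_frac hcα s
  have h2 : α • ψ.app V s0 = c • m' := push_smul_frac hcα _
  have h3 : c • ψ.app V m = c • m' := by
    rw [← Scheme.Modules.Hom.app_smul, ← h1, Scheme.Modules.Hom.app_smul, h2]
  show ψ.app V m = m'
  refine TopCat.Presheaf.section_ext ⟨((Scheme.Modules.pushforward (Curv2.normalizationι X)).obj M').presheaf, ((Scheme.Modules.pushforward (Curv2.normalizationι X)).obj M').isSheaf⟩ _ _ _ fun x hx => ?_
  show ((Scheme.Modules.pushforward (Curv2.normalizationι X)).obj M').presheaf.germ V x hx _ = ((Scheme.Modules.pushforward (Curv2.normalizationι X)).obj M').presheaf.germ V x hx _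
  have h4 := congrArg (((Scheme.Modules.pushforward (Curv2.normalizationι X)).obj M').presheaf.germ V x hx) h3
  rw [GrothLib.WeakAss.germ_smul, GrothLib.WeakAss.germ_smul] at h4
  haveI := isTorsionFree_push (Curv2.normalizationι X) NormFib.map_genericPoint hM' x
  rw [← sub_eq_zero]
  refine (smul_eq_zero_iff_right ((map_ne_zero_iff _ (germ_injective_of_isIntegral X x hx)).2 hc)).1 ?_
  rw [smul_sub, h4, sub_self]

/-- Evaluation of an adjoint map on a pulled-back section. -/
theorem app_hat {G : X.Modules} {M : (Curv2.normalization X).Modules}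
    (k : (Scheme.Modules.pullback (Curv2.normalizationι X)).obj G ⟶ M) {V : X.Opens} (s : Γ(G, V)) :
    k.app (Curv2.normalizationι X ⁻¹ᵁ V)
        (BCCoh.pullRes (Curv2.normalizationι X) G V (Curv2.normalizationι X ⁻¹ᵁ V) le_rfl s) =
      (((Scheme.Modules.pullbackPushforwardAdjunction (Curv2.normalizationι X)).homEquiv G M) k).app V s := by
  rw [show BCCoh.pullRes (Curv2.normalizationι X) G V (Curv2.normalizationι X ⁻¹ᵁ V) le_rfl s =
    ((Scheme.Modules.pullbackPushforwardAdjunction (Curv2.normalizationι X)).unit.app G).app V s from Cohom.map_self_apply _ _ _, Adjunction.homEquiv_unit]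
  rfl

/-- The counit, with plain codomain. -/
def cN (E : (Curv2.normalization X).Modules) :
    (Scheme.Modules.pullback (Curv2.normalizationι X)).obj ((Scheme.Modules.pushforward (Curv2.normalizationι X)).obj E) ⟶ E := (Scheme.Modules.pullbackPushforwardAdjunction (Curv2.normalizationι X)).counit.app E

theorem homEquiv_cN (E : (Curv2.normalization X).Modules) : ((Scheme.Modules.pullbackPushforwardAdjunction (Curv2.normalizationι X)).homEquiv _ _) (cN E) = 𝟙 _ := by
  rw [Adjunction.homEquiv_unit]
  exact (Scheme.Modules.pullbackPushforwardAdjunction (Curv2.normalizationι X)).right_triangle_components E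

variable {E E' : (Curv2.normalization X).Modules} [E.IsQuasicoherent] [E'.IsQuasicoherent]
  (hE' : TorSh.IsTorsionFree E')
  (ψ : (Scheme.Modules.pushforward (Curv2.normalizationι X)).obj E ⟶ (Scheme.Modules.pushforward (Curv2.normalizationι X)).obj E')

include hE' in
theorem app_eq {V : X.Opens} (hV : IsAffineOpen V)
    (z : Γ((Scheme.Modules.pullback (Curv2.normalizationι X)).obj ((Scheme.Modules.pushforward (Curv2.normalizationι X)).obj E), Curv2.normalizationι X ⁻¹ᵁ V)) :
    (((Scheme.Modules.pullbackPushforwardAdjunction (Curv2.normalizationι X)).homEquiv _ _).symm ψ).app (Curv2.normalizationι X ⁻¹ᵁ V) z =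
      (show Γ(E', Curv2.normalizationι X ⁻¹ᵁ V) from
        ψ.app V (show Γ((Scheme.Modules.pushforward (Curv2.normalizationι X)).obj E, V) from ((cN E).app (Curv2.normalizationι X ⁻¹ᵁ V) z))) := by
  haveI : ((Scheme.Modules.pushforward (Curv2.normalizationι X)).obj E).IsQuasicoherent := QCoh.isQuasicoherent_pushforward (Curv2.normalizationι X) E
  letI : Algebra Γ(X, V) Γ(Curv2.normalization X, Curv2.normalizationι X ⁻¹ᵁ V) :=
    ((Curv2.normalizationι X).appLE V _ le_rfl).hom.toAlgebra
  letI : Module Γ(X, V) Γ((Scheme.Modules.pullback (Curv2.normalizationι X)).obj ((Scheme.Modules.pushforward (Curv2.normalizationι X)).obj E), Curv2.normalizationι X ⁻¹ᵁ V) :=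
    Module.compHom _ ((Curv2.normalizationι X).appLE V _ le_rfl).hom
  haveI : IsScalarTower Γ(X, V) Γ(Curv2.normalization X, Curv2.normalizationι X ⁻¹ᵁ V)
      Γ((Scheme.Modules.pullback (Curv2.normalizationι X)).obj ((Scheme.Modules.pushforward (Curv2.normalizationι X)).obj E), Curv2.normalizationι X ⁻¹ᵁ V) :=
    IsScalarTower.of_algebraMap_smul fun _ _ => rfl
  obtain ⟨p, hp, hps⟩ := BCCoh.isBaseChange_pullRes (Curv2.normalizationι X) ((Scheme.Modules.pushforward (Curv2.normalizationι X)).obj E) hV
    (hV.preimage (Curv2.normalizationι X)) le_rfl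
  induction z using hp.inductionOn with
  | zero =>
    rw [map_zero, map_zero]
    exact (map_zero (ψ.app V).hom).symm
  | tmul s =>
    dsimp only
    rw [hps, app_hat, Equiv.apply_symm_apply, app_hat, homEquiv_cN]
    rfl
  | smul b z hz =>
    rw [Scheme.Modules.Hom.app_smul, Scheme.Modules.Hom.app_smul, hz]
    exact (push_hom_linear hE' ψ hV b _).symm
  | add z w hz hw =>
    rw [map_add, map_add, hz, hw]
    exact (map_add (ψ.app V).hom _ _).symm

theorem exists_rep_affine {G : (Curv2.normalization X).Modules} [G.IsQuasicoherent] (p : Curv2.normalization X)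
    (w : G.presheaf.stalk p) :
    ∃ (V : X.Opens) (_ : IsAffineOpen V) (hp : p ∈ Curv2.normalizationι X ⁻¹ᵁ V)
      (u : (Curv2.normalization X).presheaf.stalk p) (z : Γ(G, Curv2.normalizationι X ⁻¹ᵁ V)),
      IsUnit u ∧ u • w = G.presheaf.germ _ p hp z := by
  obtain ⟨V, hV, hpV, -⟩ := exists_isAffineOpen_mem_and_subset
    (x := Curv2.normalizationι X p) (U := ⊤) trivial
  obtain ⟨c, z, hc, hz⟩ := WeakAss.exists_smul_eq_germ (hV.preimage (Curv2.normalizationι X))
    (show p ∈ Curv2.normalizationι X ⁻¹ᵁ V from hpV) w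
  exact ⟨V, hV, hpV, _, z, (Scheme.mem_basicOpen _ c p hpV).mp (WeakAss.notMem_primeAt_iff.mp hc), hz⟩

theorem epi_counit_norm : Epi (cN E) := by
  haveI : ((Scheme.Modules.pushforward (Curv2.normalizationι X)).obj E).IsQuasicoherent := QCoh.isQuasicoherent_pushforward (Curv2.normalizationι X) E
  refine (OX.epi_iff _).2 fun p => (ModuleCat.epi_iff_surjective _).2 fun w => ?_
  obtain ⟨V, hV, hp, u, z, hu, hz⟩ := exists_rep_affine p w
  refine ⟨(↑hu.unit⁻¹ : (Curv2.normalization X).presheaf.stalk p) • ((Scheme.Modules.pullback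
    (Curv2.normalizationι X)).obj ((Scheme.Modules.pushforward (Curv2.normalizationι X)).obj E)).presheaf.germ _ p hp
      (BCCoh.pullRes (Curv2.normalizationι X) ((Scheme.Modules.pushforward (Curv2.normalizationι X)).obj E) V _ le_rfl z), ?_⟩
  · show stalkLin (cN E) p _ = w
    rw [map_smul, QCoh.stalkLin_germ, app_hat, homEquiv_cN]
    show _ • E.presheaf.germ _ p hp z = w
    rw [← hz, smul_smul, hu.val_inv_mul, one_smul]

include hE' in
theorem exists_hom : ∃ θ : E ⟶ E', (Scheme.Modules.pushforward (Curv2.normalizationι X)).map θ = ψ := by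
  haveI : ((Scheme.Modules.pushforward (Curv2.normalizationι X)).obj E).IsQuasicoherent := QCoh.isQuasicoherent_pushforward (Curv2.normalizationι X) E
  haveI : ((Scheme.Modules.pullback (Curv2.normalizationι X)).obj ((Scheme.Modules.pushforward (Curv2.normalizationι X)).obj E)).IsQuasicoherent :=
    FittSheaf.isQuasicoherent_pullback _ _
  let cE := cN E
  let φ := ((Scheme.Modules.pullbackPushforwardAdjunction (Curv2.normalizationι X)).homEquiv _ _).symm ψ
  haveI : Epi cE := epi_counit_norm
  have hker : kernel.ι cE ≫ φ = 0 := by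
    refine Scheme.Modules.hom_ext _ _ fun U => AddCommGrpCat.ext fun s => ?_
    refine TopCat.Presheaf.section_ext ⟨E'.presheaf, E'.isSheaf⟩ U _ _ fun p hp => ?_
    show E'.presheaf.germ U p hp (φ.app U ((kernel.ι cE).app U s)) = E'.presheaf.germ U p hp 0
    rw [map_zero, ← QCoh.stalkLin_germ φ hp]
    have h0 : stalkLin cE p (((Scheme.Modules.pullback (Curv2.normalizationι X)).obj
        ((Scheme.Modules.pushforward (Curv2.normalizationι X)).obj E)).presheaf.germ U p hp ((kernel.ι cE).app U s)) = 0 := by
      rw [QCoh.stalkLin_germ, show cE.app U ((kernel.ι cE).app U s) = (kernel.ι cE ≫ cE).app U s from rfl,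
        kernel.condition]
      exact map_zero _
    generalize ((Scheme.Modules.pullback (Curv2.normalizationι X)).obj ((Scheme.Modules.pushforward (Curv2.normalizationι X)).obj E)).presheaf.germ U p hp
      ((kernel.ι cE).app U s) = w at h0 ⊢
    obtain ⟨V, hV, hpV, u, z, hu, hz⟩ := exists_rep_affine p w
    rw [← hu.smul_eq_zero, ← map_smul, hz, QCoh.stalkLin_germ, app_eq hE' ψ hV]
    have h1 : E.presheaf.germ _ p hpV (cE.app _ z) = 0 := by
      rw [← QCoh.stalkLin_germ cE hpV, ← hz, map_smul, h0, smul_zero]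
    obtain ⟨d, hd, hd0⟩ := (WeakAss.germ_eq_zero_iff (hV.preimage (Curv2.normalizationι X)) hpV _).1 h1
    have h2 := push_hom_linear hE' ψ hV d (cE.app _ z)
    rw [hd0] at h2
    have h3 : d • (show Γ(E', Curv2.normalizationι X ⁻¹ᵁ V) from ψ.app V (show Γ((Scheme.Modules.pushforward (Curv2.normalizationι X)).obj E, V) from cE.app _ z)) = 0 :=
      h2.symm.trans (map_zero (ψ.app V).hom)
    exact (WeakAss.germ_eq_zero_iff (hV.preimage (Curv2.normalizationι X)) hpV _).2 ⟨d, hd, h3⟩
  refine ⟨Abelian.epiDesc cE φ hker, ?_⟩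
  have h : ((Scheme.Modules.pullbackPushforwardAdjunction (Curv2.normalizationι X)).homEquiv _ _) (cE ≫ Abelian.epiDesc cE φ hker) = ψ := by
    rw [Abelian.comp_epiDesc, Equiv.apply_symm_apply]
  rwa [Adjunction.homEquiv_naturality_right, homEquiv_cN, Category.id_comp] at h

theorem hom_ext_push {θ θ' : E ⟶ E'} (h : (Scheme.Modules.pushforward (Curv2.normalizationι X)).map θ = (Scheme.Modules.pushforward (Curv2.normalizationι X)).map θ') : θ = θ' := by
  haveI := epi_counit_norm (E := E)
  rw [← cancel_epi (cN E)]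
  apply ((Scheme.Modules.pullbackPushforwardAdjunction (Curv2.normalizationι X)).homEquiv _ _).injective
  rw [Adjunction.homEquiv_naturality_right, Adjunction.homEquiv_naturality_right, h]

theorem iso_of_push_iso (hE : TorSh.IsTorsionFree E) (hE' : TorSh.IsTorsionFree E')
    (e : (Scheme.Modules.pushforward (Curv2.normalizationι X)).obj E ≅ (Scheme.Modules.pushforward (Curv2.normalizationι X)).obj E') : Nonempty (E ≅ E') := by
  obtain ⟨θ, hθ⟩ := exists_hom hE' e.hom
  obtain ⟨θ', hθ'⟩ := exists_hom hE e.inv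
  exact ⟨{ hom := θ
           inv := θ'
           hom_inv_id := hom_ext_push (by rw [Functor.map_comp, hθ, hθ', e.hom_inv_id, CategoryTheory.Functor.map_id])
           inv_hom_id := hom_ext_push (by rw [Functor.map_comp, hθ, hθ', e.inv_hom_id, CategoryTheory.Functor.map_id]) }⟩

end GrothLib.NormPush11
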