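import Groth.Agent.Lib.DepthFlat.Basic
import Groth.Agent.Lib.NormFlat11.Local
import Groth.Agent.Lib.NodeAlg11.Basic
import Groth.Agent.Lib.DepthAlong.Smooth
import Groth.Agent.Lib.CMMor6.Mor
import Groth.Agent.Lib.CMFree.Regular
import Groth.Agent.Lib.QCoh.PullbackSections
import Groth.Agent.Lib.TFCurve11.Basic
import Groth.Agent.Lib.Euler.Coh
import Groth.Agent.Lib.GeomSS.Main
import Groth.Agent.Lib.AssPts.Primary

/-!
# Depth of torsion free modules on a curve pulled back to a product with a smooth curve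
-/

set_option autoImplicit false
set_option linter.all false
set_option backward.isDefEq.respectTransparency false

universe u

open CategoryTheory CategoryTheory.Limits Opposite AlgebraicGeometry TopologicalSpace
open scoped TensorProduct

noncomputable section

namespace GrothLib.ProdDepth11

theorem isOpen_singleton_of_maximal {X : Scheme.{u}} [NoetherianSpace X] {x : X}
    (hx : IsClosed ({x} : Set X)) (hmax : ∀ z, z ⤳ x → z = x) : IsOpen ({x} : Set X) := by
  have hfin : (irreducibleComponents (X : Type u)).Finite := NoetherianSpace.finite_irreducibleComponents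
  let B : Set X := ⋃₀ {C ∈ irreducibleComponents (X : Type u) | x ∉ C}
  have hB : IsClosed B := by
    rw [show B = ⋃ C ∈ {C ∈ irreducibleComponents (X : Type u) | x ∉ C}, C from Set.sUnion_eq_biUnion]
    exact (hfin.subset fun C hC => hC.1).isClosed_biUnion fun C hC => isClosed_of_mem_irreducibleComponents C hC.1
  suffices h : Bᶜ = {x} by rw [← h]; exact hB.isOpen_compl
  refine Set.Subset.antisymm (fun q hq => ?_) (Set.singleton_subset_iff.2 fun ⟨C, hC, hxC⟩ => hC.2 hxC)
  have hC := irreducibleComponent_mem_irreducibleComponents q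
  have hxC : x ∈ irreducibleComponent q := by_contra fun h => hq ⟨_, ⟨hC, h⟩, mem_irreducibleComponent⟩
  obtain ⟨g, hg⟩ := QuasiSober.sober (isIrreducible_irreducibleComponent (x := q)) isClosed_irreducibleComponent
  have hgx : g = x := hmax g (hg.specializes hxC)
  subst hgx
  exact ((hg.specializes mem_irreducibleComponent).mem_closed hx rfl : q ∈ ({g} : Set X))

theorem not_isField_stalk {X : Scheme.{u}} [NoetherianSpace X] [AlgebraicGeometry.IsReduced X] {x : X}
    (hx : IsClosed ({x} : Set X)) (hno : ¬ IsOpen ({x} : Set X)) : ¬ IsField (X.presheaf.stalk x) := fun hF => by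
  refine hno (isOpen_singleton_of_maximal hx fun z hz => ?_)
  obtain ⟨p, hp⟩ : z ∈ Set.range (X.fromSpecStalk x) := by rw [Scheme.range_fromSpecStalk]; exact hz
  haveI : Subsingleton (PrimeSpectrum (X.presheaf.stalk x)) := by
    letI := hF.toField
    infer_instance
  rw [← hp, Subsingleton.elim (α := PrimeSpectrum (X.presheaf.stalk x)) p (IsLocalRing.closedPoint _),
    Scheme.fromSpecStalk_closedPoint]

variable (k : Type u) [Field k] {X C : Scheme.{u}} [X.Over (Spec (CommRingCat.of k))]
  [C.Over (Spec (CommRingCat.of k))] [LocallyOfFiniteType (X ↘ Spec (CommRingCat.of k))]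
  [Smooth (C ↘ Spec (CommRingCat.of k))]

theorem two_le_depth_pullback [AlgebraicGeometry.IsReduced X] [NoetherianSpace X]
    (xpt : Spec (CommRingCat.of k) ⟶ X) (hxpt : xpt ≫ (X ↘ Spec (CommRingCat.of k)) = 𝟙 _)
    (c : C) (hC : ¬ IsField (C.presheaf.stalk c))
    (F : X.Modules) (hF : Coh.IsCoh F)
    (σ : C ⟶ pullback (X ↘ Spec (CommRingCat.of k)) (C ↘ Spec (CommRingCat.of k)))
    (hσ₁ : σ ≫ pullback.fst _ _ = (C ↘ Spec (CommRingCat.of k)) ≫ xpt) (hσ₂ : σ ≫ pullback.snd _ _ = 𝟙 C)
    (hx : IsClosed ({(pullback.fst (X ↘ Spec (CommRingCat.of k)) (C ↘ Spec (CommRingCat.of k))) (σ c)} : Set X))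
    (hno : ¬ IsOpen ({(pullback.fst (X ↘ Spec (CommRingCat.of k)) (C ↘ Spec (CommRingCat.of k))) (σ c)} : Set X))
    (htf : Module.IsTorsionFree (X.presheaf.stalk ((pullback.fst (X ↘ Spec (CommRingCat.of k))
      (C ↘ Spec (CommRingCat.of k))) (σ c)))
      (F.presheaf.stalk ((pullback.fst (X ↘ Spec (CommRingCat.of k)) (C ↘ Spec (CommRingCat.of k))) (σ c)))) :
    (2 : ℕ∞) ≤ LocCoh.depth ((pullback (X ↘ Spec (CommRingCat.of k)) (C ↘ Spec (CommRingCat.of k))).presheaf.stalk (σ c))
      (((Scheme.Modules.pullback (pullback.fst (X ↘ Spec (CommRingCat.of k)) (C ↘ Spec (CommRingCat.of k)))).obj F).presheaf.stalk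
        (σ c)) := by
  haveI := hF.1
  let f := pullback.fst (X ↘ Spec (CommRingCat.of k)) (C ↘ Spec (CommRingCat.of k))
  haveI : IsLocallyNoetherian X := LocallyOfFiniteType.isLocallyNoetherian (X ↘ Spec (CommRingCat.of k))
  haveI : Smooth f := MorphismProperty.pullback_fst _ _ ‹_›
  haveI : IsLocallyNoetherian (pullback (X ↘ Spec (CommRingCat.of k)) (C ↘ Spec (CommRingCat.of k))) :=
    LocallyOfFiniteType.isLocallyNoetherian f
  let z := σ c
  let R := X.presheaf.stalk (f z)
  let S := (pullback (X ↘ Spec (CommRingCat.of k)) (C ↘ Spec (CommRingCat.of k))).presheaf.stalk z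
  let M := F.presheaf.stalk (f z)
  letI : Algebra R S := (f.stalkMap z).hom.toAlgebra
  haveI : Module.Flat R S := Flat.stalkMap f z
  haveI : IsLocalHom (algebraMap R S) := inferInstanceAs (IsLocalHom (f.stalkMap z).hom)
  haveI : Module.Finite R M := Primary.moduleFinite_stalk F (f z) hF
  let e : ((Scheme.Modules.pullback f).obj F).presheaf.stalk z ≃ₗ[S] S ⊗[R] M :=
    ((QCoh.stalkPullbackIso f z).app F).toLinearEquiv
  haveI : Module.Finite S (((Scheme.Modules.pullback f).obj F).presheaf.stalk z) :=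
    Module.Finite.equiv e.symm
  have he : LocCoh.depth S (((Scheme.Modules.pullback f).obj F).presheaf.stalk z) = LocCoh.depth S (S ⊗[R] M) :=
    Depth.idealDepth_eq_of_equiv _ e
  refine le_of_le_of_eq ?_ he.symm
  rw [DepthFlat.depth_tensor, show (2 : ℕ∞) = 1 + 1 by norm_num]
  refine add_le_add ?_ ?_
  · rcases subsingleton_or_nontrivial M with hM | hM
    · rw [Depth.depth_eq_top_of_subsingleton]; exact le_top
    have hR : ¬ IsField R := not_isField_stalk hx hno
    obtain ⟨a, ha, hnz⟩ := NodeAlg11.exists_nonZeroDivisor (A := R)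
      fun h => hR (IsLocalRing.isField_iff_maximalIdeal_eq.2 h)
    haveI := htf
    refine (Depth.le_idealDepth_iff_exists _ (Depth.smul_top_ne_top (IsLocalRing.maximalIdeal.isMaximal R).ne_top) 1).2
      ⟨[a], rfl, by simpa using ha, ?_⟩
    rw [RingTheory.Sequence.isWeaklyRegular_cons_iff]
    exact ⟨(isRegular_iff_mem_nonZeroDivisors.2 hnz).isSMulRegular, .nil _ _⟩
  · let Q := S ⧸ (IsLocalRing.maximalIdeal R).map (algebraMap R S)
    obtain ⟨φ⟩ := CMMor6.nonempty_fibQuot_equiv f z
    haveI : IsRegularLocalRing ((f.fiber (f z)).presheaf.stalk (f.asFiber z)) :=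
      DepthAlong.isRegularLocalRing_fiberStalk f z
    haveI : IsDomain Q := by
      haveI := CMFree.isDomain_of_isRegularLocalRing ((f.fiber (f z)).presheaf.stalk (f.asFiber z))
      exact φ.toMulEquiv.isDomain _
    let g : S →+* C.presheaf.stalk c := (σ.stalkMap c).hom
    have hkill : (IsLocalRing.maximalIdeal R).map (algebraMap R S) ≤ RingHom.ker g := by
      rw [Ideal.map_le_iff_le_comap]
      intro a ha
      rw [Ideal.mem_comap, RingHom.mem_ker]
      show σ.stalkMap c (f.stalkMap z a) = 0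
      have h1 : σ.stalkMap c (f.stalkMap z a) = (σ ≫ f).stalkMap c a := by
        rw [Scheme.Hom.stalkMap_comp]; rfl
      obtain ⟨w, hw⟩ : ∃ w, (σ ≫ f).stalkMap c a =
          ((C ↘ Spec (CommRingCat.of k)) ≫ xpt).stalkMap c w ∧ w ∈ IsLocalRing.maximalIdeal _ := by
        have hh := hσ₁
        revert a
        generalize hh' : (C ↘ Spec (CommRingCat.of k)) ≫ xpt = ψ at hh
        intro a ha _
        subst hh
        exact ⟨a, rfl, ha⟩
      rw [h1, hw.1, Scheme.Hom.stalkMap_comp]
      show (C ↘ Spec (CommRingCat.of k)).stalkMap c (xpt.stalkMap _ w) = 0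
      have hF' : IsField ((Spec (CommRingCat.of k)).presheaf.stalk ((C ↘ Spec (CommRingCat.of k)) c)) :=
        TFCurve11.isField_stalk_of_maximal _ fun y _ => Subsingleton.elim (α := PrimeSpectrum k) y _
      have h0 : xpt.stalkMap ((C ↘ Spec (CommRingCat.of k)) c) w = 0 := by
        by_contra hne
        letI := hF'.toField
        exact (IsLocalRing.mem_maximalIdeal _).1 hw.2
          ((isUnit_map_iff (xpt.stalkMap ((C ↘ Spec (CommRingCat.of k)) c)).hom w).1 (isUnit_iff_ne_zero.2 hne))
      rw [h0, map_zero]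
    have hsurj : Function.Surjective g := by
      intro b
      have h : ∀ (ψ : C ⟶ C), ψ = 𝟙 C → Function.Surjective (ψ.stalkMap c) := by
        rintro _ rfl b
        exact ⟨b, by rw [Scheme.Hom.stalkMap_id]; rfl⟩
      obtain ⟨b', hb'⟩ := h _ hσ₂ b
      rw [Scheme.Hom.stalkMap_comp] at hb'
      exact ⟨_, hb'⟩
    have hQ : ¬ IsField Q := fun hQ => hC (by
      haveI := Ideal.Quotient.maximal_of_isField _ hQ
      have hk : RingHom.ker g = (IsLocalRing.maximalIdeal R).map (algebraMap R S) :=
        ((Ideal.IsMaximal.eq_of_le ‹_› (RingHom.ker_ne_top g)) hkill).symm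
      exact ((RingHom.quotientKerEquivOfSurjective hsurj).symm.toMulEquiv).isField
        ((Ideal.quotEquivOfEq hk).toMulEquiv.isField hQ))
    obtain ⟨b, hb, hb0⟩ : ∃ b : S, b ∈ IsLocalRing.maximalIdeal S ∧ IsSMulRegular Q b := by
      by_contra hcon
      refine hQ (Ideal.Quotient.maximal_ideal_iff_isField_quotient _ |>.1 ?_)
      suffices h : (IsLocalRing.maximalIdeal R).map (algebraMap R S) = IsLocalRing.maximalIdeal S by
        rw [h]; exact IsLocalRing.maximalIdeal.isMaximal S
      refine le_antisymm (IsLocalRing.le_maximalIdeal ?_) fun b hb => ?_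
      · intro htop
        exact RingHom.ker_ne_top g (top_le_iff.1 (htop ▸ hkill))
      · by_contra hnb
        refine hcon ⟨b, hb, fun q q' h => ?_⟩
        exact mul_left_cancel₀ (a := Ideal.Quotient.mk _ b) (mt Ideal.Quotient.eq_zero_iff_mem.1 hnb) h
    let E : DepthFlat.Fib R S S ≃ₗ[S] Q := Submodule.quotEquivOfEq _ _ (by rw [smul_eq_mul, Ideal.mul_top])
    haveI : Nontrivial (DepthFlat.Fib R S S) := E.toEquiv.nontrivial
    refine (Depth.le_idealDepth_iff_exists _ (Depth.smul_top_ne_top (IsLocalRing.maximalIdeal.isMaximal S).ne_top) 1).2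
      ⟨[b], rfl, by simpa using hb, ?_⟩
    rw [RingTheory.Sequence.isWeaklyRegular_cons_iff]
    exact ⟨fun p q h => E.injective (hb0 (by simpa using congrArg E h)), .nil _ _⟩

end GrothLib.ProdDepth11
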