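import Groth.Agent.Lib.TFCurv11.SubGerm
import Groth.Agent.Lib.Euler.GenericCompare
import Groth.Agent.Lib.Euler.Rank
import Groth.Agent.Lib.Euler.Vanish
import Groth.Agent.Lib.RatSheaf9.Basic
import Groth.Agent.Lib.OmegaFree.Basic
import Groth.Agent.Lib.RhoShBig.Free
import Groth.Agent.Lib.CurvePoints.Basic
import Groth.Agent.Lib.QCoh.SupportExact

/-!
# Locally free modules inside and around a torsion-free module on an integral curve
-/

set_option autoImplicit false
set_option linter.all false
set_option backward.isDefEq.respectTransparency false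

universe u

open CategoryTheory CategoryTheory.Limits Opposite AlgebraicGeometry TopologicalSpace
open GrothLib.QCoh (stalkLin rr)
open GrothLib.SubGerm11
open GrothLib.FinCov (IsFrame)

noncomputable section

namespace GrothLib.Sandwich11

variable {X : Scheme.{u}}

theorem push_res_bijective (F : X.Modules) (D T : X.Opens) :
    Function.Bijective (rr (F := (Scheme.Modules.pushforward D.ι).obj (F.restrict D.ι)) (inf_le_left : T ⊓ D ≤ T)) := by
  have key : ∀ (A B : X.Opens) (h : A ≤ B), A = B → Function.Bijective (F.presheaf.map (homOfLE h).op) := by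
    rintro A _ h rfl
    exact ⟨fun a b hab => by simpa [Cohom.map_self_apply] using hab, fun a => ⟨a, Cohom.map_self_apply ..⟩⟩
  exact key _ _ (D.ι.image_mono ((Opens.map D.ι.base).monotone inf_le_left)) (by
    rw [Scheme.Hom.image_preimage_eq_opensRange_inf, Scheme.Hom.image_preimage_eq_opensRange_inf,
      Scheme.Opens.opensRange_ι, inf_comm D (T ⊓ D), inf_assoc, inf_idem, inf_comm T D])

theorem germSpan_top_of_basis {F : X.Modules} {n : ℕ} {V : X.Opens} (z : Fin n → Γ(F, V)) {y : X} (hy : y ∈ V)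
    (h : Function.Surjective fun c : Fin n → X.presheaf.stalk y => ∑ i, c i • F.presheaf.germ V y hy (z i)) :
    germSpan (Set.range z) y hy = ⊤ := by
  refine eq_top_iff.2 fun v _ => ?_
  obtain ⟨c, rfl⟩ := h v
  exact Submodule.sum_mem _ fun i _ => Submodule.smul_mem _ _ (Submodule.subset_span ⟨_, ⟨i, rfl⟩, rfl⟩)

theorem germSpan_range {F : X.Modules} {n : ℕ} {V : X.Opens} (z : Fin n → Γ(F, V)) {y : X} (hy : y ∈ V) :
    germSpan (Set.range z) y hy =
      Submodule.span (X.presheaf.stalk y) (Set.range fun i => F.presheaf.germ V y hy (z i)) := by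
  rw [germSpan, ← Set.range_comp]; rfl

variable [IsIntegral X]

/-- If the germs of `n` sections span the generic stalk of dimension `n`, they are independent everywhere. -/
theorem linearIndependent_of_span_top {F : X.Modules} {n : ℕ}
    (hn : Module.finrank (X.presheaf.stalk (genericPoint X)) (F.presheaf.stalk (genericPoint X)) = n)
    {V : X.Opens} (z : Fin n → Γ(F, V)) (hη : genericPoint X ∈ V) (h : germSpan (Set.range z) (genericPoint X) hη = ⊤)
    {y : X} (hy : y ∈ V) : LinearIndependent (X.presheaf.stalk y) fun i => F.presheaf.germ V y hy (z i) := by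
  refine linearIndependent_germ z hy hη ?_
  letI : Field (X.presheaf.stalk (genericPoint X)) := CurvePoints.isField_stalk_genericPoint.toField
  refine linearIndependent_of_top_le_span_of_card_eq_finrank ?_ (by rw [Fintype.card_fin, hn])
  exact (germSpan_range z hη ▸ h).ge

theorem exists_basis_of_range {P M : X.Modules} (ι : P ⟶ M) [Mono ι] {n : ℕ} {V : X.Opens} (t : Fin n → Γ(M, V))
    {y : X} (hy : y ∈ V) (hli : LinearIndependent (X.presheaf.stalk y) fun i => M.presheaf.germ V y hy (t i))
    (hr : LinearMap.range (stalkLin ι y) = germSpan (Set.range t) y hy) :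
    Nonempty (Module.Basis (Fin n) (X.presheaf.stalk y) (P.presheaf.stalk y)) := by
  rw [germSpan_range] at hr
  exact ⟨(Module.Basis.span hli).map ((LinearEquiv.ofEq _ _ hr.symm).trans
    (LinearEquiv.ofInjective (stalkLin ι y) (QCoh.stalkLin_injective ι y)).symm)⟩

variable [IsNoetherian X] (hd : topologicalKrullDim X ≤ 1)

include hd in
theorem exists_frame_generic {F : X.Modules} (hF : Coh.IsCoh F) {n : ℕ}
    (hn : Module.finrank (X.presheaf.stalk (genericPoint X)) (F.presheaf.stalk (genericPoint X)) = n) :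
    ∃ (D : X.Opens) (e : Fin n → Γ(F, D)), genericPoint X ∈ D ∧ IsFrame F D e := by
  haveI : Module.Finite X.functionField (F.presheaf.stalk (genericPoint X)) := Euler.stalk_finite hF _
  exact Euler.exists_frame_of_stalk_basis hF (Module.finBasisOfFinrankEq X.functionField _ hn)

include hd in
/-- The data at one point: `n` sections spanning off the point and a denominator. -/
theorem exists_local_data {F : X.Modules} (hF : Coh.IsCoh F) (hFt : TorSh.IsTorsionFree F) {n : ℕ}
    (hn : Module.finrank (X.presheaf.stalk (genericPoint X)) (F.presheaf.stalk (genericPoint X)) = n)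
    {D : X.Opens} {e : Fin n → Γ(F, D)} (hηD : genericPoint X ∈ D) (he : IsFrame F D e) (x : X) (hx : x ∉ D) :
    ∃ (W : X.Opens) (hxW : x ∈ W) (z : Fin n → Γ(F, W)) (c : Γ(X, W)),
      (∀ y : X, y ∈ W → y ≠ x → y ∈ D) ∧
      (∀ (y : X) (hy : y ∈ W), y ∈ D → IsUnit (X.presheaf.germ W y hy c) ∧ germSpan (Set.range z) y hy = ⊤) ∧
      (∀ v : F.presheaf.stalk x, X.presheaf.germ W x hxW c • v ∈ germSpan (Set.range z) x hxW) ∧
      (IsRegularLocalRing (X.presheaf.stalk x) →
        IsUnit (X.presheaf.germ W x hxW c) ∧ germSpan (Set.range z) x hxW = ⊤) := by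
  classical
  haveI := hF.1
  -- the frame spans on `D`
  have hDtop : ∀ (y : X) (hy : y ∈ D), germSpan (Set.range e) y hy = ⊤ := fun y hy =>
    germSpan_top_of_basis e hy (Euler.bijective_germ_comb he hy).2
  -- shrink: only `x` outside a given nonempty open
  have punct : ∀ (V O : X.Opens), x ∈ V → genericPoint X ∈ O → ∃ W : X.Opens, W ≤ V ∧ x ∈ W ∧
      ∀ y ∈ W, y ≠ x → y ∈ O := fun V O hxV hηO => by
    have hBfin : ((O : Set X)ᶜ \ {x}).Finite :=
      (CurvePoints.finite_of_isClosed hd O.isOpen.isClosed_compl fun h => h hηO).sdiff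
    have hB : IsClosed ((O : Set X)ᶜ \ {x}) := by
      rw [← Set.biUnion_of_singleton ((O : Set X)ᶜ \ {x})]
      exact hBfin.isClosed_biUnion fun y hy => CurvePoints.isClosed_singleton hd fun h => hy.1 (h ▸ hηO)
    exact ⟨V ⊓ ⟨_, hB.isOpen_compl⟩, inf_le_left, ⟨hxV, fun h => h.2 rfl⟩,
      fun y hy hne => by_contra fun h => hy.2 ⟨h, hne⟩⟩
  -- sections spanning at the generic point span nearby
  have spread : ∀ (V : X.Opens) (z : Fin n → Γ(F, V)) (hη : genericPoint X ∈ V),
      germSpan (Set.range z) (genericPoint X) hη = ⊤ → ∃ O : X.Opens, O ≤ D ⊓ V ∧ genericPoint X ∈ O ∧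
        ∀ (y : X) (hyV : y ∈ V), y ∈ O → germSpan (Set.range z) y hyV = ⊤ := fun V z hη hspan => by
    choose T hT hT' hηT hm using fun i => exists_nhd_mem_span (S := Set.range z) hη hηD (s := e i)
      (hspan ▸ Submodule.mem_top)
    refine ⟨D ⊓ V ⊓ ⟨⋂ i, (T i : Set X), isOpen_iInter_of_finite fun i => (T i).isOpen⟩, inf_le_left,
      ⟨⟨hηD, hη⟩, Set.mem_iInter.2 hηT⟩, fun y hyV hy => ?_⟩
    refine eq_top_iff.2 ((hDtop y hy.1.1).ge.trans (Submodule.span_le.2 ?_))
    rintro _ ⟨_, ⟨i, rfl⟩, rfl⟩
    have := germ_mem_germSpan (hT' i) (hm i) y (Set.mem_iInter.1 hy.2 i)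
    rwa [germ_rr] at this
  by_cases hreg : IsRegularLocalRing (X.presheaf.stalk x)
  · haveI := hreg
    have hne : x ≠ genericPoint X := fun h => hx (h ▸ hηD)
    haveI := RhoShBig.isPrincipalIdealRing_of_regular_dim_le_one (X.presheaf.stalk x)
      (CurvePoints.ringKrullDim_stalk hd hne).le
    haveI := hFt x
    haveI := Euler.stalk_finite hF x
    obtain ⟨m, ⟨bx⟩⟩ := Module.basisOfFiniteTypeTorsionFree' (R := X.presheaf.stalk x) (M := F.presheaf.stalk x) |>
      fun p => (⟨p.1, ⟨p.2⟩⟩ : ∃ m, Nonempty (Module.Basis (Fin m) (X.presheaf.stalk x) (F.presheaf.stalk x)))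
    obtain ⟨V, z, hxV, hz⟩ := Euler.exists_frame_of_stalk_basis hF bx
    obtain rfl : n = m := hn.symm.trans (Euler.grank_eq_of_frame hz ⟨x, hxV⟩)
    have hzt : ∀ (y : X) (hy : y ∈ V), germSpan (Set.range z) y hy = ⊤ := fun y hy =>
      germSpan_top_of_basis z hy (Euler.bijective_germ_comb hz hy).2
    obtain ⟨W, hWV, hxW, hW⟩ := punct V D hxV hηD
    have hz' : ∀ (y : X) (hy : y ∈ W), germSpan (Set.range fun i => rr hWV (z i)) y hy = ⊤ := fun y hy => by
      rw [germSpan_range]
      simp only [germ_rr]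
      rw [← germSpan_range, hzt]
    refine ⟨W, hxW, fun i => rr hWV (z i), 1, hW, fun y hy _ => ⟨by rw [map_one]; exact isUnit_one, hz' y hy⟩,
      fun v => ?_, fun _ => ⟨by rw [map_one]; exact isUnit_one, hz' x hxW⟩⟩
    rw [hz' x hxW]; exact Submodule.mem_top
  · obtain ⟨V, hV, hxV, -⟩ := exists_isAffineOpen_mem_and_subset (x := x) (U := ⊤) trivial
    have hηV : genericPoint X ∈ V := (genericPoint_specializes x).mem_open V.2 hxV
    -- clear denominators of a basis at the generic point
    choose d z hd0 hz using fun i => WeakAss.exists_smul_eq_germ hV hηV (F.presheaf.germ D (genericPoint X) hηD (e i))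
    have hzη : germSpan (Set.range z) (genericPoint X) hηV = ⊤ := by
      refine eq_top_iff.2 ((hDtop _ hηD).ge.trans (Submodule.span_le.2 ?_))
      rintro _ ⟨_, ⟨i, rfl⟩, rfl⟩
      have hu : IsUnit (X.presheaf.germ V (genericPoint X) hηV (d i)) :=
        (Scheme.mem_basicOpen _ (d i) _ hηV).mp (WeakAss.notMem_primeAt_iff.mp (hd0 i))
      rw [SetLike.mem_coe, ← Submodule.smul_mem_iff_of_isUnit _ hu, hz i]
      exact Submodule.subset_span ⟨_, ⟨i, rfl⟩, rfl⟩
    obtain ⟨O, hO, hηO, hspanO⟩ := spread V z hηV hzη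
    obtain ⟨g, hgO, hηg⟩ := QCoh.exists_basicOpen_mem hV hηV hηO
    obtain ⟨S, hS⟩ := (QCoh.moduleFinite_of_isFiniteType F hF.2 hV).fg_top
    have hgen : ∀ s : Γ(F, V), ∃ m : ℕ, g ^ m • s ∈ Submodule.span Γ(X, V) (Set.range z) := fun s => by
      refine QCoh.exists_pow_smul_mem_span hV g _ s ((QCoh.SubData.mem_gen_iff (hV.basicOpen g) (X.basicOpen_le g) _).1
        ((mem_gen_iff_germ (Set.range z) _).2 fun y hy hyV => ?_))
      rw [hspanO y hyV (hgO hy)]; exact Submodule.mem_top
    choose m hm using hgen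
    let N := S.sup m
    have hall : ∀ s : Γ(F, V), g ^ N • s ∈ Submodule.span Γ(X, V) (Set.range z) := fun s => by
      have hs : s ∈ Submodule.span Γ(X, V) (S : Set Γ(F, V)) := hS.symm ▸ Submodule.mem_top
      induction hs using Submodule.span_induction with
      | mem w hw =>
        obtain ⟨j, hj⟩ := Nat.exists_eq_add_of_le (Finset.le_sup (f := m) hw)
        show g ^ S.sup m • w ∈ _
        rw [hj, add_comm, pow_add, mul_smul]
        exact Submodule.smul_mem _ _ (hm w)
      | zero => rw [smul_zero]; exact zero_mem _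
      | add a b _ _ ha hb => rw [smul_add]; exact add_mem ha hb
      | smul r a _ ha => rw [smul_comm]; exact Submodule.smul_mem _ _ ha
    obtain ⟨W, hWV, hxW, hW⟩ := punct V (X.basicOpen g) hxV hηg
    have hWD : ∀ y ∈ W, y ≠ x → y ∈ D := fun y hy hne => (hO (hgO (hW y hy hne))).1
    have hsp : ∀ (y : X) (hy : y ∈ W), germSpan (Set.range fun i => rr hWV (z i)) y hy =
        germSpan (Set.range z) y (hWV hy) := fun y hy => by
      rw [germSpan_range]
      simp only [germ_rr]
      rw [← germSpan_range]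
    refine ⟨W, hxW, fun i => rr hWV (z i), X.presheaf.map (homOfLE hWV).op (g ^ N), hWD, fun y hy hyD => ?_,
      fun v => ?_, fun h => absurd h hreg⟩
    · have hyg : y ∈ X.basicOpen g := hW y hy fun h => hx (h ▸ hyD)
      refine ⟨?_, (hsp y hy).trans (hspanO y (hWV hy) (hgO hyg))⟩
      rw [TopCat.Presheaf.germ_res_apply, map_pow]
      exact ((Scheme.mem_basicOpen _ g y (hWV hy)).mp hyg).pow _
    · rw [hsp x hxW, TopCat.Presheaf.germ_res_apply]
      obtain ⟨q, s, hq, hs⟩ := WeakAss.exists_smul_eq_germ hV hxV v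
      have hu : IsUnit (X.presheaf.germ V x hxV q) :=
        (Scheme.mem_basicOpen _ q x hxV).mp (WeakAss.notMem_primeAt_iff.mp hq)
      rw [← Submodule.smul_mem_iff_of_isUnit _ hu, smul_comm, hs, ← WeakAss.germ_smul]
      refine germ_mem_germSpan le_rfl ?_ x hxV
      rw [show rr le_rfl '' Set.range z = Set.range z by simp only [QCoh.rr_self, Set.image_id']]
      exact hall s

include hd in
/-- The sandwich. -/
theorem exists_sub_and_super {F : X.Modules} (hF : Coh.IsCoh F) (hFt : TorSh.IsTorsionFree F) {n : ℕ}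
    (hn : Module.finrank (X.presheaf.stalk (genericPoint X)) (F.presheaf.stalk (genericPoint X)) = n) :
    (∃ (E : X.Modules) (i : E ⟶ F), FlatMod.IsFinLocFreeOfRank n E ∧ Mono i ∧
        ∀ x : X, IsRegularLocalRing (X.presheaf.stalk x) → Subsingleton ((cokernel i).presheaf.stalk x)) ∧
      (∃ (E' : X.Modules) (j : F ⟶ E'), FlatMod.IsFinLocFreeOfRank n E' ∧ Mono j ∧
        ∀ x : X, IsRegularLocalRing (X.presheaf.stalk x) → Subsingleton ((cokernel j).presheaf.stalk x)) := by
  classical
  haveI := hF.1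
  obtain ⟨D, e, hηD, he⟩ := exists_frame_generic hd hF hn
  have hDtop : ∀ (y : X) (hy : y ∈ D), germSpan (Set.range e) y hy = ⊤ := fun y hy =>
    germSpan_top_of_basis e hy (Euler.bijective_germ_comb he hy).2
  choose W hxW z c hWD hsp hcv hreg using fun x : ((D : Set X)ᶜ : Set X) =>
    exists_local_data hd hF hFt hn hηD he x.1 x.2
  have hηW : ∀ x, genericPoint X ∈ W x := fun x => (genericPoint_specializes x.1).mem_open (W x).2 (hxW x)
  let κ := Option ((D : Set X)ᶜ : Set X)
  let Wk : κ → X.Opens := fun a => a.elim D W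
  have hcov : ∀ y : X, ∃ a, y ∈ Wk a := fun y =>
    if h : y ∈ D then ⟨none, h⟩ else ⟨some ⟨y, h⟩, hxW ⟨y, h⟩⟩
  -- two different pieces only meet inside `D`
  have hmeet : ∀ (a b : κ) (y : X), y ∈ Wk a → y ∈ Wk b → a = b ∨ y ∈ D := by
    intro a b y ha hb
    cases a with
    | none => exact Or.inr ha
    | some x =>
      cases b with
      | none => exact Or.inr hb
      | some x' =>
        by_cases h : y = x.1
        · by_cases h' : y = x'.1
          · exact Or.inl (congrArg some (Subtype.ext (h.symm.trans h')))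
          · exact Or.inr (hWD x' y hb h')
        · exact Or.inr (hWD x y ha h)
  refine ⟨?_, ?_⟩
  · -- submodule
    let S : ∀ a : κ, Set Γ(F, Wk a) := fun a => match a with
      | none => Set.range e
      | some x => Set.range (z x)
    have htop : ∀ (a : κ) (y : X) (hy : y ∈ Wk a), y ∈ D → germSpan (S a) y hy = ⊤ := by
      intro a y hy hyD
      cases a with
      | none => exact hDtop y hy
      | some x => exact (hsp x y hy hyD).2
    obtain ⟨P, hP, -, hrange⟩ := exists_sub Wk S (fun a => by cases a <;> exact Set.finite_range _) hcov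
      (fun a b y ha hb => by
        rcases hmeet a b y ha hb with rfl | hyD
        · rfl
        · rw [htop a y ha hyD, htop b y hb hyD])
    haveI : Mono P.ι := QCoh.mono_of_app_injective _ P.ι_app_injective
    refine ⟨P.obj, P.ι, OmegaFree.isFinLocFreeOfRank_of_free_stalks hP n fun y => ?_, inferInstance,
      fun y hy => QCoh.stalk_subsingleton_of_notMem (QCoh.notMem_support_cokernel_of_surjective _
        (LinearMap.range_eq_top.1 ?_))⟩
    · by_cases hyD : y ∈ D
      · exact exists_basis_of_range P.ι e hyD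
          (linearIndependent_of_span_top hn e hηD (hDtop _ hηD) hyD) (hrange none y hyD)
      · exact exists_basis_of_range P.ι (z ⟨y, hyD⟩) (hxW ⟨y, hyD⟩)
          (linearIndependent_of_span_top hn (z ⟨y, hyD⟩) (hηW _) (hsp _ _ (hηW _) hηD).2 (hxW ⟨y, hyD⟩))
          (hrange (some ⟨y, hyD⟩) y (hxW ⟨y, hyD⟩))
    · by_cases hyD : y ∈ D
      · rw [hrange none y hyD]; exact hDtop y hyD
      · rw [hrange (some ⟨y, hyD⟩) y (hxW ⟨y, hyD⟩)]; exact (hreg ⟨y, hyD⟩ hy).2
  · -- overmodule inside the extension by the open set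
    let M : X.Modules := (Scheme.Modules.pushforward D.ι).obj (F.restrict D.ι)
    haveI : (F.restrict D.ι).IsQuasicoherent := (Cohom.isCoh_restrict F hF D.ι).1
    haveI : M.IsQuasicoherent := QCoh.isQuasicoherent_pushforward D.ι (F.restrict D.ι)
    let b : F ⟶ M := (Scheme.Modules.restrictAdjunction D.ι).unit.app F
    have hbD : ∀ y ∈ D, Function.Bijective (stalkLin b y) := fun y hy =>
      Euler.stalkLin_bijective_of_app_bijective b hy fun T hT => Euler.unit_app_bijective F D hT
    haveI : Mono b := QCoh.mono_of_app_injective b fun U => (injective_iff_map_eq_zero _).2 fun s hs =>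
      RatSheaf9.eq_zero_of_generic hFt s fun hU => (hbD _ hηD).1 (by
        rw [QCoh.stalkLin_germ, map_zero, hs, map_zero])
    have hnM : Module.finrank (X.presheaf.stalk (genericPoint X)) (M.presheaf.stalk (genericPoint X)) = n :=
      ((LinearEquiv.ofBijective (stalkLin b (genericPoint X)) (hbD _ hηD)).finrank_eq).symm.trans hn
    have hcD : ∀ x, IsUnit (X.presheaf.map (homOfLE (inf_le_left : W x ⊓ D ≤ W x)).op (c x)) := fun x =>
      RingedSpace.isUnit_of_isUnit_germ X.toRingedSpace _ _ fun y hy => by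
        show IsUnit (X.presheaf.germ (W x ⊓ D) y hy _)
        rw [TopCat.Presheaf.germ_res_apply]
        exact (hsp x y hy.1 hy.2).1
    have hdiv : ∀ x i, ∃ t : Γ(M, W x), c x • t = b.app (W x) (z x i) := fun x i => by
      obtain ⟨u, hu⟩ := hcD x
      obtain ⟨t, ht⟩ := (push_res_bijective F D (W x)).2 (((u⁻¹ : _ˣ) : Γ(X, W x ⊓ D)) • rr inf_le_left (b.app (W x) (z x i)))
      refine ⟨t, (push_res_bijective F D (W x)).1 ?_⟩
      rw [QCoh.rr_smul, ht, smul_smul, ← hu, Units.mul_inv, one_smul]
    choose t ht using hdiv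
    have hct : ∀ x (y : X) (hy : y ∈ W x) (i : Fin n),
        X.presheaf.germ (W x) y hy (c x) • M.presheaf.germ (W x) y hy (t x i) =
          stalkLin b y (F.presheaf.germ (W x) y hy (z x i)) := fun x y hy i => by
      rw [← WeakAss.germ_smul, ht, QCoh.stalkLin_germ]
    have hcancel : ∀ x (y : X) (hy : y ∈ W x) (m : M.presheaf.stalk y),
        X.presheaf.germ (W x) y hy (c x) • m = 0 → m = 0 := fun x y hy m hm => by
      obtain ⟨T, hyT, s, rfl⟩ := TopCat.Presheaf.exists_germ_eq M.presheaf m
      have h0 : M.presheaf.germ (W x ⊓ T) y ⟨hy, hyT⟩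
          (X.presheaf.map (homOfLE (inf_le_left : W x ⊓ T ≤ W x)).op (c x) • rr inf_le_right s) = 0 := by
        rw [WeakAss.germ_smul, germ_rr, TopCat.Presheaf.germ_res_apply, hm]
      obtain ⟨A, hA, i₁, i₂, e0⟩ := TopCat.Presheaf.germ_eq M.presheaf (U := W x ⊓ T) (V := W x ⊓ T) y ⟨hy, hyT⟩ ⟨hy, hyT⟩ _ 0 (h0.trans (map_zero _).symm)
      rw [map_zero] at e0
      have e1 : X.presheaf.map (homOfLE (i₁.le.trans inf_le_left : A ≤ W x)).op (c x) •
          rr (i₁.le.trans inf_le_right : A ≤ T) s = 0 := by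
        rw [← QCoh.rr_rr inf_le_right i₁.le s, ← e0]
        show _ = rr i₁.le (_ • rr inf_le_right s)
        rw [QCoh.rr_smul, ← ConcreteCategory.comp_apply, ← Functor.map_comp]
        rfl
      have e2 := congrArg (rr (inf_le_left : A ⊓ D ≤ A)) e1
      rw [QCoh.rr_smul, map_zero, ← ConcreteCategory.comp_apply, ← Functor.map_comp] at e2
      have hu : IsUnit (X.presheaf.map ((homOfLE (i₁.le.trans inf_le_left : A ≤ W x)).op ≫
          (homOfLE (inf_le_left : A ⊓ D ≤ A)).op) (c x)) := by
        have := (hcD x).map (X.presheaf.map (homOfLE (inf_le_inf_right D (i₁.le.trans inf_le_left) : A ⊓ D ≤ W x ⊓ D)).op).hom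
        rw [← ConcreteCategory.comp_apply, ← Functor.map_comp] at this
        exact this
      rw [hu.smul_eq_zero] at e2
      rw [← germ_rr (i₁.le.trans inf_le_right) y hA s, (push_res_bijective F D A).1 (e2.trans (map_zero _).symm),
        map_zero]
    let e' : Fin n → Γ(M, D) := fun i => b.app D (e i)
    let S : ∀ a : κ, Set Γ(M, Wk a) := fun a => match a with
      | none => Set.range e'
      | some x => Set.range (t x)
    have htopD : ∀ (y : X) (hy : y ∈ D), germSpan (Set.range e') y hy = ⊤ := fun y hy => by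
      refine eq_top_iff.2 fun v _ => ?_
      obtain ⟨w, rfl⟩ := (hbD y hy).2 v
      have hw : w ∈ germSpan (Set.range e) y hy := (hDtop y hy).symm ▸ Submodule.mem_top
      have := Submodule.mem_map_of_mem (f := stalkLin b y) hw
      rw [germSpan_range, Submodule.map_span, ← Set.range_comp] at this
      rw [germSpan_range]
      convert this using 3
      funext i
      exact (QCoh.stalkLin_germ b hy (e i)).symm
    have hsub : ∀ x (y : X) (hy : y ∈ W x) (v : F.presheaf.stalk y),
        X.presheaf.germ (W x) y hy (c x) • v ∈ germSpan (Set.range (z x)) y hy →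
          stalkLin b y v ∈ germSpan (Set.range (t x)) y hy := fun x y hy v hv => by
      rw [germSpan_range, Submodule.mem_span_range_iff_exists_fun] at hv ⊢
      obtain ⟨a, ha⟩ := hv
      refine ⟨a, sub_eq_zero.1 (hcancel x y hy _ ?_)⟩
      rw [smul_sub, ← map_smul, ← ha, map_sum, Finset.smul_sum, sub_eq_zero]
      exact Finset.sum_congr rfl fun i _ => by rw [map_smul, smul_comm, hct]
    have htop : ∀ (a : κ) (y : X) (hy : y ∈ Wk a), y ∈ D → germSpan (S a) y hy = ⊤ := by
      intro a y hy hyD
      cases a with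
      | none => exact htopD y hy
      | some x =>
        refine eq_top_iff.2 fun v _ => ?_
        obtain ⟨w, rfl⟩ := (hbD y hyD).2 v
        exact hsub x y hy w ((hsp x y hy hyD).2.symm ▸ Submodule.mem_top)
    obtain ⟨P, hP, hmem, hrange⟩ := exists_sub Wk S (fun a => by cases a <;> exact Set.finite_range _) hcov
      (fun a b y ha hb => by
        rcases hmeet a b y ha hb with rfl | hyD
        · rfl
        · rw [htop a y ha hyD, htop b y hb hyD])
    have hin : ∀ (a : κ) (y : X) (hy : y ∈ Wk a) (v : F.presheaf.stalk y),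
        stalkLin b y v ∈ germSpan (S a) y hy := by
      intro a y hy v
      by_cases hyD : y ∈ D
      · rw [htop a y hy hyD]; exact Submodule.mem_top
      · cases a with
        | none => exact absurd hy hyD
        | some x =>
          obtain rfl : y = x.1 := by_contra fun h => hyD (hWD x y hy h)
          exact hsub x x.1 hy v (hcv x v)
    obtain ⟨j, hj⟩ := exists_factor b P fun U s => hmem U _ fun a y hyU hy => by
      rw [← QCoh.stalkLin_germ b hyU s]; exact hin a y hy _
    haveI : Mono P.ι := QCoh.mono_of_app_injective _ P.ι_app_injective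
    haveI : Mono j := mono_of_mono_fac hj
    refine ⟨P.obj, j, OmegaFree.isFinLocFreeOfRank_of_free_stalks hP n fun y => ?_, inferInstance,
      fun y hy => QCoh.stalk_subsingleton_of_notMem (QCoh.notMem_support_cokernel_of_surjective _ fun w => ?_)⟩
    · by_cases hyD : y ∈ D
      · exact exists_basis_of_range P.ι e' hyD
          (linearIndependent_of_span_top hnM e' hηD (htopD _ hηD) hyD) (hrange none y hyD)
      · exact exists_basis_of_range P.ι (t ⟨y, hyD⟩) (hxW ⟨y, hyD⟩)
          (linearIndependent_of_span_top hnM (t ⟨y, hyD⟩) (hηW _) (htop (some ⟨y, hyD⟩) _ (hηW _) hηD) (hxW ⟨y, hyD⟩))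
          (hrange (some ⟨y, hyD⟩) y (hxW ⟨y, hyD⟩))
    · suffices h : ∃ v, stalkLin b y v = stalkLin P.ι y w by
        obtain ⟨v, hv⟩ := h
        exact ⟨v, QCoh.stalkLin_injective P.ι y (by rw [← QCoh.stalkLin_comp, hj, hv])⟩
      by_cases hyD : y ∈ D
      · exact (hbD y hyD).2 _
      · have hw : stalkLin P.ι y w ∈ germSpan (Set.range (t ⟨y, hyD⟩)) y (hxW ⟨y, hyD⟩) :=
          hrange (some ⟨y, hyD⟩) y (hxW ⟨y, hyD⟩) ▸ LinearMap.mem_range_self _ w
        rw [germSpan_range, Submodule.mem_span_range_iff_exists_fun] at hw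
        obtain ⟨a, ha⟩ := hw
        obtain ⟨u, hu⟩ := (hreg ⟨y, hyD⟩ hy).1
        refine ⟨((u⁻¹ : _ˣ) : X.presheaf.stalk y) • ∑ i, a i • F.presheaf.germ (W ⟨y, hyD⟩) y (hxW _) (z ⟨y, hyD⟩ i), ?_⟩
        rw [← ha, map_smul, map_sum, Finset.smul_sum]
        refine Finset.sum_congr rfl fun i _ => ?_
        rw [map_smul, ← hct, ← hu, smul_comm (a i) (u : X.presheaf.stalk y), smul_smul, Units.inv_mul, one_smul]

end GrothLib.Sandwich11
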