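import Groth.Agent.Lib.QCoh.LocGen
import Groth.Agent.Lib.QCoh.GenericPoint
import Groth.Agent.Lib.WeakAss.Basic
import Mathlib.AlgebraicGeometry.FunctionField

/-!
# Submodules prescribed by spans of germs
-/

set_option autoImplicit false
set_option linter.all false
set_option backward.isDefEq.respectTransparency false

universe u

open CategoryTheory CategoryTheory.Limits Opposite AlgebraicGeometry TopologicalSpace

noncomputable section

namespace GrothLib.SubGerm11

open GrothLib.QCoh GrothLib.QCoh.SubData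

variable {X : Scheme.{u}} {M : X.Modules}

/-- The span of the germs at `y` of a set of sections. -/
def germSpan {V : X.Opens} (S : Set Γ(M, V)) (y : X) (hy : y ∈ V) :
    Submodule (X.presheaf.stalk y) (M.presheaf.stalk y) :=
  Submodule.span _ (M.presheaf.germ V y hy '' S)

theorem germ_rr {U V : X.Opens} (h : V ≤ U) (y : X) (hy : y ∈ V) (s : Γ(M, U)) :
    M.presheaf.germ V y hy (rr h s) = M.presheaf.germ U y (h hy) s :=
  TopCat.Presheaf.germ_res_apply M.presheaf (homOfLE h) y hy s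

theorem germ_mem_germSpan {V T : X.Opens} {S : Set Γ(M, V)} (h : T ≤ V) {t : Γ(M, T)}
    (ht : t ∈ Submodule.span Γ(X, T) (rr h '' S)) (y : X) (hy : y ∈ T) :
    M.presheaf.germ T y hy t ∈ germSpan S y (h hy) := by
  induction ht using Submodule.span_induction with
  | mem w hw =>
    obtain ⟨s, hs, rfl⟩ := hw
    rw [germ_rr]
    exact Submodule.subset_span ⟨s, hs, rfl⟩
  | zero => rw [map_zero]; exact zero_mem _
  | add a b _ _ ha hb => rw [map_add]; exact add_mem ha hb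
  | smul r a _ ha => rw [WeakAss.germ_smul]; exact Submodule.smul_mem _ _ ha

theorem exists_rep_of_mem_germSpan {V : X.Opens} {S : Set Γ(M, V)} {y : X} (hy : y ∈ V)
    {v : M.presheaf.stalk y} (hv : v ∈ germSpan S y hy) :
    ∃ (T : X.Opens) (h : T ≤ V) (hyT : y ∈ T) (t : Γ(M, T)),
      t ∈ Submodule.span Γ(X, T) (rr h '' S) ∧ M.presheaf.germ T y hyT t = v := by
  induction hv using Submodule.span_induction with
  | mem w hw =>
    obtain ⟨s, hs, rfl⟩ := hw
    exact ⟨V, le_rfl, hy, rr le_rfl s, Submodule.subset_span ⟨s, hs, rfl⟩, germ_rr _ _ _ _⟩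
  | zero => exact ⟨V, le_rfl, hy, 0, zero_mem _, map_zero _⟩
  | add a b _ _ ha hb =>
    obtain ⟨T₁, h₁, hy₁, t₁, m₁, rfl⟩ := ha
    obtain ⟨T₂, h₂, hy₂, t₂, m₂, rfl⟩ := hb
    refine ⟨T₁ ⊓ T₂, inf_le_left.trans h₁, ⟨hy₁, hy₂⟩, rr inf_le_left t₁ + rr inf_le_right t₂,
      add_mem (rr_mem_span' h₁ inf_le_left m₁) (rr_mem_span' h₂ inf_le_right m₂), ?_⟩
    rw [map_add, germ_rr, germ_rr]
  | smul c a _ ha =>
    obtain ⟨T₁, h₁, hy₁, t₁, m₁, rfl⟩ := ha
    obtain ⟨A, hyA, r, rfl⟩ := TopCat.Presheaf.exists_germ_eq X.presheaf c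
    refine ⟨T₁ ⊓ A, inf_le_left.trans h₁, ⟨hy₁, hyA⟩,
      X.presheaf.map (homOfLE (inf_le_right : T₁ ⊓ A ≤ A)).op r • rr inf_le_left t₁,
      Submodule.smul_mem _ _ (rr_mem_span' h₁ inf_le_left m₁), ?_⟩
    rw [WeakAss.germ_smul, germ_rr, TopCat.Presheaf.germ_res_apply]

theorem exists_nhd_mem_span {V T : X.Opens} {S : Set Γ(M, V)} {y : X} (hyV : y ∈ V) (hyT : y ∈ T)
    {s : Γ(M, T)} (hs : M.presheaf.germ T y hyT s ∈ germSpan S y hyV) :
    ∃ (T' : X.Opens) (h : T' ≤ T) (h' : T' ≤ V), y ∈ T' ∧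
      rr h s ∈ Submodule.span Γ(X, T') (rr h' '' S) := by
  obtain ⟨T₁, h₁, hy₁, t, ht, he⟩ := exists_rep_of_mem_germSpan hyV hs
  obtain ⟨W, hW, i₁, i₂, e⟩ := TopCat.Presheaf.germ_eq M.presheaf y hy₁ hyT t s he
  refine ⟨W, i₂.le, i₁.le.trans h₁, hW, ?_⟩
  have := rr_mem_span' h₁ i₁.le ht
  rwa [show rr i₁.le t = rr i₂.le s from e] at this

theorem mem_gen_iff_germ {V : X.Opens} (S : Set Γ(M, V)) {T : X.Opens} (s : Γ(M, T)) :
    s ∈ (SubData.gen S).sec T ↔
      ∀ (y : X) (hyT : y ∈ T) (hyV : y ∈ V), M.presheaf.germ T y hyT s ∈ germSpan S y hyV := by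
  constructor
  · intro hs y hyT hyV
    obtain ⟨T', h, h', hy', hm⟩ := hs y hyT hyV
    have := germ_mem_germSpan h' hm y hy'
    rwa [germ_rr] at this
  · intro hs y hyT hyV
    exact exists_nhd_mem_span hyV hyT (hs y hyT hyV)

/-- Compatible finitely generated spans of germs define a finite type submodule. -/
theorem exists_sub [M.IsQuasicoherent] {κ : Type*} (W : κ → X.Opens) (S : ∀ a, Set Γ(M, W a))
    (hfin : ∀ a, (S a).Finite) (hcov : ∀ y : X, ∃ a, y ∈ W a)
    (hcompat : ∀ (a b : κ) (y : X) (ha : y ∈ W a) (hb : y ∈ W b), germSpan (S a) y ha = germSpan (S b) y hb) :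
    ∃ P : SubData M, Coh.IsCoh P.obj ∧
      (∀ (T : X.Opens) (s : Γ(M, T)), (∀ (a : κ) (y : X) (hyT : y ∈ T) (hy : y ∈ W a),
        M.presheaf.germ T y hyT s ∈ germSpan (S a) y hy) → s ∈ P.sec T) ∧
      ∀ (a : κ) (y : X) (hy : y ∈ W a), LinearMap.range (QCoh.stalkLin P.ι y) = germSpan (S a) y hy := by
  let P : SubData M := SubData.inter fun a => SubData.gen (S a)
  have hmem : ∀ (T : X.Opens) (s : Γ(M, T)), s ∈ P.sec T ↔ ∀ (a : κ) (y : X) (hyT : y ∈ T) (hy : y ∈ W a),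
      M.presheaf.germ T y hyT s ∈ germSpan (S a) y hy := fun T s => by
    rw [SubData.mem_inter]
    exact forall_congr' fun a => mem_gen_iff_germ (S a) s
  have hloc : ∀ (b : κ) (T : X.Opens), T ≤ W b → P.sec T = (SubData.gen (S b)).sec T := fun b T hT => by
    ext s
    rw [hmem, mem_gen_iff_germ]
    exact ⟨fun h y hyT hy => h b y hyT hy, fun h a y hyT hy => hcompat b a y (hT hyT) hy ▸ h y hyT (hT hyT)⟩
  have hgen : SubData.LocGen P ⊤ := fun x _ => by
    obtain ⟨b, hb⟩ := hcov x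
    obtain ⟨U, hU, hxU, hUb⟩ := exists_isAffineOpen_mem_and_subset hb
    have hUb : U ≤ W b := hUb
    exact ⟨U, hU, hxU, le_top, rr hUb '' S b, (hfin b).image _, fun T hT =>
      (hloc b T (hT.trans hUb)).trans (SubData.gen_image_rr hUb (S b) hT).symm⟩
  refine ⟨P, ⟨hgen.isQuasicoherent, hgen.isFiniteType⟩, fun T s h => (hmem T s).2 h, fun a y hy => ?_⟩
  refine le_antisymm ?_ ?_
  · rintro _ ⟨v, rfl⟩
    obtain ⟨U, hU, s, rfl⟩ := TopCat.Presheaf.exists_germ_eq P.obj.presheaf v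
    rw [QCoh.stalkLin_germ]
    exact (hmem U _).1 (P.ι_app_mem s) a y hU hy
  · intro v hv
    obtain ⟨T, h, hyT, t, ht, rfl⟩ := exists_rep_of_mem_germSpan hy hv
    have htP : t ∈ P.sec T := by rw [hloc a T h]; exact SubData.mem_gen_of_mem_span h ht
    exact ⟨P.obj.presheaf.germ T y hyT (P.lift t htP), by rw [QCoh.stalkLin_germ, SubData.ι_app_lift]⟩

/-- A morphism landing in a submodule factors through it. -/
theorem exists_factor {N : X.Modules} (g : N ⟶ M) (P : SubData M)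
    (h : ∀ (U : X.Opens) (s : Γ(N, U)), g.app U s ∈ P.sec U) : ∃ q : N ⟶ P.obj, q ≫ P.ι = g := by
  let q : N ⟶ P.obj :=
    ⟨PresheafOfModules.homMk
      { app := fun U ↦ AddCommGrpCat.ofHom (AddMonoidHom.mk'
          (fun s ↦ (P.lift (g.app U.unop s) (h U.unop s) : Γ(P.obj, U.unop)))
          fun a b ↦ Subtype.ext (map_add _ a b))
        naturality := fun U V f ↦ AddCommGrpCat.ext fun s ↦ Subtype.ext
          (QCoh.map_app g f.unop s).symm }
      (fun U r s ↦ Subtype.ext (Scheme.Modules.Hom.app_smul g r s))⟩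
  exact ⟨q, Scheme.Modules.hom_ext _ _ fun U => AddCommGrpCat.ext fun s => rfl⟩

/-- On an integral scheme, independence at the generic point gives independence of germs. -/
theorem linearIndependent_germ [IsIntegral X] {n : ℕ} {V : X.Opens} (t : Fin n → Γ(M, V)) {y : X} (hy : y ∈ V)
    (hη : genericPoint X ∈ V)
    (h : LinearIndependent (X.presheaf.stalk (genericPoint X))
      fun i => M.presheaf.germ V (genericPoint X) hη (t i)) :
    LinearIndependent (X.presheaf.stalk y) fun i => M.presheaf.germ V y hy (t i) := by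
  rw [Fintype.linearIndependent_iff] at h ⊢
  intro a ha
  choose U hU r hr using fun i => TopCat.Presheaf.exists_germ_eq X.presheaf (a i)
  let U₀ : X.Opens := ⟨⋂ i, (U i : Set X), isOpen_iInter_of_finite fun i => (U i).isOpen⟩
  let i₁ : ∀ i, U₀ ⊓ V ≤ U i := fun i => inf_le_left.trans fun z hz => Set.mem_iInter.1 hz i
  have hyT : y ∈ U₀ ⊓ V := ⟨Set.mem_iInter.2 hU, hy⟩
  let c : Fin n → Γ(X, U₀ ⊓ V) := fun i => X.presheaf.map (homOfLE (i₁ i)).op (r i)
  let s : Γ(M, U₀ ⊓ V) := ∑ i, c i • rr inf_le_right (t i)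
  have key : ∀ (z : X) (hz : z ∈ U₀ ⊓ V), M.presheaf.germ (U₀ ⊓ V) z hz s =
      ∑ i, X.presheaf.germ (U₀ ⊓ V) z hz (c i) • M.presheaf.germ V z hz.2 (t i) := fun z hz => by
    rw [map_sum]
    exact Finset.sum_congr rfl fun i _ => by rw [WeakAss.germ_smul, germ_rr]
  have h0 : M.presheaf.germ (U₀ ⊓ V) y hyT s = 0 := by
    rw [key, ← ha]
    exact Finset.sum_congr rfl fun i _ => by rw [TopCat.Presheaf.germ_res_apply, hr]
  obtain ⟨W, hW, j₁, j₂, e⟩ := TopCat.Presheaf.germ_eq M.presheaf y hyT hyT s 0 (h0.trans (map_zero _).symm)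
  have hηW : genericPoint X ∈ W := (genericPoint_specializes y).mem_open W.2 hW
  have h1 : M.presheaf.germ (U₀ ⊓ V) (genericPoint X) (j₁.le hηW) s = 0 := by
    rw [← TopCat.Presheaf.germ_res_apply M.presheaf j₁ (genericPoint X) hηW s, e,
      TopCat.Presheaf.germ_res_apply, map_zero]
  rw [key] at h1
  intro i
  haveI : Nonempty ↥(U₀ ⊓ V) := ⟨⟨y, hyT⟩⟩
  have hc : c i = 0 := (map_eq_zero_iff _
    (germ_injective_of_isIntegral X (genericPoint X) (j₁.le hηW))).1 (h _ h1 i)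
  rw [← hr i, ← TopCat.Presheaf.germ_res_apply X.presheaf (homOfLE (i₁ i)) y hyT (r i)]
  exact (congrArg (X.presheaf.germ (U₀ ⊓ V) y hyT) hc).trans (map_zero _)

end GrothLib.SubGerm11
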