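import Groth.Agent.Lib.Tor1Ker.Basic
import Groth.Agent.Lib.HTor22.TorIso
import Mathlib.RingTheory.Flat.Localization
import Mathlib.RingTheory.FiniteLength
import Mathlib.RingTheory.KrullDimension.Field
import Mathlib.RingTheory.Artinian.Ring

/-!
# First Tor of an extension of a one-dimensional domain against torsion-free modules
-/

set_option autoImplicit false
set_option linter.all false
set_option backward.isDefEq.respectTransparency false

universe u

open TensorProduct CategoryTheory

noncomputable section

namespace GrothLib.TFCurv11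

variable {O : Type u} [CommRing O] {K₀ P R : Type u} [AddCommGroup K₀] [Module O K₀] [AddCommGroup P] [Module O P]
  [AddCommGroup R] [Module O R] (i : K₀ →ₗ[O] P) (p : P →ₗ[O] R)
  {A M T : Type u} [AddCommGroup A] [Module O A] [AddCommGroup M] [Module O M] [AddCommGroup T] [Module O T]
  (f : A →ₗ[O] M) (π : M →ₗ[O] T)

/-- Snake lemma for the kernels of `K₀ ⊗ - → P ⊗ -`. -/
theorem exists_kerEquiv [Module.Flat O P] [Module.Flat O A] (hi : Function.Injective i) (he : Function.Exact i p)
    (hp : Function.Surjective p) (hf : Function.Injective f) (hex : Function.Exact f π)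
    (hπ : Function.Surjective π) (hR : Function.Injective (f.lTensor R)) :
    Nonempty (LinearMap.ker (i.rTensor M) ≃ₗ[O] LinearMap.ker (i.rTensor T)) := by
  have hsq : ∀ {X Y : Type u} [AddCommGroup X] [Module O X] [AddCommGroup Y] [Module O Y] (g : X →ₗ[O] Y)
      {U V : Type u} [AddCommGroup U] [Module O U] [AddCommGroup V] [Module O V] (φ : U →ₗ[O] V) (x : U ⊗[O] X),
      g.lTensor V (φ.rTensor X x) = φ.rTensor Y (g.lTensor U x) := fun g _ _ _ _ _ _ φ x => by
    rw [← LinearMap.comp_apply, ← LinearMap.comp_apply, LinearMap.lTensor_comp_rTensor, LinearMap.rTensor_comp_lTensor]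
  let Φ : LinearMap.ker (i.rTensor M) →ₗ[O] LinearMap.ker (i.rTensor T) :=
    ((π.lTensor K₀).comp (LinearMap.ker (i.rTensor M)).subtype).codRestrict _ fun x => by
      show i.rTensor T (π.lTensor K₀ x.1) = 0
      rw [← hsq π i, LinearMap.mem_ker.1 x.2, map_zero]
  refine ⟨LinearEquiv.ofBijective Φ ⟨(injective_iff_map_eq_zero Φ).2 fun x hx => ?_, fun z => ?_⟩⟩
  · obtain ⟨y, hy⟩ := (lTensor_exact K₀ hex hπ x.1).1 (congrArg Subtype.val hx)
    have h1 : f.lTensor P (i.rTensor A y) = 0 := by rw [hsq f i, hy]; exact x.2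
    have h2 : i.rTensor A y = 0 :=
      Module.Flat.lTensor_preserves_injective_linearMap (M := P) f hf (h1.trans (map_zero _).symm)
    have h3 : y = 0 := Module.Flat.rTensor_preserves_injective_linearMap (M := A) i hi (h2.trans (map_zero _).symm)
    exact Subtype.ext (by rw [← hy, h3, map_zero]; rfl)
  · obtain ⟨x, hx⟩ := LinearMap.lTensor_surjective K₀ hπ z.1
    have h1 : π.lTensor P (i.rTensor M x) = 0 := by rw [hsq π i, hx]; exact z.2
    obtain ⟨w, hw⟩ := (lTensor_exact P hex hπ _).1 h1
    have h2 : f.lTensor R (p.rTensor A w) = 0 := by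
      rw [hsq f p, hw, ← LinearMap.rTensor_comp_apply, he.linearMap_comp_eq_zero, LinearMap.rTensor_zero,
        LinearMap.zero_apply]
    obtain ⟨w', hw'⟩ := (rTensor_exact A he hp w).1 (hR (h2.trans (map_zero _).symm))
    refine ⟨⟨x - f.lTensor K₀ w', ?_⟩, Subtype.ext ?_⟩
    · rw [LinearMap.mem_ker, map_sub, ← hsq f i, hw', hw, sub_self]
    · show π.lTensor K₀ (x - f.lTensor K₀ w') = z.1
      rw [map_sub, hx, ← LinearMap.lTensor_comp_apply, hex.linearMap_comp_eq_zero, LinearMap.lTensor_zero,
        LinearMap.zero_apply, sub_zero]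

variable [IsDomain O] (K : Type u) [Field K] [Algebra O K] [IsFractionRing O K]

theorem lTensor_injective_of_embedding (f : A →ₗ[O] M) (hf : Function.Injective f) [Module.Flat O A]
    (ι : R →ₗ[O] K) (hι : Function.Injective ι) : Function.Injective (f.lTensor R) := by
  haveI : Module.Flat O K := IsLocalization.flat K (nonZeroDivisors O)
  intro x y hxy
  refine Module.Flat.rTensor_preserves_injective_linearMap (M := A) ι hι
    (Module.Flat.lTensor_preserves_injective_linearMap (M := K) f hf ?_)
  rw [← LinearMap.comp_apply, ← LinearMap.comp_apply (g := ι.rTensor A), LinearMap.lTensor_comp_rTensor,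
    ← LinearMap.rTensor_comp_lTensor, LinearMap.comp_apply, LinearMap.comp_apply, hxy]

omit K in
theorem exists_annihilator [IsNoetherianRing O] (hdim : ringKrullDim O = 1) [Module.Finite O T]
    (hT : IsFiniteLength O T) : ∃ d : O, d ≠ 0 ∧ ∀ t : T, d • t = 0 := by
  haveI : IsArtinian O T := (isFiniteLength_iff_isNoetherian_isArtinian.1 hT).2
  have h1 : ∀ t : T, ∃ d : O, d ≠ 0 ∧ d • t = 0 := by
    intro t
    by_contra hcon
    push Not at hcon
    have hinj : Function.Injective (LinearMap.toSpanSingleton O T t) := by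
      rw [injective_iff_map_eq_zero]
      intro d hd
      by_contra hd0
      exact hcon d hd0 hd
    haveI : IsArtinianRing O := isArtinian_of_injective (LinearMap.toSpanSingleton O T t) hinj
    rw [ringKrullDim_eq_zero_of_isField (IsArtinianRing.isField_of_isDomain O)] at hdim
    exact zero_ne_one hdim
  choose d hd0 hd using h1
  obtain ⟨s, hs⟩ := ‹Module.Finite O T›.fg_top
  refine ⟨∏ t ∈ s, d t, Finset.prod_ne_zero_iff.2 fun t _ => hd0 t, fun t => ?_⟩
  have ht : t ∈ Submodule.span O (s : Set T) := hs ▸ Submodule.mem_top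
  induction ht using Submodule.span_induction with
  | mem x hx =>
    obtain ⟨c, hc⟩ := Finset.dvd_prod_of_mem d hx
    rw [hc, mul_comm, mul_smul, hd, smul_zero]
  | zero => rw [smul_zero]
  | add x y _ _ hx hy => rw [smul_add, hx, hy, add_zero]
  | smul r x _ hx => rw [smul_comm, hx, smul_zero]

end GrothLib.TFCurv11
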