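import Groth.Agent.Lib.TFCurv11.CubicalApps

/-!
# Two-generated monomial modules over monomial curve singularities
-/

set_option autoImplicit false
set_option linter.all false
set_option backward.isDefEq.respectTransparency false

universe u

open CategoryTheory PowerSeries

noncomputable section

namespace GrothLib.TFCurv11

variable {k : Type u} [Field k] {Γ : Set ℕ} {A : Subalgebra k k⟦X⟧}

/-- `A` is the ring of power series with exponents in the submonoid `Γ`. -/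
structure IsMono (Γ : Set ℕ) (A : Subalgebra k k⟦X⟧) : Prop where
  mem : ∀ f : k⟦X⟧, f ∈ A ↔ ∀ m : ℕ, coeff m f ≠ 0 → m ∈ Γ
  zero : 0 ∈ Γ
  add : ∀ a b, a ∈ Γ → b ∈ Γ → a + b ∈ Γ

/-- Length over a subalgebra with the expected units is dimension over `k`. -/
theorem length_eq_of_units (hu : ∀ x : A, IsUnit x ↔ constantCoeff (x : k⟦X⟧) ≠ 0)
    (Q : Type u) [AddCommGroup Q] [Module A Q] [Module k Q] [IsScalarTower k A Q]
    {ι : Type*} [Fintype ι] (e : Q ≃ₗ[k] (ι → k)) : Module.length A Q = (Fintype.card ι : ℕ∞) := by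
  haveI : IsLocalRing A := IsLocalRing.of_nonunits_add fun a b ha hb => by
    rw [mem_nonunits_iff, hu, not_not] at ha hb ⊢
    show constantCoeff ((a : k⟦X⟧) + (b : k⟦X⟧)) = 0
    rw [map_add, ha, hb, add_zero]
  have h1 : Module.length k Q = (Fintype.card ι : ℕ∞) := by
    haveI : Module.Finite k Q := Module.Finite.equiv e.symm
    rw [Module.length_eq_finrank, LinearEquiv.finrank_eq e, Module.finrank_fintype_fun_eq_card]
  haveI : IsLocalHom (algebraMap k A) := ⟨fun a ha => isUnit_iff_ne_zero.2 fun h => by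
    rw [h, map_zero] at ha
    exact not_isUnit_zero ha⟩
  have hs : Function.Surjective (algebraMap k (IsLocalRing.ResidueField A)) := fun z => by
    obtain ⟨a, rfl⟩ := IsLocalRing.residue_surjective z
    refine ⟨constantCoeff (a : k⟦X⟧), Ideal.Quotient.eq.2 fun h => ?_⟩
    exact (hu _).1 h (by simp [AddSubgroupClass.coe_sub])
  have h2 : Module.length (IsLocalRing.ResidueField k) (IsLocalRing.ResidueField A) = 1 := by
    have hone : Module.finrank (IsLocalRing.ResidueField k) (IsLocalRing.ResidueField A) = 1 :=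
      finrank_eq_one (1 : IsLocalRing.ResidueField A) one_ne_zero fun w => by
        obtain ⟨c, rfl⟩ := hs w
        refine ⟨IsLocalRing.residue k c, ?_⟩
        rw [Algebra.smul_def, mul_one]
        rfl
    haveI := Module.finite_of_finrank_eq_succ hone
    rw [Module.length_eq_finrank, hone, Nat.cast_one]
  have h4 := IsLocalRing.length_restrictScalars k A Q
  rw [h1, h2, mul_one] at h4
  exact h4.symm

theorem IsMono.isUnit_iff (hA : IsMono Γ A) (x : A) : IsUnit x ↔ constantCoeff (x : k⟦X⟧) ≠ 0 := by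
  constructor
  · intro hx
    exact (PowerSeries.isUnit_iff_constantCoeff.1 (hx.map A.val)).ne_zero
  · intro hx
    obtain ⟨u, hu⟩ := PowerSeries.isUnit_iff_constantCoeff.2 (isUnit_iff_ne_zero.2 hx)
    obtain ⟨y, hy⟩ : ∃ y : k⟦X⟧, (x : k⟦X⟧) * y = 1 := ⟨((u⁻¹ : k⟦X⟧ˣ) : k⟦X⟧), by rw [← hu]; exact Units.mul_inv u⟩
    have hm : ∀ m, coeff m y ≠ 0 → m ∈ Γ := by
      intro m
      induction m using Nat.strong_induction_on with
      | _ m ih =>
        intro hne
        by_contra hmem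
        have h0 : m ≠ 0 := fun h => hmem (h ▸ hA.zero)
        have h1 := congrArg (coeff m) hy
        rw [coeff_mul, coeff_one, if_neg h0, Finset.sum_eq_single (0, m)] at h1
        · rw [coeff_zero_eq_constantCoeff_apply] at h1
          exact hne ((mul_eq_zero.1 h1).resolve_left hx)
        · rintro ⟨a, b⟩ hab hne'
          rw [Finset.HasAntidiagonal.mem_antidiagonal] at hab
          by_contra h
          obtain ⟨ha, hb⟩ := ne_zero_and_ne_zero_of_mul h
          have ha0 : a ≠ 0 := fun h => hne' (Prod.ext h (by simp at hab ⊢; omega))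
          exact hmem (hab ▸ hA.add a b ((hA.mem _).1 x.2 a ha) (ih b (by simp at hab; omega) hb))
        · intro h; exact absurd (Finset.HasAntidiagonal.mem_antidiagonal.2 (zero_add m)) h
    exact IsUnit.of_mul_eq_one ⟨y, (hA.mem y).2 hm⟩ (Subtype.ext hy)

theorem IsMono.monomial_mem (hA : IsMono Γ A) {r : ℕ} (hr : r ∈ Γ) : (X : k⟦X⟧) ^ r ∈ A :=
  (hA.mem _).2 fun m hm => by
    rw [coeff_X_pow] at hm
    split_ifs at hm with h
    · exact h ▸ hr
    · exact absurd rfl hm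

open Classical in
/-- The monomial module generated by `1` and `t^e`. -/
theorem IsMono.mem_span_pair (hA : IsMono Γ A) (e : ℕ) (f : k⟦X⟧) :
    f ∈ Submodule.span A ({1, X ^ e} : Set k⟦X⟧) ↔ ∀ m, coeff m f ≠ 0 → m ∈ Γ ∨ ∃ q ∈ Γ, m = q + e := by
  rw [Submodule.mem_span_pair]
  constructor
  · rintro ⟨a, b, rfl⟩ m hm
    have h : a • (1 : k⟦X⟧) + b • (X ^ e : k⟦X⟧) = (a : k⟦X⟧) + (b : k⟦X⟧) * X ^ e := by
      show (a : k⟦X⟧) * 1 + (b : k⟦X⟧) * X ^ e = _
      rw [mul_one]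
    rw [h, map_add, coeff_mul_X_pow'] at hm
    by_cases ha : coeff m (a : k⟦X⟧) = 0
    · rw [ha, zero_add] at hm
      split_ifs at hm with hle
      · exact Or.inr ⟨m - e, (hA.mem _).1 b.2 _ hm, by omega⟩
      · exact absurd rfl hm
    · exact Or.inl ((hA.mem _).1 a.2 m ha)
  · intro hf
    let a : A := ⟨PowerSeries.mk fun m => if m ∈ Γ then coeff m f else 0, (hA.mem _).2 fun m hm => by
      rw [coeff_mk] at hm; split_ifs at hm with h
      · exact h
      · exact absurd rfl hm⟩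
    let b : A := ⟨PowerSeries.mk fun q => if q ∈ Γ ∧ q + e ∉ Γ then coeff (q + e) f else 0, (hA.mem _).2 fun m hm => by
      rw [coeff_mk] at hm; split_ifs at hm with h
      · exact h.1
      · exact absurd rfl hm⟩
    refine ⟨a, b, ?_⟩
    show (a : k⟦X⟧) * 1 + (b : k⟦X⟧) * X ^ e = f
    ext m
    rw [mul_one, map_add, coeff_mul_X_pow']
    simp only [a, b, coeff_mk]
    by_cases hm : coeff m f = 0
    · have h' : ∀ h : e ≤ m, coeff (m - e + e) f = 0 := fun h => by rwa [Nat.sub_add_cancel h]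
      split_ifs with h1 h2 <;> simp [hm] <;> exact h' (by assumption)
    · rcases hf m hm with h1 | ⟨q, hq, rfl⟩
      · rw [if_pos h1]
        split_ifs with h2 h3
        · rw [Nat.sub_add_cancel h2] at h3; exact absurd h1 h3.2
        · rw [add_zero]
        · rw [add_zero]
      · rw [if_pos (Nat.le_add_left e q), Nat.add_sub_cancel]
        by_cases h1 : q + e ∈ Γ
        · rw [if_pos h1, if_neg (fun h => h.2 h1), add_zero]
        · rw [if_neg h1, if_pos ⟨hq, h1⟩, zero_add]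

/-- The module of syzygies of `1, t^e`. -/
def syzIdeal (A : Subalgebra k k⟦X⟧) (e : ℕ) : Submodule A A where
  carrier := {c | (c : k⟦X⟧) * X ^ e ∈ A}
  add_mem' {a b} ha hb := by
    show ((a : k⟦X⟧) + (b : k⟦X⟧)) * X ^ e ∈ A
    rw [add_mul]; exact add_mem ha hb
  zero_mem' := by
    show (0 : k⟦X⟧) * X ^ e ∈ A
    rw [zero_mul]; exact zero_mem _
  smul_mem' c a ha := by
    show ((c : k⟦X⟧) * (a : k⟦X⟧)) * X ^ e ∈ A
    rw [mul_assoc]; exact mul_mem c.2 ha

open Classical in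
/-- `Ext¹` between two-generated monomial modules. -/
theorem IsMono.length_ext_one (hA : IsMono Γ A) (e e' d : ℕ) (hd : d ∈ Γ) (hde : d + e ∈ Γ)
    (hmin : ∀ r, r ∈ Γ → r + e ∈ Γ → d ≤ r)
    {ι : Type*} [Fintype ι] (pos : ι → ℕ) (hpos : Function.Injective pos)
    (hF : ∀ m, m ∈ Set.range pos ↔
      (∀ r, r ∈ Γ → r + e ∈ Γ → ∃ q, (q ∈ Γ ∨ ∃ s ∈ Γ, q = s + e') ∧ m + r = d + q) ∧
      ¬ ∃ q, (q ∈ Γ ∨ ∃ s ∈ Γ, q = s + e') ∧ (m = d + q ∨ m = d + e + q))
    (M N : Submodule A k⟦X⟧) (hM : M = Submodule.span A ({1, X ^ e} : Set k⟦X⟧))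
    (hN : N = Submodule.span A ({1, X ^ e'} : Set k⟦X⟧)) :
    Module.length A (Abelian.Ext (ModuleCat.of A M) (ModuleCat.of A N) 1) = (Fintype.card ι : ℕ∞) := by
  let I := syzIdeal A e
  have hmem : ∀ f, f ∈ N ↔ ∀ m, coeff m f ≠ 0 → m ∈ Γ ∨ ∃ q ∈ Γ, m = q + e' := fun f => by
    rw [hN]; exact hA.mem_span_pair e' f
  -- presentation of `M`
  let x : Fin 2 → M := ![⟨1, hM ▸ Submodule.subset_span (Or.inl rfl)⟩, ⟨X ^ e, hM ▸ Submodule.subset_span (Or.inr rfl)⟩]
  let p : (Fin 2 → A) →ₗ[A] M := Fintype.linearCombination A x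
  have hpv : ∀ c, (p c : k⟦X⟧) = (c 0 : k⟦X⟧) + (c 1 : k⟦X⟧) * X ^ e := fun c => by
    simp only [p, x, Fintype.linearCombination_apply, Fin.sum_univ_two, Matrix.cons_val_zero, Matrix.cons_val_one,
      Matrix.cons_val_fin_one]
    show (c 0 : k⟦X⟧) * 1 + (c 1 : k⟦X⟧) * X ^ e = _
    rw [mul_one]
  let ρ : I →ₗ[A] (Fin 2 → A) :=
    { toFun := fun c => ![-⟨((c : A) : k⟦X⟧) * X ^ e, c.2⟩, (c : A)]
      map_add' := fun a b => funext (Fin.forall_fin_two.2 ⟨Subtype.ext (by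
          show -((((a : A) : k⟦X⟧) + ((b : A) : k⟦X⟧)) * X ^ e) = -(((a : A) : k⟦X⟧) * X ^ e) + -(((b : A) : k⟦X⟧) * X ^ e)
          ring), rfl⟩)
      map_smul' := fun c a => funext (Fin.forall_fin_two.2 ⟨Subtype.ext (by
          show -((c : k⟦X⟧) * ((a : A) : k⟦X⟧) * X ^ e) = (c : k⟦X⟧) * -(((a : A) : k⟦X⟧) * X ^ e)
          ring), rfl⟩) }
  have hρ : Function.Injective ρ := fun a b h => Subtype.ext (congrFun h 1)
  have hp : Function.Surjective p := fun z => by
    have hz : (z : k⟦X⟧) ∈ Submodule.span A ({1, X ^ e} : Set k⟦X⟧) := by rw [← hM]; exact z.2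
    obtain ⟨a, b, hab⟩ := Submodule.mem_span_pair.1 hz
    refine ⟨![a, b], Subtype.ext ?_⟩
    rw [hpv, ← hab]
    show (a : k⟦X⟧) + (b : k⟦X⟧) * X ^ e = (a : k⟦X⟧) * 1 + (b : k⟦X⟧) * X ^ e
    rw [mul_one]
  have hex : Function.Exact ρ p := fun c => by
    constructor
    · intro hc
      have h0 : (c 0 : k⟦X⟧) + (c 1 : k⟦X⟧) * X ^ e = 0 := by rw [← hpv, hc]; rfl
      have h1 : (c 1 : k⟦X⟧) * X ^ e = -(c 0 : k⟦X⟧) := eq_neg_of_add_eq_zero_right h0
      refine ⟨⟨c 1, show (c 1 : k⟦X⟧) * X ^ e ∈ A by rw [h1]; exact neg_mem (c 0).2⟩, funext (Fin.forall_fin_two.2 ⟨Subtype.ext ?_, rfl⟩)⟩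
      show -((c 1 : k⟦X⟧) * X ^ e) = (c 0 : k⟦X⟧)
      rw [h1, neg_neg]
    · rintro ⟨a, rfl⟩
      refine Subtype.ext ?_
      rw [hpv]
      show -(((a : A) : k⟦X⟧) * X ^ e) + ((a : A) : k⟦X⟧) * X ^ e = 0
      ring
  obtain ⟨δ, hδ, hδk⟩ := exists_cok_pre_linear (O := A) (A := I) (B := Fin 2 → A) (C := M) ρ p hρ hex hp N (subsingleton_ext_one_free _ _)
  -- homomorphisms out of the syzygy module
  have hdI : (⟨X ^ d, hA.monomial_mem hd⟩ : A) ∈ I := show X ^ d * X ^ e ∈ A by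
    rw [← pow_add]; exact hA.monomial_mem hde
  have hfac : ∀ c : I, ∃ r : k⟦X⟧, ((c : A) : k⟦X⟧) = X ^ d * r := fun c =>
    X_pow_dvd_iff.2 fun m hm => by
      by_contra h
      have h2 : coeff (m + e) (((c : A) : k⟦X⟧) * X ^ e) ≠ 0 := by rwa [coeff_mul_X_pow]
      exact absurd (hmin m ((hA.mem _).1 (c : A).2 m h) ((hA.mem _).1 c.2 _ h2)) (by omega)
  choose r hr using hfac
  have hlin : ∀ (φ : I →ₗ[A] N) (c : I), (φ c : k⟦X⟧) = r c * (φ ⟨_, hdI⟩ : k⟦X⟧) := by
    intro φ c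
    have h1 : (⟨X ^ d, hA.monomial_mem hd⟩ : A) • c = (c : A) • (⟨_, hdI⟩ : I) := Subtype.ext (mul_comm _ _)
    have h2 := congrArg (fun v => (φ v : k⟦X⟧)) h1
    simp only [map_smul] at h2
    have h3 : X ^ d * (φ c : k⟦X⟧) = ((c : A) : k⟦X⟧) * (φ ⟨_, hdI⟩ : k⟦X⟧) := h2
    rw [hr c, mul_assoc] at h3
    exact mul_left_cancel₀ (pow_ne_zero _ X_ne_zero) h3
  let W := I →ₗ[A] N
  let Φ : W →ₗ[k] (ι → k) := (LinearMap.pi fun i => coeff (pos i)).comp (
    { toFun := fun φ => (φ ⟨_, hdI⟩ : k⟦X⟧)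
      map_add' := fun _ _ => rfl
      map_smul' := fun _ _ => rfl } : W →ₗ[k] k⟦X⟧)
  have hrsupp : ∀ (c : I) q, coeff q (r c) ≠ 0 → d + q ∈ Γ ∧ d + q + e ∈ Γ := by
    intro c q hq
    have h1 : coeff (q + d) ((c : A) : k⟦X⟧) ≠ 0 := by rwa [hr c, coeff_X_pow_mul]
    have h2 : coeff (q + d + e) (((c : A) : k⟦X⟧) * X ^ e) ≠ 0 := by rwa [coeff_mul_X_pow]
    rw [add_comm d q]
    exact ⟨(hA.mem _).1 (c : A).2 _ h1, (hA.mem _).1 c.2 _ h2⟩
  have hS : ∀ (φ : W) m, coeff m (φ ⟨_, hdI⟩ : k⟦X⟧) ≠ 0 → ∀ s, s ∈ Γ → s + e ∈ Γ →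
      ∃ q, (q ∈ Γ ∨ ∃ s ∈ Γ, q = s + e') ∧ m + s = d + q := by
    intro φ m hm s hs hse
    have hcI : (⟨X ^ s, hA.monomial_mem hs⟩ : A) ∈ I := show X ^ s * X ^ e ∈ A by
      rw [← pow_add]; exact hA.monomial_mem hse
    have hds := hmin s hs hse
    have h1 : r ⟨_, hcI⟩ = X ^ (s - d) := mul_left_cancel₀ (pow_ne_zero d X_ne_zero)
      ((hr ⟨_, hcI⟩).symm.trans (by rw [← pow_add, Nat.add_sub_cancel' hds]))
    refine ⟨m + (s - d), (hmem _).1 (φ ⟨_, hcI⟩).2 _ ?_, by omega⟩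
    rwa [hlin φ, h1, add_comm m, coeff_X_pow_mul', if_pos (Nat.le_add_right _ _), Nat.add_sub_cancel_left]
  have hΦ : Function.Surjective Φ := by
    intro v
    obtain ⟨h, hh, hh0⟩ := exists_coeff_eq pos hpos v
    have hin : ∀ c : I, r c * h ∈ N := fun c => (hmem _).2 fun m hm => by
      rw [coeff_mul] at hm
      obtain ⟨⟨a, b⟩, hab, hne⟩ := Finset.exists_ne_zero_of_sum_ne_zero hm
      rw [Finset.HasAntidiagonal.mem_antidiagonal] at hab
      obtain ⟨ha, hb⟩ := ne_zero_and_ne_zero_of_mul hne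
      have hbr : b ∈ Set.range pos := by
        by_contra hb'; exact hb (hh0 b hb')
      obtain ⟨q, hq, hqe⟩ := ((hF b).1 hbr).1 (d + a) (hrsupp c a ha).1 (hrsupp c a ha).2
      have : q = m := by simp at hab; omega
      exact this ▸ hq
    have hradd : ∀ a b : I, r (a + b) = r a + r b := fun a b => mul_left_cancel₀ (pow_ne_zero d X_ne_zero) (by
      rw [mul_add, ← hr, ← hr, ← hr]; rfl)
    have hrsmul : ∀ (c : A) (a : I), r (c • a) = (c : k⟦X⟧) * r a := fun c a => mul_left_cancel₀ (pow_ne_zero d X_ne_zero) (by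
      rw [← hr, mul_left_comm, ← hr]; rfl)
    let φ : W :=
      { toFun := fun c => ⟨r c * h, hin c⟩
        map_add' := fun a b => Subtype.ext (by
          show r (a + b) * h = r a * h + r b * h
          rw [hradd, add_mul])
        map_smul' := fun c a => Subtype.ext (by
          show r (c • a) * h = (c : k⟦X⟧) * (r a * h)
          rw [hrsmul, mul_assoc]) }
    refine ⟨φ, funext fun i => ?_⟩
    have h1 : r ⟨_, hdI⟩ = 1 := mul_left_cancel₀ (pow_ne_zero d X_ne_zero)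
      ((hr ⟨_, hdI⟩).symm.trans (mul_one _).symm)
    show coeff (pos i) (r ⟨_, hdI⟩ * h) = v i
    rw [h1, one_mul, hh]
  have hkerΦ : LinearMap.ker Φ = (LinearMap.ker δ).restrictScalars k := by
    have hval : ∀ (ψ : (Fin 2 → A) →ₗ[A] N) (c : I), (ψ (ρ c) : k⟦X⟧) =
        ((c : A) : k⟦X⟧) * ((ψ (Pi.single 1 1) : k⟦X⟧) - X ^ e * (ψ (Pi.single 0 1) : k⟦X⟧)) := by
      intro ψ c
      have h1 : ρ c = (-⟨((c : A) : k⟦X⟧) * X ^ e, c.2⟩ : A) • Pi.single 0 1 + (c : A) • Pi.single 1 1 := by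
        refine funext (Fin.forall_fin_two.2 ⟨?_, ?_⟩) <;> simp [ρ, Pi.single_apply]
      rw [h1, map_add, map_smul, map_smul]
      show -(((c : A) : k⟦X⟧) * X ^ e) * (ψ (Pi.single 0 1) : k⟦X⟧) + ((c : A) : k⟦X⟧) * (ψ (Pi.single 1 1) : k⟦X⟧) = _
      ring
    ext φ
    rw [LinearMap.mem_ker, Submodule.restrictScalars_mem, hδk]
    constructor
    · intro hφ
      let H : k⟦X⟧ := (φ ⟨_, hdI⟩ : k⟦X⟧)
      let Δ : ℕ → Prop := fun q => q ∈ Γ ∨ ∃ s ∈ Γ, q = s + e'
      let y₁ : k⟦X⟧ := PowerSeries.mk fun q => if Δ q then coeff (d + q) H else 0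
      let y₀ : k⟦X⟧ := PowerSeries.mk fun q => if Δ q ∧ ¬ Δ (q + e) then -coeff (d + e + q) H else 0
      have hy₁ : y₁ ∈ N := (hmem _).2 fun m hm => by
        simp only [y₁, coeff_mk] at hm; split_ifs at hm with h
        · exact h
        · exact absurd rfl hm
      have hy₀ : y₀ ∈ N := (hmem _).2 fun m hm => by
        simp only [y₀, coeff_mk] at hm; split_ifs at hm with h
        · exact h.1
        · exact absurd rfl hm
      have hzero : ∀ m, (¬ ∃ q, Δ q ∧ (m = d + q ∨ m = d + e + q)) → coeff m H = 0 := by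
        intro m hT
        by_contra hm
        obtain ⟨i, rfl⟩ := (hF m).2 ⟨hS φ m hm, hT⟩
        exact hm (congrFun hφ i)
      have hH : H = X ^ d * (y₁ - X ^ e * y₀) := by
        ext m
        rw [coeff_X_pow_mul']
        split_ifs with hdm
        · obtain ⟨q, rfl⟩ := Nat.exists_eq_add_of_le hdm
          rw [Nat.add_sub_cancel_left, map_sub, coeff_X_pow_mul']
          simp only [y₁, y₀, coeff_mk]
          by_cases h1 : Δ q
          · rw [if_pos h1]
            split_ifs with h2 h3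
            · exact absurd h1 (by rw [← Nat.sub_add_cancel h2]; exact h3.2)
            · rw [sub_zero]
            · rw [sub_zero]
          · rw [if_neg h1, zero_sub]
            split_ifs with h2 h3
            · rw [neg_neg, show d + e + (q - e) = d + q by omega]
            · rw [neg_zero]
              refine hzero _ ?_
              rintro ⟨q', hq', hh | hh⟩
              · exact h1 ((show q = q' by omega) ▸ hq')
              · exact h3 ⟨(show q - e = q' by omega) ▸ hq', by rwa [Nat.sub_add_cancel h2]⟩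
            · rw [neg_zero]
              refine hzero _ ?_
              rintro ⟨q', hq', hh | hh⟩
              · exact h1 ((show q = q' by omega) ▸ hq')
              · omega
        · refine hzero _ ?_
          rintro ⟨q', hq', hh⟩
          omega
      refine ⟨Fintype.linearCombination A ![⟨y₀, hy₀⟩, ⟨y₁, hy₁⟩], LinearMap.ext fun c => Subtype.ext ?_⟩
      show ((Fintype.linearCombination A ![(⟨y₀, hy₀⟩ : N), ⟨y₁, hy₁⟩]) (ρ c) : k⟦X⟧) = (φ c : k⟦X⟧)
      rw [hval, hlin φ c, hr c]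
      show _ = r c * H
      rw [hH]
      simp
      ring
    · rintro ⟨ψ, rfl⟩
      funext i
      show coeff (pos i) (ψ (ρ ⟨_, hdI⟩) : k⟦X⟧) = (0 : k)
      rw [hval]
      have hT := ((hF _).1 ⟨i, rfl⟩).2
      show coeff (pos i) (X ^ d * _) = (0 : k)
      rw [coeff_X_pow_mul']
      split_ifs with hdm
      · rw [map_sub, coeff_X_pow_mul']
        have h1 : coeff (pos i - d) (ψ (Pi.single 1 1) : k⟦X⟧) = 0 := by
          by_contra h; exact hT ⟨_, (hmem _).1 (ψ _).2 _ h, Or.inl (by omega)⟩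
        rw [h1, zero_sub, neg_eq_zero]
        split_ifs with he
        · by_contra h; exact hT ⟨_, (hmem _).1 (ψ _).2 _ h, Or.inr (by omega)⟩
        · rfl
      · rfl
  letI : AddCommGroup (I →ₗ[A] N) := Module.addCommMonoidToAddCommGroup A
  rw [← LinearEquiv.length_eq (LinearMap.quotKerEquivOfSurjective (R := A) (M := I →ₗ[A] N) (M₂ := Abelian.Ext (ModuleCat.of A M) (ModuleCat.of A N) 1) δ hδ)]
  let e₁ : (W ⧸ LinearMap.ker δ) ≃ₗ[k] (W ⧸ (LinearMap.ker δ).restrictScalars k) :=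
    (Submodule.Quotient.restrictScalarsEquiv k (LinearMap.ker δ)).symm
  let e₂ : (W ⧸ (LinearMap.ker δ).restrictScalars k) ≃ₗ[k] (W ⧸ LinearMap.ker Φ) :=
    Submodule.quotEquivOfEq _ _ hkerΦ.symm
  exact length_eq_of_units hA.isUnit_iff (W ⧸ LinearMap.ker δ) (e₁.trans (e₂.trans (Φ.quotKerEquivOfSurjective hΦ)))

end GrothLib.TFCurv11
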