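import Groth.Agent.Lib.TFCurv11.TwoGen

/-!
# Rank-one modules over `A_{2δ}` and `E₆`
-/

set_option autoImplicit false
set_option linter.all false
set_option backward.isDefEq.respectTransparency false

universe u

open CategoryTheory PowerSeries

noncomputable section

namespace GrothLib.TFCurv11

variable {k : Type u} [Field k] {A : Subalgebra k k⟦X⟧}

theorem mem_closure_two_odd (δ m : ℕ) :
    m ∈ AddSubmonoid.closure ({2, 2 * δ + 1} : Set ℕ) ↔ m % 2 = 0 ∨ 2 * δ + 1 ≤ m := by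
  rw [AddSubmonoid.mem_closure_pair]
  constructor
  · rintro ⟨a, b, rfl⟩
    simp only [smul_eq_mul]
    rcases Nat.eq_zero_or_pos b with rfl | hb
    · left; omega
    · right; nlinarith
  · intro h
    rcases Nat.mod_two_eq_zero_or_one m with h2 | h2
    · exact ⟨m / 2, 0, by simp only [smul_eq_mul]; omega⟩
    · exact ⟨(m - (2 * δ + 1)) / 2, 1, by simp only [smul_eq_mul]; omega⟩

theorem mem_closure_three_four (m : ℕ) :
    m ∈ AddSubmonoid.closure ({3, 4} : Set ℕ) ↔ m ≠ 1 ∧ m ≠ 2 ∧ m ≠ 5 := by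
  rw [AddSubmonoid.mem_closure_pair]
  constructor
  · rintro ⟨a, b, rfl⟩
    simp only [smul_eq_mul]
    omega
  · intro h
    simp only [smul_eq_mul]
    rcases (show m % 3 = 0 ∨ m % 3 = 1 ∨ m % 3 = 2 by omega) with h3 | h3 | h3
    · exact ⟨m / 3, 0, by omega⟩
    · exact ⟨(m - 4) / 3, 1, by omega⟩
    · exact ⟨(m - 8) / 3, 2, by omega⟩

theorem isMono_even (δ : ℕ) (hA : ∀ f : k⟦X⟧, f ∈ A ↔ ∀ n : ℕ, coeff n f ≠ 0 → n ∈ AddSubmonoid.closure ({2, 2 * δ + 1} : Set ℕ)) :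
    IsMono {m | m % 2 = 0 ∨ 2 * δ + 1 ≤ m} A :=
  ⟨fun f => (hA f).trans (forall_congr' fun m => imp_congr_right fun _ => mem_closure_two_odd δ m),
    Or.inl rfl, fun a b (ha : a % 2 = 0 ∨ _) (hb : b % 2 = 0 ∨ _) =>
      show (a + b) % 2 = 0 ∨ 2 * δ + 1 ≤ a + b by omega⟩

theorem isMono_E6 (hA : ∀ f : k⟦X⟧, f ∈ A ↔ ∀ n : ℕ, coeff n f ≠ 0 → n ∈ AddSubmonoid.closure ({3, 4} : Set ℕ)) :
    IsMono {m | m ≠ 1 ∧ m ≠ 2 ∧ m ≠ 5} A :=
  ⟨fun f => (hA f).trans (forall_congr' fun m => imp_congr_right fun _ => mem_closure_three_four m),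
    ⟨by omega, by omega, by omega⟩, fun a b ⟨ha1, ha2, ha5⟩ ⟨hb1, hb2, hb5⟩ =>
      show a + b ≠ 1 ∧ a + b ≠ 2 ∧ a + b ≠ 5 by omega⟩

/-- `Ext¹` between rank-one modules over `A_{2δ}`. -/
theorem length_ext_one_A_even (δ : ℕ) (hA : IsMono {m | m % 2 = 0 ∨ 2 * δ + 1 ≤ m} A) (i j : ℕ) (hi : i ≤ δ) (hj : j ≤ δ)
    (M N : Submodule A k⟦X⟧) (hM : M = Submodule.span A ({1, X ^ (2 * δ + 1 - 2 * i)} : Set k⟦X⟧))
    (hN : N = Submodule.span A ({1, X ^ (2 * δ + 1 - 2 * j)} : Set k⟦X⟧)) :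
    Module.length A (Abelian.Ext (ModuleCat.of A M) (ModuleCat.of A N) 1) = ((2 * min i j : ℕ) : ℕ∞) := by
  rw [hA.length_ext_one (2 * δ + 1 - 2 * i) (2 * δ + 1 - 2 * j) (2 * i) (Or.inl (by omega))
    (show (2 * i + (2 * δ + 1 - 2 * i)) % 2 = 0 ∨ 2 * δ + 1 ≤ 2 * i + (2 * δ + 1 - 2 * i) by omega)
    (fun r (hr : r % 2 = 0 ∨ _) (hre : (r + _) % 2 = 0 ∨ _) => by omega)
    (Sum.elim (fun a : Fin (min i j) => 2 * (i - j) + 2 * (a : ℕ)) (fun a : Fin (min i j) => 2 * δ + 1 - 2 * j + 2 * (a : ℕ)))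
    (by
      rintro (a | a) (b | b) h <;> simp only [Sum.elim_inl, Sum.elim_inr] at h
      · exact congrArg Sum.inl (Fin.ext (by omega))
      · omega
      · omega
      · exact congrArg Sum.inr (Fin.ext (by omega)))
    (fun m => ⟨?_, ?_⟩) M N hM hN]
  · simp [two_mul]
  · rintro ⟨a, rfl⟩
    simp only [Set.mem_setOf_eq]
    rcases a with a | a <;> have := a.2 <;> simp only [Sum.elim_inl, Sum.elim_inr]
    · refine ⟨fun r hr hre => ⟨2 * (i - j) + 2 * (a : ℕ) + r - 2 * i, ?_, by omega⟩, ?_⟩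
      · rcases Nat.mod_two_eq_zero_or_one r with h | h
        · exact Or.inl (Or.inl (by omega))
        · exact Or.inr ⟨2 * (i - j) + 2 * (a : ℕ) + r - 2 * i - (2 * δ + 1 - 2 * j), Or.inl (by omega), by omega⟩
      · rintro ⟨q, hq | ⟨s, hs, rfl⟩, h | h⟩ <;> omega
    · refine ⟨fun r hr hre => ⟨2 * δ + 1 - 2 * j + 2 * (a : ℕ) + r - 2 * i, ?_, by omega⟩, ?_⟩
      · rcases Nat.mod_two_eq_zero_or_one r with h | h
        · exact Or.inr ⟨2 * δ + 1 - 2 * j + 2 * (a : ℕ) + r - 2 * i - (2 * δ + 1 - 2 * j), Or.inl (by omega), by omega⟩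
        · exact Or.inl (Or.inl (by omega))
      · rintro ⟨q, hq | ⟨s, hs, rfl⟩, h | h⟩ <;> omega
  · rintro ⟨hS, hT⟩
    simp only [Set.mem_setOf_eq] at hS hT
    obtain ⟨q, hq, hqm⟩ := hS (2 * i) (Or.inl (by omega)) (Or.inr (by omega))
    obtain rfl : q = m := by omega
    have hlt : (q % 2 = 0 → q < 2 * i ∧ 2 * (i - j) ≤ q) ∧
        (q % 2 = 1 → 2 * δ + 1 - 2 * j ≤ q ∧ q + 2 * max i j < 2 * δ + 1 + 2 * i) := by
      refine ⟨fun h2 => ⟨?_, ?_⟩, fun h2 => ⟨?_, ?_⟩⟩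
      · by_contra h
        exact hT ⟨q - 2 * i, Or.inl (Or.inl (by omega)), Or.inl (by omega)⟩
      · obtain ⟨q', hq', hq2⟩ := hS (2 * δ + 1) (Or.inr le_rfl) (Or.inr (by omega))
        rcases hq' with h | ⟨s, hs, rfl⟩ <;> omega
      · rcases hq with h | ⟨s, hs, rfl⟩ <;> omega
      · by_contra h
        rcases le_total i j with hij | hij
        · exact hT ⟨q - 2 * i, Or.inr ⟨q - 2 * i - (2 * δ + 1 - 2 * j), Or.inl (by omega), by omega⟩, Or.inl (by omega)⟩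
        · exact hT ⟨q - 2 * i - (2 * δ + 1 - 2 * i), Or.inl (Or.inl (by omega)), Or.inr (by omega)⟩
    rcases Nat.mod_two_eq_zero_or_one q with h2 | h2
    · obtain ⟨h1, h1'⟩ := hlt.1 h2
      exact ⟨Sum.inl ⟨(q - 2 * (i - j)) / 2, by omega⟩, by simp only [Sum.elim_inl]; omega⟩
    · obtain ⟨h1, h1'⟩ := hlt.2 h2
      exact ⟨Sum.inr ⟨(q - (2 * δ + 1 - 2 * j)) / 2, by omega⟩, by simp only [Sum.elim_inr]; omega⟩

/-- `Ext¹` for `M₁` over `E₆`. -/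
theorem length_ext_one_E6_five (hA : IsMono {m | m ≠ 1 ∧ m ≠ 2 ∧ m ≠ 5} A) (M : Submodule A k⟦X⟧)
    (hM : M = Submodule.span A ({1, X ^ 5} : Set k⟦X⟧)) :
    Module.length A (Abelian.Ext (ModuleCat.of A M) (ModuleCat.of A M) 1) = 2 := by
  rw [hA.length_ext_one 5 5 3 (by norm_num) (by norm_num) (fun r (hr : _ ∧ _) (hre : _ ∧ _) => by
      rcases Nat.eq_zero_or_pos r with rfl | h <;> omega)
    (fun a : Fin 2 => (a : ℕ) + 4) (fun a b h => Fin.ext (by simpa using h)) (fun m => ⟨?_, ?_⟩) M M hM hM]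
  · simp
  · rintro ⟨a, rfl⟩
    have := a.2
    simp only [Set.mem_setOf_eq]
    refine ⟨fun r hr hre => ⟨(a : ℕ) + 4 + r - 3, ?_, by omega⟩, ?_⟩
    · by_cases h : (a : ℕ) + 4 + r - 3 = 5
      · exact Or.inr ⟨0, by omega, by omega⟩
      · exact Or.inl (by omega)
    · rintro ⟨q, hq | ⟨s, hs, rfl⟩, h | h⟩ <;> omega
  · rintro ⟨hS, hT⟩
    simp only [Set.mem_setOf_eq] at hS hT
    have h34 : m = 4 ∨ m = 5 := by
      obtain ⟨q, hq, hqm⟩ := hS 3 (by omega) (by omega)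
      obtain ⟨q', hq', hqm'⟩ := hS 4 (by omega) (by omega)
      by_contra h
      rcases Nat.lt_or_ge m 3 with h3 | h3
      · rcases hq with hq | ⟨s, hs, rfl⟩ <;> rcases hq' with hq' | ⟨s', hs', rfl⟩ <;> omega
      · by_cases h8 : m = 8
        · exact hT ⟨5, Or.inr ⟨0, by omega, by omega⟩, Or.inl (by omega)⟩
        · exact hT ⟨m - 3, Or.inl (by omega), Or.inl (by omega)⟩
    exact ⟨⟨m - 4, by omega⟩, by simp only; omega⟩

/-- `Ext¹` for `M₂` over `E₆`. -/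
theorem length_ext_one_E6_one (hA : IsMono {m | m ≠ 1 ∧ m ≠ 2 ∧ m ≠ 5} A) (M : Submodule A k⟦X⟧)
    (hM : M = Submodule.span A ({1, X} : Set k⟦X⟧)) :
    Module.length A (Abelian.Ext (ModuleCat.of A M) (ModuleCat.of A M) 1) = 2 := by
  have hM' : M = Submodule.span A ({1, X ^ 1} : Set k⟦X⟧) := by rw [pow_one]; exact hM
  rw [hA.length_ext_one 1 1 3 (by norm_num) (by norm_num) (fun r (hr : _ ∧ _) (hre : _ ∧ _) => by
      rcases Nat.eq_zero_or_pos r with rfl | h <;> omega)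
    (fun a : Fin 2 => (a : ℕ)) Fin.val_injective (fun m => ⟨?_, ?_⟩) M M hM' hM']
  · simp
  · rintro ⟨a, rfl⟩
    have := a.2
    simp only [Set.mem_setOf_eq]
    refine ⟨fun r hr hre => ⟨(a : ℕ) + r - 3, ?_, ?_⟩, ?_⟩
    · by_cases h : (a : ℕ) + r - 3 = 1 ∨ (a : ℕ) + r - 3 = 5
      · exact Or.inr ⟨(a : ℕ) + r - 3 - 1, by omega, by omega⟩
      · exact Or.inl (by
          rcases Nat.lt_or_ge r 3 with h3 | h3 <;> omega)
    · rcases Nat.lt_or_ge r 3 with h3 | h3 <;> omega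
    · rintro ⟨q, hq | ⟨s, hs, rfl⟩, h | h⟩ <;> omega
  · rintro ⟨hS, hT⟩
    simp only [Set.mem_setOf_eq] at hS hT
    have h34 : m ≤ 1 := by
      obtain ⟨q, hq, hqm⟩ := hS 3 (by omega) (by omega)
      by_contra h
      rcases Nat.lt_or_ge m 3 with h3 | h3
      · rcases hq with hq | ⟨s, hs, rfl⟩ <;> omega
      · by_cases h8 : m = 4 ∨ m = 8
        · exact hT ⟨m - 3, Or.inr ⟨m - 4, by omega, by omega⟩, Or.inl (by omega)⟩
        · by_cases h5 : m = 5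
          · exact hT ⟨1, Or.inr ⟨0, by omega, by omega⟩, Or.inr (by omega)⟩
          · exact hT ⟨m - 3, Or.inl (by omega), Or.inl (by omega)⟩
    exact ⟨⟨m, by omega⟩, rfl⟩

/-- `Ext¹` for `M₃` over `E₆`. -/
theorem length_ext_one_E6_two (hA : IsMono {m | m ≠ 1 ∧ m ≠ 2 ∧ m ≠ 5} A) (M : Submodule A k⟦X⟧)
    (hM : M = Submodule.span A ({1, X ^ 2} : Set k⟦X⟧)) :
    Module.length A (Abelian.Ext (ModuleCat.of A M) (ModuleCat.of A M) 1) = 4 := by
  rw [hA.length_ext_one 2 2 4 (by norm_num) (by norm_num) (fun r (hr : _ ∧ _) (hre : _ ∧ _) => by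
      rcases Nat.lt_or_ge r 4 with h | h <;> [skip; omega]
      interval_cases r <;> omega)
    ![0, 2, 3, 5] (by decide) (fun m => ⟨?_, ?_⟩) M M hM hM]
  · simp
  · rintro ⟨a, rfl⟩
    simp only [Set.mem_setOf_eq]
    refine ⟨fun r hr hre => ⟨![0, 2, 3, 5] a + r - 4, ?_, ?_⟩, ?_⟩
    · by_cases h : ![0, 2, 3, 5] a + r - 4 = 2 ∨ ![0, 2, 3, 5] a + r - 4 = 5
      · exact Or.inr ⟨![0, 2, 3, 5] a + r - 4 - 2, by omega, by omega⟩
      · exact Or.inl (by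
          rcases Nat.lt_or_ge r 4 with h3 | h3
          · interval_cases r <;> omega
          · fin_cases a <;> simp at * <;> omega)
    · rcases Nat.lt_or_ge r 4 with h3 | h3
      · interval_cases r <;> omega
      · omega
    · rintro ⟨q, hq | ⟨s, hs, rfl⟩, h | h⟩ <;> fin_cases a <;> simp at * <;> omega
  · rintro ⟨hS, hT⟩
    simp only [Set.mem_setOf_eq] at hS hT
    have h34 : m = 0 ∨ m = 2 ∨ m = 3 ∨ m = 5 := by
      obtain ⟨q, hq, hqm⟩ := hS 4 (by omega) (by omega)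
      by_contra h
      rcases Nat.lt_or_ge m 4 with h3 | h3
      · rcases hq with hq | ⟨s, hs, rfl⟩ <;> omega
      · by_cases h8 : m = 6 ∨ m = 9
        · exact hT ⟨m - 4, Or.inr ⟨m - 6, by omega, by omega⟩, Or.inl (by omega)⟩
        · exact hT ⟨m - 4, Or.inl (by omega), Or.inl (by omega)⟩
    rcases h34 with rfl | rfl | rfl | rfl
    exacts [⟨0, rfl⟩, ⟨1, rfl⟩, ⟨2, rfl⟩, ⟨3, rfl⟩]

end GrothLib.TFCurv11
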