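import Groth.Agent.Lib.TFCurv11.LatticeDual
import Groth.Agent.Lib.ValueSet.Basic
import Groth.Agent.Lib.EakinNagata.Basic
import Mathlib.RingTheory.LaurentSeries
import Mathlib.RingTheory.PowerSeries.Inverse
import Mathlib.RingTheory.KrullDimension.LocalRing

/-!
# Value sets of duals of lattices of a branch
-/

set_option autoImplicit false
set_option linter.all false
set_option backward.isDefEq.respectTransparency false

universe u

open IsLocalRing CategoryTheory

noncomputable section

namespace GrothLib.ValueDual11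

variable (k : Type u) [Field k] (O : Type u) [CommRing O] [IsDomain O] [Algebra O (PowerSeries k)]
  [FaithfulSMul O (PowerSeries k)] [Module.Finite O (PowerSeries k)]

theorem isLocalHom_coe : IsLocalHom (algebraMap O (PowerSeries k)) :=
  RingHom.IsIntegral.isLocalHom (Algebra.IsIntegral.of_finite O (PowerSeries k)).isIntegral (FaithfulSMul.algebraMap_injective O (PowerSeries k))

include k in
theorem isLocalRing_alg : IsLocalRing O :=
  haveI := isLocalHom_coe k O
  RingHom.domain_isLocalRing (algebraMap O (PowerSeries k))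

include k in
theorem isNoetherianRing_alg : IsNoetherianRing O :=
  EakinNagata.isNoetherianRing_of_finite O (PowerSeries k) (FaithfulSMul.algebraMap_injective O (PowerSeries k))

theorem isAlgClosed_residueField [IsAlgClosed k] [IsLocalRing O]
    (hk : ∀ a : k, ∃ b : O, algebraMap O (PowerSeries k) b = PowerSeries.C a) : IsAlgClosed (ResidueField O) := by
  haveI := isLocalHom_coe k O
  let ψ : O →+* k := PowerSeries.constantCoeff.comp (algebraMap O (PowerSeries k))
  have hker : RingHom.ker ψ = maximalIdeal O := by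
    ext a
    rw [RingHom.mem_ker, mem_maximalIdeal, mem_nonunits_iff]
    constructor
    · intro h hu
      have := (hu.map ψ)
      rw [h] at this
      exact not_isUnit_zero this
    · intro h
      by_contra hne
      exact h (isUnit_of_map_unit (algebraMap O (PowerSeries k)) a
        (PowerSeries.isUnit_iff_constantCoeff.2 (isUnit_iff_ne_zero.2 hne)))
  have hψ : Function.Surjective ψ := fun a => by
    obtain ⟨b, hb⟩ := hk a
    exact ⟨b, by show PowerSeries.constantCoeff (algebraMap O (PowerSeries k) b) = a; rw [hb, PowerSeries.constantCoeff_C]⟩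
  exact IsAlgClosed.of_ringEquiv k _
    ((RingHom.quotientKerEquivOfSurjective hψ).symm.trans (Ideal.quotEquivOfEq hker))

variable {c : ℕ} (hcond : ∀ f : PowerSeries k, (c : ℕ∞) ≤ PowerSeries.order f →
    ∃ a : O, algebraMap O (PowerSeries k) a = f)
  (K : Type u) [Field K] [Algebra (PowerSeries k) K] [IsFractionRing (PowerSeries k) K]
  [Algebra O K] [IsScalarTower O (PowerSeries k) K]

omit [Module.Finite O (PowerSeries k)] in
include hcond in
theorem isFractionRing_field : IsFractionRing O K := by
  haveI : FaithfulSMul O K := (faithfulSMul_iff_algebraMap_injective _ _).2 (by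
    rw [IsScalarTower.algebraMap_eq O (PowerSeries k) K]
    exact (IsFractionRing.injective (PowerSeries k) K).comp (FaithfulSMul.algebraMap_injective O (PowerSeries k)))
  refine IsFractionRing.of_field O K fun z => ?_
  obtain ⟨f, g, hg, hz⟩ := IsFractionRing.div_surjective (A := PowerSeries k) z
  have hX : ∀ h : PowerSeries k, ∃ a : O, algebraMap O (PowerSeries k) a = (PowerSeries.X : PowerSeries k) ^ c * h :=
    fun h => hcond _ (by rw [PowerSeries.order_mul, PowerSeries.order_X_pow]; exact le_self_add)
  obtain ⟨af, haf⟩ := hX f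
  obtain ⟨ag, hag⟩ := hX g
  refine ⟨af, ag, ?_⟩
  have h0 : algebraMap (PowerSeries k) K (PowerSeries.X ^ c) ≠ 0 :=
    (map_ne_zero_iff _ (IsFractionRing.injective (PowerSeries k) K)).2
      (pow_ne_zero _ PowerSeries.X_ne_zero)
  rw [← hz, IsScalarTower.algebraMap_apply O (PowerSeries k) K, IsScalarTower.algebraMap_apply O (PowerSeries k) K,
    haf, hag, map_mul, map_mul, mul_div_mul_left _ _ h0]

include hcond in
theorem ringKrullDim_alg [IsLocalRing O] : ringKrullDim O = 1 := by
  haveI := isLocalHom_coe k O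
  haveI : Algebra.IsIntegral O (PowerSeries k) := Algebra.IsIntegral.of_finite _ _
  refine ringKrullDim_eq_one_iff_of_isLocalRing_isDomain.2 ⟨fun hF => ?_, fun x hx a ha => ?_⟩
  · exact IsDiscreteValuationRing.not_isField (PowerSeries k)
      (isField_of_isIntegral_of_isField' (R := O) hF)
  have hx' : (algebraMap O (PowerSeries k) x) ≠ 0 :=
    (map_ne_zero_iff _ (FaithfulSMul.algebraMap_injective O (PowerSeries k))).2 hx
  obtain ⟨e, he⟩ := ENat.ne_top_iff_exists.1 (PowerSeries.order_eq_top.not.2 hx')
  have ha1 : (1 : ℕ∞) ≤ PowerSeries.order (algebraMap O (PowerSeries k) a) := by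
    refine PowerSeries.nat_le_order _ 1 fun i hi => ?_
    obtain rfl : i = 0 := by omega
    by_contra h
    exact ha (isUnit_of_map_unit (algebraMap O (PowerSeries k)) a
      (PowerSeries.isUnit_iff_constantCoeff.2 (by rw [← PowerSeries.coeff_zero_eq_constantCoeff_apply]
                                                  exact isUnit_iff_ne_zero.2 h)))
  refine Ideal.mem_radical_iff.2 ⟨c + e, ?_⟩
  have hord : ((c + e : ℕ) : ℕ∞) ≤ PowerSeries.order ((algebraMap O (PowerSeries k) a) ^ (c + e)) := by
    rw [PowerSeries.order_pow]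
    calc ((c + e : ℕ) : ℕ∞) = (c + e) • (1 : ℕ∞) := by simp
      _ ≤ _ := nsmul_le_nsmul_right ha1 _
  obtain ⟨q, hq⟩ : (algebraMap O (PowerSeries k) x) ∣ (algebraMap O (PowerSeries k) a) ^ (c + e) := by
    have h1 : PowerSeries.X ^ e ∣ (algebraMap O (PowerSeries k) a) ^ (c + e) :=
      PowerSeries.X_pow_dvd_iff.2 fun i hi => PowerSeries.coeff_of_lt_order i
        (lt_of_lt_of_le (by exact_mod_cast (by omega : i < c + e)) hord)
    have h2 : IsUnit (PowerSeries.divXPowOrder (algebraMap O (PowerSeries k) x)) := by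
      rw [PowerSeries.isUnit_iff_constantCoeff, isUnit_iff_ne_zero]
      exact fun h => hx' (PowerSeries.constantCoeff_divXPowOrder_eq_zero_iff.1 h)
    have h3 := PowerSeries.X_pow_order_mul_divXPowOrder (f := (algebraMap O (PowerSeries k) x))
    rw [← he, ENat.toNat_coe] at h3
    rw [← h3, h2.mul_right_dvd]
    exact h1
  obtain ⟨b, hb⟩ := hcond q (by
    have h := congrArg PowerSeries.order hq
    rw [PowerSeries.order_mul, ← he] at h
    rw [h, Nat.cast_add, add_comm (c : ℕ∞)] at hord
    exact (WithTop.add_le_add_iff_left (ENat.natCast_ne_top e)).1 hord)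
  exact Ideal.mem_span_singleton'.2 ⟨b, FaithfulSMul.algebraMap_injective O (PowerSeries k) (by
    rw [map_mul, map_pow, hb, hq, mul_comm])⟩

omit [Module.Finite O (PowerSeries k)] in
/-- The inclusion of power series into Laurent series, over `A`. -/
def ι : PowerSeries k →ₗ[O] K :=
  (Algebra.linearMap (PowerSeries k) K).restrictScalars O

omit [Module.Finite O (PowerSeries k)] in
theorem ι_injective : Function.Injective (ι k O K) := IsFractionRing.injective (PowerSeries k) K

omit [Module.Finite O (PowerSeries k)] in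
theorem ι_mul (f g : PowerSeries k) : ι k O K (f * g) = ι k O K f * ι k O K g :=
  map_mul (algebraMap (PowerSeries k) K) f g

theorem toSubmodule_integralClosure :
    Subalgebra.toSubmodule (integralClosure O K) = LinearMap.range (ι k O K) := by
  refine le_antisymm (fun z hz => ?_) ?_
  · have hint : IsIntegral (PowerSeries k) z := IsIntegral.tower_top (A := PowerSeries k) hz
    obtain ⟨f, hf⟩ := IsIntegrallyClosed.isIntegral_iff.1 hint
    exact ⟨f, hf⟩
  · rintro _ ⟨f, rfl⟩
    haveI : Algebra.IsIntegral O (PowerSeries k) := Algebra.IsIntegral.of_finite _ _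
    exact (Algebra.IsIntegral.isIntegral (R := O) f).map (IsScalarTower.toAlgHom O (PowerSeries k) K)

omit [Module.Finite O (PowerSeries k)] in
/-- Power series of order at least `j`. -/
def ordGE (j : ℕ) : Submodule O (PowerSeries k) where
  carrier := {f | (j : ℕ∞) ≤ PowerSeries.order f}
  add_mem' ha hb := le_trans (le_min ha hb) (PowerSeries.min_order_le_order_add _ _)
  zero_mem' := by simp
  smul_mem' a f hf := by
    show (j : ℕ∞) ≤ PowerSeries.order (a • f)
    rw [Algebra.smul_def, PowerSeries.order_mul]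
    exact le_trans hf le_add_self

include hcond K in
/-- The value set of the dual of a lattice. -/
theorem valueSet_dual [IsAlgClosed k] (hk : ∀ a : k, ∃ b : O, algebraMap O (PowerSeries k) b = PowerSeries.C a)
    (hc0 : c ≠ 0) (hc1 : ∀ a : O, PowerSeries.order (algebraMap O (PowerSeries k) a) ≠ ((c - 1 : ℕ) : ℕ∞))
    (hG : ¬ LocCoh.IsGorensteinLocalRing O)
    (ω : Submodule O (PowerSeries k)) (hω1 : (1 : PowerSeries k) ∈ ω) (hωfg : ω.FG)
    (hωinj : HasInjectiveDimensionLT (ModuleCat.of O ↥ω) 2) (M : Submodule O (PowerSeries k)) (hMfg : M.FG)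
    (n : ℕ) :
    (∃ u : PowerSeries k, PowerSeries.order u = n ∧ ∀ m ∈ M, u * m ∈ ω) ↔
      (c ≤ n ∨ ¬ ∃ m ∈ M, PowerSeries.order m = ((c - 1 - n : ℕ) : ℕ∞)) := by
  classical
  have hAω : ∀ f : PowerSeries k, (c : ℕ∞) ≤ PowerSeries.order f → f ∈ ω := fun f hf => by
    obtain ⟨a, rfl⟩ := hcond f hf
    have := ω.smul_mem a hω1
    rwa [Algebra.smul_def, mul_one] at this
  have hbig : ∀ n, c ≤ n → ∃ u : PowerSeries k, PowerSeries.order u = n ∧ ∀ m ∈ M, u * m ∈ ω := fun n hn =>
    ⟨PowerSeries.X ^ n, PowerSeries.order_X_pow n, fun m _ => hAω _ ((by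
      rw [PowerSeries.order_mul, PowerSeries.order_X_pow]
      exact le_trans (by exact_mod_cast hn) le_self_add))⟩
  by_cases hn : c ≤ n
  · exact iff_of_true (hbig n hn) (Or.inl hn)
  rw [or_iff_right hn]
  let j := c - 1 - n
  -- the ring
  haveI : IsLocalRing O := isLocalRing_alg k O
  haveI : IsNoetherianRing O := isNoetherianRing_alg k O
  haveI : IsAlgClosed (ResidueField O) := isAlgClosed_residueField k O hk
  haveI := isFractionRing_field k O hcond K
  have hdim := ringKrullDim_alg k O hcond
  let T := Subalgebra.toSubmodule (integralClosure O K)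
  have hTr : T = LinearMap.range (ι k O K) := toSubmodule_integralClosure k O K
  haveI : Module.Finite O T := by
    rw [hTr]; exact Module.Finite.range (ι k O K)
  haveI : IsNoetherian O (PowerSeries k) := isNoetherian_of_isNoetherianRing_of_finite _ _
  let ωK : Submodule O K := ω.map (ι k O K)
  have h1 : (1 : Submodule O K) ≤ ωK := by
    rw [Submodule.one_le]
    exact ⟨1, hω1, map_one (algebraMap (PowerSeries k) K)⟩
  have h2 : ωK ≤ T := hTr ▸ LinearMap.map_le_range
  have hωKinj : HasInjectiveDimensionLT (ModuleCat.of O ↥ωK) 2 := by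
    haveI := hωinj
    exact hasInjectiveDimensionLT_of_iso (Submodule.equivMapOfInjective (ι k O K) (ι_injective k O K) ω).toModuleIso 2
  have hωKfg : ωK.FG := hωfg.map _
  have hωK0 : ωK ≠ ⊥ := fun h => by
    have h1' : (1 : K) ∈ (⊥ : Submodule O K) := h ▸ h1 (Submodule.one_le.1 le_rfl)
    exact one_ne_zero ((Submodule.mem_bot _).1 h1')
  obtain ⟨hdiv1, hωω, ht⟩ := LatticeDual11.socle_length_one ωK hdim inferInstance hωKfg hωKinj hG h1 h2
  -- the dual of the normalization is the conductor
  have hdualT : ∀ i : ℕ, i ≤ c → ∀ y : K,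
      y ∈ ωK / (ordGE k O i).map (ι k O K) ↔ y ∈ (ordGE k O (c - i)).map (ι k O K) := by
    intro i hi y
    constructor
    · intro hy
      rw [Submodule.mem_div_iff_forall_mul_mem] at hy
      have hy' : ι k O K (PowerSeries.X ^ i) * y ∈ ωK / T := Submodule.mem_div_iff_forall_mul_mem.2 fun z hz => by
        obtain ⟨g, rfl⟩ := hTr ▸ hz
        rw [mul_comm _ y, mul_assoc, ← ι_mul]
        exact hy _ ⟨_, (show (i : ℕ∞) ≤ _ by rw [PowerSeries.order_mul, PowerSeries.order_X_pow]; exact le_self_add), rfl⟩
      obtain ⟨a, hfy⟩ := Submodule.mem_one.1 ((hωω ▸ LatticeDual11.div_mono ωK h2) hy')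
      obtain ⟨f, hf⟩ : ∃ f, f = algebraMap O (PowerSeries k) a := ⟨_, rfl⟩
      have hfy' : ι k O K f = ι k O K (PowerSeries.X ^ i) * y := by
        rw [← hfy, hf]; exact (IsScalarTower.algebraMap_apply O (PowerSeries k) K a).symm
      have hord : (c : ℕ∞) ≤ PowerSeries.order f := by
        by_contra hlt
        push Not at hlt
        obtain ⟨d, hd⟩ := ENat.ne_top_iff_exists.mp hlt.ne_top
        rw [← hd, Nat.cast_lt] at hlt
        have hmem : ι k O K f * ι k O K (PowerSeries.X ^ (c - 1 - d)) ∈ (1 : Submodule O K) := by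
          rw [← hωω, Submodule.mem_div_iff_forall_mul_mem]
          intro w hw
          obtain ⟨w', -, rfl⟩ := hw
          rw [mul_assoc, ← ι_mul, hfy']
          exact Submodule.mem_div_iff_forall_mul_mem.1 hy' _ (hTr ▸ ⟨_, rfl⟩)
        obtain ⟨g, hge⟩ := Submodule.mem_one.1 hmem
        have hgf : algebraMap O (PowerSeries k) g = f * PowerSeries.X ^ (c - 1 - d) :=
          ι_injective k O K (((IsScalarTower.algebraMap_apply O (PowerSeries k) K g).symm.trans hge).trans
            (ι_mul k O K _ _).symm)
        refine hc1 g ?_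
        rw [hgf, PowerSeries.order_mul, PowerSeries.order_X_pow, ← hd, ← Nat.cast_add]
        exact_mod_cast (show d + (c - 1 - d) = c - 1 by omega)
      have hdvd : (PowerSeries.X : PowerSeries k) ^ i ∣ f :=
        PowerSeries.X_pow_dvd_iff.2 fun t ht => PowerSeries.coeff_of_lt_order t
          (lt_of_lt_of_le (by exact_mod_cast (by omega : t < c)) hord)
      obtain ⟨g, rfl⟩ := hdvd
      refine ⟨g, ?_, ?_⟩
      · rw [PowerSeries.order_mul, PowerSeries.order_X_pow] at hord
        show ((c - i : ℕ) : ℕ∞) ≤ PowerSeries.order g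
        generalize PowerSeries.order g = o' at hord ⊢
        induction o' using ENat.recTopCoe with
        | top => exact le_top
        | coe o =>
          have : c ≤ i + o := by exact_mod_cast hord
          exact_mod_cast (by omega : c - i ≤ o)
      · have h0 : ι k O K (PowerSeries.X ^ i) ≠ 0 := fun h =>
          pow_ne_zero i PowerSeries.X_ne_zero (ι_injective k O K (h.trans (map_zero _).symm))
        exact mul_left_cancel₀ h0 ((ι_mul k O K _ _).symm.trans hfy')
    · rintro ⟨g, hg, rfl⟩
      rw [Submodule.mem_div_iff_forall_mul_mem]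
      rintro _ ⟨h, hh, rfl⟩
      rw [← ι_mul]
      refine ⟨_, hAω _ ?_, rfl⟩
      rw [PowerSeries.order_mul]
      calc (c : ℕ∞) = ((c - i : ℕ) : ℕ∞) + (i : ℕ∞) := by exact_mod_cast (show c = c - i + i by omega)
        _ ≤ _ := add_le_add hg hh
  -- the two lattices
  let L := (M ⊔ ordGE k O (j + 1)).map (ι k O K)
  let M' := (M ⊔ ordGE k O j).map (ι k O K)
  have hmono : ordGE k O (j + 1) ≤ ordGE k O j := fun f hf =>
    show (j : ℕ∞) ≤ PowerSeries.order f from le_trans (by exact_mod_cast j.le_succ) (show ((j + 1 : ℕ) : ℕ∞) ≤ _ from hf)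
  have hLM : L ≤ M' := Submodule.map_mono (sup_le_sup_left hmono M)
  have hfin : ∀ S : Submodule O (PowerSeries k), Module.Finite O (S.map (ι k O K)) := fun S =>
    Module.Finite.iff_fg.2 ((IsNoetherian.noetherian S).map _)
  haveI : Module.Finite O M' := hfin _
  have hqne : LatticeDual11.qlen L M' ≠ ⊤ := by
    refine Module.length_ne_top_iff.2 (LatticeDual11.isFiniteLength_quot (L := L) (M := M') hdim
      (Classical.choose (hcond (PowerSeries.X ^ (c + j + 1))
        (by rw [PowerSeries.order_X_pow]; exact_mod_cast (by omega : c ≤ c + j + 1))))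
      (fun h => by
        have hs := Classical.choose_spec (hcond (PowerSeries.X ^ (c + j + 1))
          (by rw [PowerSeries.order_X_pow]; exact_mod_cast (by omega : c ≤ c + j + 1)))
        rw [h, map_zero] at hs
        exact pow_ne_zero _ PowerSeries.X_ne_zero hs.symm) ?_)
    rintro _ ⟨f, -, rfl⟩
    rw [← map_smul]
    refine ⟨_, Submodule.mem_sup_right ?_, rfl⟩
    show _ ≤ PowerSeries.order (Classical.choose _ • f)
    rw [Algebra.smul_def, Classical.choose_spec (hcond (PowerSeries.X ^ (c + j + 1))
      (by rw [PowerSeries.order_X_pow]; exact_mod_cast (by omega : c ≤ c + j + 1))), PowerSeries.order_mul, PowerSeries.order_X_pow]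
    exact le_trans (by exact_mod_cast (by omega : j + 1 ≤ c + j + 1)) le_self_add
  obtain ⟨N, hN⟩ : ∃ N : ℕ, LatticeDual11.qlen L M' = N := ⟨_, (ENat.coe_toNat hqne).symm⟩
  have hdual := LatticeDual11.qlen_div ωK hdim inferInstance hωK0 hωKfg hωKinj N hLM hN
  rw [ht, mul_one, ← hN] at hdual
  have hdivmem : ∀ (i : ℕ), i ≤ c → ∀ y, y ∈ ωK / (M ⊔ ordGE k O i).map (ι k O K) ↔
      (∃ u : PowerSeries k, ι k O K u = y ∧ ((c - i : ℕ) : ℕ∞) ≤ PowerSeries.order u ∧ ∀ m ∈ M, u * m ∈ ω) := by
    intro i hi y
    constructor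
    · intro hy
      obtain ⟨u, hu, rfl⟩ := (hdualT i hi y).1
        (LatticeDual11.div_mono ωK (Submodule.map_mono le_sup_right) hy)
      refine ⟨u, rfl, hu, fun m hm => ?_⟩
      obtain ⟨w, hw, hwe⟩ := Submodule.mem_div_iff_forall_mul_mem.1 hy _ ⟨m, Submodule.mem_sup_left hm, rfl⟩
      rwa [← ι_injective k O K (hwe.trans (ι_mul k O K _ _).symm)]
    · rintro ⟨u, rfl, hu, hum⟩
      rw [Submodule.mem_div_iff_forall_mul_mem]
      rintro _ ⟨_, hs, rfl⟩
      obtain ⟨m, hm, g, hg, rfl⟩ := Submodule.mem_sup.1 hs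
      rw [map_add, mul_add, ← ι_mul]
      exact add_mem ⟨_, hum m hm, rfl⟩
        (Submodule.mem_div_iff_forall_mul_mem.1 ((hdualT i hi _).2 ⟨u, hu, rfl⟩) _ ⟨g, hg, rfl⟩)
  have hj1 : c - (j + 1) = n := by omega
  have hj0 : c - j = n + 1 := by omega
  -- the two conditions as vanishing of lengths
  have hleft : LatticeDual11.qlen (ωK / M') (ωK / L) = 0 ↔
      ¬ ∃ u : PowerSeries k, PowerSeries.order u = n ∧ ∀ m ∈ M, u * m ∈ ω := by
    constructor
    · rintro h ⟨u, hu, hum⟩
      have heq := LatticeDual11.qlen_eq_zero (LatticeDual11.div_mono ωK hLM) h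
      have hmem : ι k O K u ∈ ωK / L := (hdivmem (j + 1) (by omega) _).2 ⟨u, rfl, by rw [hj1, hu], hum⟩
      rw [← heq] at hmem
      obtain ⟨u', hu', hord, -⟩ := (hdivmem j (by omega) _).1 hmem
      rw [ι_injective k O K hu', hu, hj0] at hord
      exact absurd hord (by exact_mod_cast (by omega : ¬ n + 1 ≤ n))
    · intro h
      have heq : ωK / M' = ωK / L := by
        refine le_antisymm (LatticeDual11.div_mono ωK hLM) fun y hy => ?_
        obtain ⟨u, rfl, hord, hum⟩ := (hdivmem (j + 1) (by omega) y).1 hy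
        refine (hdivmem j (by omega) _).2 ⟨u, rfl, ?_, hum⟩
        rw [hj0]
        rw [hj1] at hord
        rcases eq_or_lt_of_le hord with he | hlt
        · exact absurd ⟨u, he.symm, hum⟩ h
        · rw [Nat.cast_add, Nat.cast_one]
          exact Order.add_one_le_of_lt hlt
      rw [heq, LatticeDual11.qlen_self]
  have hright : LatticeDual11.qlen L M' = 0 ↔ ∃ m ∈ M, PowerSeries.order m = (j : ℕ∞) := by
    constructor
    · intro h
      have heq := LatticeDual11.qlen_eq_zero hLM h
      have hmem : ι k O K (PowerSeries.X ^ j) ∈ L :=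
        heq ▸ ⟨_, Submodule.mem_sup_right (show (j : ℕ∞) ≤ _ by rw [PowerSeries.order_X_pow]), rfl⟩
      obtain ⟨_, hs, hse⟩ := hmem
      obtain ⟨m, hm, g, hg, rfl⟩ := Submodule.mem_sup.1 hs
      refine ⟨m, hm, ?_⟩
      have hmg := ι_injective k O K hse
      have hm' : m = PowerSeries.X ^ j + -g := by rw [← hmg]; abel
      rw [hm', PowerSeries.order_add_of_order_ne, PowerSeries.order_X_pow, PowerSeries.order_neg]
      · exact min_eq_left (le_trans (by exact_mod_cast j.le_succ) hg)
      · rw [PowerSeries.order_X_pow, PowerSeries.order_neg]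
        intro he
        have : ((j + 1 : ℕ) : ℕ∞) ≤ (j : ℕ∞) := he ▸ hg
        exact absurd this (by exact_mod_cast (by omega : ¬ j + 1 ≤ j))
    · rintro ⟨m, hm, hmo⟩
      have heq : L = M' := by
        refine le_antisymm hLM (Submodule.map_mono (sup_le le_sup_left fun g hg => ?_))
        have hne := (PowerSeries.order_eq_nat.1 hmo).1
        obtain ⟨a, ha⟩ := hk (PowerSeries.coeff j g / PowerSeries.coeff j m)
        have hg' : g - a • m ∈ ordGE k O (j + 1) := PowerSeries.nat_le_order _ _ fun t ht => by
          rw [Algebra.smul_def, ha, map_sub, PowerSeries.coeff_C_mul]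
          rcases Nat.lt_succ_iff_lt_or_eq.1 ht with h | rfl
          · rw [PowerSeries.coeff_of_lt_order t (lt_of_lt_of_le (by exact_mod_cast h) hg),
              PowerSeries.coeff_of_lt_order t (by rw [hmo]; exact_mod_cast h), mul_zero, sub_zero]
          · rw [div_mul_cancel₀ _ hne, sub_self]
        rw [← sub_add_cancel g (a • m)]
        exact add_mem (Submodule.mem_sup_right hg') (Submodule.mem_sup_left (M.smul_mem a hm))
      rw [heq, LatticeDual11.qlen_self]
  rw [hdual] at hleft
  rw [← hright, hleft, not_not]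

end GrothLib.ValueDual11
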